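import Cfsg.Agent.Lib.R1.Main
import Cfsg.Agent.Lib.CI2.Basic
import Cfsg.Agent.Lib.SC.Solv
import Cfsg.Agent.Lib.Walter.Basic

/-!
# Abelian Sylow 2-intersections: basic facts, essential subgroups, Alperin's theorem
-/

set_option autoImplicit false
set_option linter.unusedSectionVars false

namespace Cfsg.Lib.AbInt
open Subgroup Cfsg Cfsg.Lib Cfsg.Lib.FT Cfsg.Lib.R1
open scoped commutatorElement

variable {G : Type*} [Group G]

/-- two non-commuting elements lie in at most one Sylow 2-subgroup -/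
def AI (G : Type*) [Group G] : Prop :=
  ∀ S T : Subgroup G, Syl S → Syl T → ∀ x ∈ S, ∀ y ∈ S, x ∈ T → y ∈ T → x * y ≠ y * x → S = T

theorem cN {X : Subgroup G} {g x : G} (hg : g ∈ N[X]) (hx : x ∈ X) : g * x * g⁻¹ ∈ X :=
  (mem_normalizer_iff.1 hg x).1 hx

theorem cN' {X : Subgroup G} {g x : G} (hg : g ∈ N[X]) (hx : x ∈ X) : g⁻¹ * x * g ∈ X :=
  (mem_normalizer_iff''.1 hg x).1 hx

theorem cC {X : Subgroup G} {g x : G} (hg : g ∈ C[X]) (hx : x ∈ X) : x * g = g * x :=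
  mem_centralizer_iff.1 hg x hx

theorem mC {X : Subgroup G} {g : G} (h : ∀ x ∈ X, x * g = g * x) : g ∈ C[X] :=
  mem_centralizer_iff.2 h

theorem cI {X : Subgroup G} {g x : G} (hg : g ∈ X) (hx : x ∈ X) : g * x * g⁻¹ ∈ X :=
  mul_mem (mul_mem hg hx) (inv_mem hg)

theorem conj_comm_iff {g x y : G} : g * x * g⁻¹ * (g * y * g⁻¹) = g * y * g⁻¹ * (g * x * g⁻¹) ↔ x * y = y * x := by
  constructor
  · intro h
    calc x * y = g⁻¹ * (g * x * g⁻¹ * (g * y * g⁻¹)) * g := by group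
      _ = y * x := by rw [h]; group
  · intro h
    calc _ = g * (x * y) * g⁻¹ := by group
      _ = _ := by rw [h]; group

variable [Finite G]

theorem mN {X : Subgroup G} {g : G} (h : ∀ x ∈ X, g * x * g⁻¹ ∈ X) : g ∈ N[X] :=
  pg_mem_normalizer_of_conj_mem h

theorem ai_of_sylow
    (hA : ∀ S T : Sylow 2 G, S ≠ T → IsMulCommutative ↥((S : Subgroup G) ⊓ (T : Subgroup G))) : AI G := by
  intro S T hS hT x hx y hy hx' hy' hne
  obtain ⟨S, rfl⟩ := hS.exists_sylow_top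
  obtain ⟨T, rfl⟩ := hT.exists_sylow_top
  by_contra e
  exact hne (comm_of_isMulCommutative (hA S T fun h => e (by rw [h])) ⟨hx, hx'⟩ ⟨hy, hy'⟩)

namespace AI
variable (h : AI G)
include h

theorem subgroup (X : Subgroup G) : AI X := by
  intro P Q hP hQ x hx y hy hx' hy' hne
  obtain ⟨S, hS, rfl⟩ := hP.exists_sub
  obtain ⟨T, hT, rfl⟩ := hQ.exists_sub
  rw [h S T hS hT x hx y hy hx' hy' fun e => hne (Subtype.ext e)]

theorem of_surjective {X : Type*} [Group X] {f : G →* X} (hf : Function.Surjective f) : AI X := by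
  intro P Q hP hQ x hx y hy hx' hy' hne
  by_contra e
  obtain ⟨P', Q', hP', hQ', h1, h2⟩ := exists_sylow_lift_inf hf hP hQ e
  obtain ⟨a, ha, rfl⟩ := h2 ⟨hx, hx'⟩
  obtain ⟨b, hb, rfl⟩ := h2 ⟨hy, hy'⟩
  exact h1 (h _ _ hP' hQ' a ha.1 b hb.1 ha.2 hb.2 fun e => hne (by rw [← map_mul, e, map_mul]))

variable {S : Subgroup G} (hS : Syl S)
include hS

theorem norm {x y g : G} (hx : x ∈ S) (hy : y ∈ S) (hne : x * y ≠ y * x) (h1 : g * x * g⁻¹ ∈ S)
    (h2 : g * y * g⁻¹ ∈ S) : g ∈ N[S] :=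
  conj_eq_iff_mem_normalizer.1 (h _ _ (hS.conj g) hS _ (conj_mem_conj hx g) _ (conj_mem_conj hy g) h1 h2
    fun e => hne (conj_comm_iff.1 e))

theorem N_le {D : Subgroup G} (hD : D ≤ S) (hn : ¬ D ≤ C[D]) : N[D] ≤ N[S] := by
  intro g hg
  simp only [SetLike.le_def, mem_centralizer_iff, not_forall] at hn
  obtain ⟨x, hx, y, hy, hne⟩ := hn
  exact h.norm hS (hD hy) (hD hx) hne (hD (cN hg hy)) (hD (cN hg hx))

theorem le {x y : G} (hx : x ∈ S) (hy : y ∈ S) (hne : x * y ≠ y * x) {P : Subgroup G} (hP : IsPGroup 2 P)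
    (h1 : x ∈ P) (h2 : y ∈ P) : P ≤ S := by
  obtain ⟨T, hT, h3⟩ := exists_isSylowIn_ge hP le_top
  rw [h S T hS hT x hx y hy (h3 h1) (h3 h2) hne]; exact h3

/-- an element of an `S`-invariant subgroup of odd order centralizing two non-commuting elements of `S`
centralizes `S` -/
theorem kk {Y : Subgroup G} (hY : Odd (Nat.card Y)) (hn : S ≤ N[Y]) {a b y : G} (ha : a ∈ S) (hb : b ∈ S)
    (hne : a * b ≠ b * a) (hy : y ∈ Y) (h1 : y * a = a * y) (h2 : y * b = b * y) : y ∈ C[S] := by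
  have h3 : y ∈ N[S] := h.norm hS ha hb hne (by rw [h1]; simpa) (by rw [h2]; simpa)
  refine mC fun s hs => ?_
  have : s * y * s⁻¹ * y⁻¹ ∈ S ⊓ Y :=
    ⟨by simpa [mul_assoc] using mul_mem hs (cN h3 (inv_mem hs)), Y.mul_mem (cN (hn hs) hy) (Y.inv_mem hy)⟩
  rw [Wal.inf_eq_bot_of_odd hS.isPGroup hY, mem_bot, mul_inv_eq_one, mul_inv_eq_iff_eq_mul] at this
  exact this

end AI

theorem exists_odd_pow (g : G) : ∃ k : ℕ, Odd (orderOf (g ^ 2 ^ k)) := by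
  obtain ⟨k, hk⟩ := exists_pow_coprime_orderOf (p := 2) g
  exact ⟨k, Nat.coprime_two_right.1 hk⟩

theorem odd_zp {m : G} (h : Odd (orderOf m)) : ¬ 2 ∣ Nat.card (zpowers m) := by
  rw [Nat.card_zpowers]; exact fun e => (Nat.not_even_iff_odd.2 h) (even_iff_two_dvd.2 e)

theorem cop {m : G} (h : Odd (orderOf m)) {K : Subgroup G} (hK : IsPGroup 2 K) (hn : m ∈ N[K]) :
    CoprimeAct (zpowers m) K := CoprimeAct.of_isPGroup_right hK (odd_zp h) (zpowers_le.2 hn)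

/-- an element of odd order acting trivially on `W` and on `Ω/W` centralizes `Ω` -/
theorem odd_stab {W Ω : Subgroup G} (hΩ : IsPGroup 2 Ω) (hW : W ≤ Ω) {m : G} (hm : Odd (orderOf m))
    (h1 : m ∈ C[W]) (h2 : m ∈ commInto W Ω) : m ∈ C[Ω] := by
  have hn : m ∈ N[Ω] := mN fun x hx => by
    simpa [commutatorElement_def] using mul_mem (hW (h2.2 x hx)) hx
  have h3 : ⁅zpowers m, Ω⁆ ≤ W := (le_commInto_iff.1 (zpowers_le.2 h2)).2
  rw [commutator_comm] at h3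
  exact le_centralizer_iff.1 ((cop hm hΩ hn).le_centralizer_of_commutator_le_centralizer
    (h3.trans (le_centralizer_iff.1 (zpowers_le.2 h1)))) (mem_zpowers m)

/-- an element of odd order centralizing the involutions of an abelian 2-group centralizes it -/
theorem odd_om {K : Subgroup G} (hK : IsPGroup 2 K) (hc : K ≤ C[K]) {m : G} (hm : Odd (orderOf m))
    (hn : m ∈ N[K]) (h : ∀ k ∈ K, k * k = 1 → k * m = m * k) : m ∈ C[K] := by
  have h1 := cop hm hK hn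
  have h2 := commutator_inf_centralizer_eq_bot_of_comm (zpowers_le.2 hn) h1.cop
    (isMulCommutative_iff_le_centralizer.2 hc)
  have h3 : ⁅K, zpowers m⁆ = ⊥ := by
    by_contra e
    obtain ⟨t, ht, h4⟩ := Wal.exists_invol (hK.to_le h1.commutator_le) e
    have : t ∈ ⁅K, zpowers m⁆ ⊓ C[zpowers m] :=
      ⟨ht, by rw [centralizer_zpowers]; exact mem_C1.2 (h t (h1.commutator_le ht) (Wal.sq2 h4))⟩
    rw [h2] at this
    exact Wal.ne1 h4 this
  exact le_centralizer_iff.1 (commutator_eq_bot_iff_le_centralizer.1 h3) (mem_zpowers m)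

/-- an essential subgroup of `S` -/
structure Ess (S K : Subgroup G) : Prop where
  ai : AI G
  syl : Syl S
  le : K ≤ S
  comm : K ≤ C[K]
  fn : IsSylowIn 2 (S ⊓ N[K]) N[K]
  cen : S ⊓ C[K] ≤ K
  nc : ¬ N[K] ≤ N[S ⊓ N[K] ⊔ C[K]]

/-- **Alperin's theorem** -/
theorem AI.fusion (h : AI G) {S : Subgroup G} (hS : Syl S) (r : G → G → Prop) (refl : ∀ x, r x x)
    (trans : ∀ x y z, r x y → r y z → r x z) (h1 : ∀ g ∈ N[S], ∀ x ∈ S, r x (g * x * g⁻¹))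
    (h2 : ∀ K, Ess S K → ∀ g ∈ N[K], ∀ x ∈ K, r x (g * x * g⁻¹)) {x g : G} (hx : x ∈ S)
    (hg : g * x * g⁻¹ ∈ S) : r x (g * x * g⁻¹) := by
  obtain ⟨P, rfl⟩ := hS.exists_sylow_top
  refine alperin_fusion P (fun R g => ∀ x ∈ R, r x (g * x * g⁻¹)) (fun R R' g h1 h2 x hx => h2 x (h1 hx))
    (fun R g k h1 h2 x hx => trans _ _ _ (h1 x hx) (by simpa [mul_assoc] using h2 _ (conj_mem_conj hx g)))
    (fun R c hc x hx => by rw [← cC hc hx, mul_inv_cancel_right]; exact refl x) ?_ (zpowers x)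
    (zpowers_le.2 hx) g (by rw [conj_zpowers]; exact zpowers_le.2 hg) x (mem_zpowers x)
  intro Q hQ hf hr g hg x hx
  by_cases hc : Q ≤ C[Q]
  swap
  · exact h1 g (h.N_le hS hQ hc hg) x (hQ hx)
  by_cases hn : N[Q] ≤ N[(P : Subgroup G) ⊓ N[Q] ⊔ C[Q]]
  swap
  · exact h2 Q ⟨h, hS, hQ, hc, hf, hr.centric hQ hf, hn⟩ g hg x hx
  have h3 : (P : Subgroup G) ⊓ N[Q] ≤ Q := by
    refine hr _ (le_inf hQ le_normalizer) inf_le_left inf_le_right fun n hn' => ?_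
    obtain ⟨k, hk, e⟩ := (hf.mono le_sup_left (sup_le inf_le_right (centralizer_le_normalizer _))
      ).exists_mul_mem_normalizer (hn hn')
    obtain ⟨c, hc, a, ha, rfl⟩ := (mem_sup_of_le_normalizer_left (inf_le_right.trans
      (normalizer_le_normalizer_centralizer _))).1 (sup_comm _ C[Q] ▸ hk)
    exact ⟨c, hc, mem_of_mem_of_eq (mul_mem (le_normalizer ha) e) (by group)⟩
  have h4 : Q = P := by
    by_contra e
    exact (lt_inf_normalizer P.isPGroup'.isNilpotent (lt_of_le_of_ne hQ e)).not_ge h3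
  exact h1 g (h4 ▸ hg) x (hQ hx)

namespace Ess
variable {S K : Subgroup G} (h : Ess S K)
include h

theorem pK : IsPGroup 2 K := h.syl.isPGroup.to_le h.le
theorem KR : K ≤ S ⊓ N[K] := le_inf h.le le_normalizer
theorem cm {x y : G} (hx : x ∈ K) (hy : y ∈ K) : x * y = y * x := cC (h.comm hy) hx
theorem RC_le : S ⊓ N[K] ⊔ C[K] ≤ N[K] := sup_le inf_le_right (centralizer_le_normalizer _)

theorem mem_RC {x : G} : x ∈ S ⊓ N[K] ⊔ C[K] ↔ ∃ c ∈ C[K], ∃ a ∈ S ⊓ N[K], c * a = x := by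
  rw [sup_comm]
  exact mem_sup_of_le_normalizer_left (inf_le_right.trans (normalizer_le_normalizer_centralizer _))

theorem exists_nc {x : G} (hx : x ∈ S) (h1 : x ∉ K) : ∃ k ∈ K, k * x ≠ x * k := by
  by_contra e
  push Not at e
  exact h1 (h.cen ⟨hx, mC e⟩)

theorem conj (g : G) : Ess (g •ᶜ S) (g •ᶜ K) where
  ai := h.ai
  syl := h.syl.conj g
  le := map_mono h.le
  comm := by rw [← conj_centralizer]; exact map_mono h.comm
  fn := by rw [← conj_normalizer, ← conj_inf]; exact h.fn.map_conj g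
  cen := by rw [← conj_centralizer, ← conj_inf]; exact map_mono h.cen
  nc := by
    rw [← conj_normalizer, ← conj_inf, ← conj_centralizer, ← conj_sup, ← conj_normalizer, conj_le_conj_iff]
    exact h.nc

theorem conj' {g : G} (hg : g ∈ N[S]) : Ess S (g •ᶜ K) := by
  have := h.conj g
  rwa [conj_eq_iff_mem_normalizer.2 hg] at this

theorem not_le : ¬ S ⊓ N[K] ≤ K := fun e => h.nc (by
  rw [sup_eq_right.2 (e.trans h.comm)]; exact normalizer_le_normalizer_centralizer _)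

theorem N_R : N[S ⊓ N[K]] ≤ N[S] := h.ai.N_le h.syl inf_le_left fun e =>
  h.not_le fun _ hx => h.cen ⟨hx.1, centralizer_mono h.KR (e hx)⟩

theorem le_NRC : N[K] ⊓ N[S] ≤ N[S ⊓ N[K] ⊔ C[K]] :=
  le_normalizer_sup (le_normalizer_inf inf_le_right (inf_le_left.trans le_normalizer))
    (inf_le_left.trans (normalizer_le_normalizer_centralizer _))

/-- `N(K)/C(K)` has TI Sylow 2-subgroups -/
theorem ti {x g : G} (hx : x ∈ S ⊓ N[K]) (h1 : x ∉ K) (hg : g ∈ N[K])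
    (h2 : g * x * g⁻¹ ∈ S ⊓ N[K] ⊔ C[K]) : g ∈ N[S ⊓ N[K] ⊔ C[K]] := by
  have hp : IsPGroup 2 ↥(g •ᶜ (K ⊔ zpowers x)) :=
    isPGroup_conj_iff.2 (h.syl.isPGroup.to_le (sup_le h.le (zpowers_le.2 hx.1)))
  obtain ⟨c, hc, e⟩ := (h.fn.mono le_sup_left h.RC_le).exists_conj_le hp (by
    rw [conj_sup, conj_zpowers, conj_eq_iff_mem_normalizer.2 hg]
    exact sup_le (h.KR.trans le_sup_left) (zpowers_le.2 h2))
  rw [conj_conj] at e
  obtain ⟨k, hk, hne⟩ := h.exists_nc hx.1 h1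
  have h3 : c * g ∈ N[S] := h.ai.norm h.syl (h.le hk) hx.1 hne (e (conj_mem_conj (mem_sup_left hk) _)).1
    (e (conj_mem_conj (mem_sup_right (mem_zpowers x)) _)).1
  exact (mul_mem_cancel_left (le_normalizer hc)).1 (h.le_NRC ⟨mul_mem (h.RC_le hc) hg, h3⟩)

theorem two {X : Subgroup G} (h1 : K ≤ X) (h2 : X ≤ N[K]) {x : G} (hx : x ∈ S) (h3 : x ∉ K)
    (h4 : x ∈ X) (h5 : ∀ n ∈ X, Odd (orderOf n) → n ∈ C[K]) : X ≤ S ⊓ N[K] ⊔ C[K] := by
  obtain ⟨P, hP, h6⟩ := exists_isSylowIn_ge (h.syl.isPGroup.to_le (sup_le h.le (zpowers_le.2 hx)))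
    (sup_le h1 (zpowers_le.2 h4))
  obtain ⟨k, hk, hne⟩ := h.exists_nc hx h3
  have h7 := h.ai.le h.syl (h.le hk) hx hne hP.isPGroup (h6 (mem_sup_left hk))
    (h6 (mem_sup_right (mem_zpowers x)))
  intro n hn
  obtain ⟨c, hc, e⟩ := hP.exists_mul_of_pow_mem (h2.trans (normalizer_le_normalizer_centralizer _))
    (fun n hn => (exists_odd_pow n).imp fun j hj => h5 _ (pow_mem hn _) hj) n hn
  exact h.mem_RC.2 ⟨c, hc, _, ⟨h7 e, h2 (hP.le e)⟩, by group⟩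

theorem stab {W Ω : Subgroup G} (hW : W ≤ Ω) (hΩ : Ω ≤ K) (ho : ∀ k ∈ K, k * k = 1 → k ∈ Ω) {x : G}
    (hx : x ∈ S) (h3 : x ∉ K) (h4 : x ∈ N[K] ⊓ C[W] ⊓ commInto W Ω) :
    N[K] ⊓ C[W] ⊓ commInto W Ω ≤ S ⊓ N[K] ⊔ C[K] := by
  have hc : K ≤ C[W] := h.comm.trans (centralizer_mono (hW.trans hΩ))
  refine h.two (le_inf (le_inf le_normalizer hc) fun k hk => ⟨centralizer_le_normalizer _ (hc hk), fun c hc => ?_⟩)
    (inf_le_left.trans inf_le_left) hx h3 h4 fun n hn ho' => odd_om h.pK h.comm ho' hn.1.1 fun k hk h2 =>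
      cC (odd_stab (h.pK.to_le hΩ) hW ho' hn.1.2 hn.2) (ho k hk h2)
  rw [commutatorElement_eq_one_iff_mul_comm.2 (h.cm hk (hΩ hc))]; exact one_mem _

/-- no element of `N_S(K) \ K` stabilizes an invariant chain `1 ≤ W ≤ Ω` with `Ω₁(K) ≤ Ω` -/
theorem nrm {W Ω : Subgroup G} (hW : W ≤ Ω) (hΩ : Ω ≤ K) (ho : ∀ k ∈ K, k * k = 1 → k ∈ Ω)
    (h1 : N[K] ≤ N[W]) (h2 : N[K] ≤ N[Ω]) {x : G} (hx : x ∈ S ⊓ N[K]) (h3 : x ∉ K) (h4 : x ∈ C[W])
    (h5 : ∀ c ∈ Ω, ⁅x, c⁆ ∈ W) : False := by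
  refine h.nc fun g hg => h.ti hx h3 hg (h.stab hW hΩ ho hx.1 h3 ⟨⟨hx.2, h4⟩, h1 hx.2, h5⟩ ⟨⟨cI hg hx.2, ?_⟩,
    cI (h1 hg) (h1 hx.2), fun c hc => ?_⟩)
  · exact cN (normalizer_le_normalizer_centralizer _ (h1 hg)) h4
  · exact mem_of_mem_of_eq (cN (h1 hg) (h5 _ (cN' (h2 hg) hc))) (by group)

end Ess

end Cfsg.Lib.AbInt
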