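import Cfsg.Agent.Lib.AbInt.Q2

/-!
# Non-normal essential subgroups have `q = 2`
-/

set_option autoImplicit false
set_option linter.unusedSectionVars false

namespace Cfsg.Lib.AbInt
open Subgroup Cfsg Cfsg.Lib Cfsg.Lib.FT Cfsg.Lib.R1 Cfsg.Lib.Wal Cfsg.Lib.GW
open scoped commutatorElement

variable {G : Type*} [Group G] [Finite G]

theorem AI.scl (h : AI G) {S A : Subgroup G} (hS : Syl S) (hA : A ≤ S) (h1 : N[S] ≤ N[A])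
    (h2 : ∀ K, Ess S K → ∀ g ∈ N[K], ∀ x ∈ K, x ∈ A → g * x * g⁻¹ ∈ A) : SCl A :=
  SCl.of_sylow hS fun x hx g hg => by
    have := h.fusion hS (fun a b => a ∈ A → b ∈ A) (fun _ => id) (fun _ _ _ f g e => g (f e))
      (fun g hg x _ => cN (h1 hg)) h2 (x := g * x * g⁻¹) (g := g⁻¹) (hA hg) (by simpa [mul_assoc]) hg
    simpa [mul_assoc] using this

theorem not_scl_two (hG : ∀ N : Subgroup G, N.index ≠ 2) {S M : Subgroup G} (hS : Syl S) (hM : M ≤ S)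
    (h : SCl M) {a : G} (ha : a ∈ S) (ha' : a ∉ M) (h2 : ∀ x ∈ S, ∀ y ∈ S, x ∉ M → y ∉ M → x * y ∈ M) : False :=
  (exists_index_two_of_closed hS (DD.relIndex_two ha ha' h2) (h S hS.isPGroup hM)).elim fun H e => hG H e.1

/-- the data of a non-normal essential subgroup with `q = 2` -/
structure Q2 (S K : Subgroup G) (v z c : G) : Prop where
  ess : Ess S K
  ch : Ch S K v z S c
  cc : c * c ≠ 1
  fix : ∀ n ∈ N[S] ⊓ N[K], n * v * n⁻¹ = v ∨ n * v * n⁻¹ = v * z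
  nW : N[K] ≤ N[zpowers v ⊔ zpowers z]
  dec : ∀ k ∈ K, ∃ w ∈ zpowers v ⊔ zpowers z, w * k ∈ K ⊓ C[o2 N[K]]
  zY : z ∉ K ⊓ C[o2 N[K]]

namespace NN
variable {S K : Subgroup G} {g : G} (h : NN S K g)
include h

local notation "R" => S ⊓ N[K]
local notation "L" => g •ᶜ K
local notation "U" => K ⊓ g •ᶜ K
local notation "Y" => K ⊓ C[o2 N[K]]

theorem mem_N {s x : G} (hs : s ∈ N[S]) (hx : x ∈ K) (hU : x ∉ U) (h1 : s * x * s⁻¹ ∈ K) :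
    s ∈ N[K] ∧ s * x * s⁻¹ ∉ U := by
  have e : S ⊓ C1[s * x * s⁻¹] = s •ᶜ K := by
    rw [← h.cent hx hU, conj_inf, conj_centralizer_singleton, conj_eq_iff_mem_normalizer.2 hs]
  have h2 : K ≤ s •ᶜ K := e ▸ le_inf h.le (h.comm.trans (centralizer_le_singleton h1))
  have h3 := (eq_of_le_of_card_ge h2 (card_conj _ _).le).symm
  refine ⟨conj_eq_iff_mem_normalizer.1 h3, fun hu => h.not_le ?_⟩
  exact (le_inf inf_le_left fun r hr => mem_C1.2 (h.cu hr hu).symm).trans (e.trans h3).le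

theorem exists_q2 (hq : ∀ x ∈ K, ∀ y ∈ K, x ∉ U → y ∉ U → x * y ∈ U) : ∃ v z c, Q2 S K v z c := by
  obtain ⟨x, hx, hU⟩ := h.exists_x
  obtain ⟨hb, hbK⟩ := h.sw h.gR h.gK hx hU
  have hq' : ∀ n ∈ N[K], ∀ x ∈ K, ∀ y ∈ K, x ∉ n •ᶜ U → y ∉ n •ᶜ U → x * y ∈ n •ᶜ U := fun n hn x hx y hy h1 h2 => by
    rw [mem_map_conj] at h1 h2 ⊢
    exact mem_of_mem_of_eq (hq _ (cN' hn hx) _ (cN' hn hy) h1 h2) (by group)
  have hqL : ∀ b ∈ L, b ∉ K → (g * x * g⁻¹)⁻¹ * b ∈ U := fun b hb h1 => by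
    refine mem_of_mem_of_eq (cN (h.NU h.gR) (hq _ (inv_mem hx) _ (mem_map_conj.1 hb) (by rwa [inv_mem_iff])
      fun e => h1 ?_)) (by group)
    simpa [mul_assoc] using (cN (h.NU h.gR) e).1
  generalize g * x * g⁻¹ = b at hb hbK hqL
  have zU := h.cmU hb hx
  have zY := h.o3 hx hU (h.LR hb) hbK
  have zz := h.fh.cm_sq hx (h.LR hb)
  have k1 : ∀ r ∈ R, ∀ k ∈ K, r * k * r⁻¹ * k⁻¹ = 1 ∨ r * k * r⁻¹ * k⁻¹ = b * x * b⁻¹ * x⁻¹ := fun r hr k hk => by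
    obtain ⟨a, ha, y, hy, rfl⟩ := h.dec hr
    by_cases h1 : a ∈ K
    · left; rw [h.cm (mul_mem h1 hy) hk]; group
    by_cases h2 : k ∈ U
    · left; rw [← h.cu hr h2]; group
    right
    have h3 := hqL a ha h1
    have h4 := hq _ (inv_mem hx) k hk (by rwa [inv_mem_iff]) h2
    calc _ = b * (b⁻¹ * a * y * k) * (b⁻¹ * a * y)⁻¹ * b⁻¹ * k⁻¹ := by group
      _ = b * x * (x⁻¹ * k * b⁻¹) * k⁻¹ := by rw [h.cm (mul_mem h3.1 hy) hk]; group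
      _ = _ := by rw [h.cu (inv_mem (h.LR hb)) h4]; group
  generalize hz : b * x * b⁻¹ * x⁻¹ = z at zU zY zz k1
  have z1 : z ≠ 1 := fun e => zY (e ▸ one_mem _)
  have k2 : ∀ n ∈ N[K], n ∈ N[R ⊔ C[K]] → n * z * n⁻¹ = z := fun n hn hM => by
    obtain ⟨c, hc, a, ha, e⟩ := h.mem_RC.1 (cN hM (mem_sup_left (h.LR hb)))
    have e1 : n * z * n⁻¹ = a * (n * x * n⁻¹) * a⁻¹ * (n * x * n⁻¹)⁻¹ := by
      calc _ = (n * b * n⁻¹) * (n * x * n⁻¹) * (n * b * n⁻¹)⁻¹ * (n * x * n⁻¹)⁻¹ := by rw [← hz]; group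
        _ = c * (a * (n * x * n⁻¹) * a⁻¹) * c⁻¹ * (n * x * n⁻¹)⁻¹ := by rw [← e]; group
        _ = _ := by rw [← cC hc (cN ha.2 (cN hn hx))]; group
    exact e1.trans ((k1 a ha _ (cN hn hx)).resolve_left fun e => z1 (by simpa using e1.trans e))
  obtain ⟨n₀, hn₀, hM⟩ := h.fh.exists_g
  have e6 := h.fh.o6 hn₀ hM
  rw [h.U_eq] at e6
  have vK := cN hn₀ zU.1
  have vU : n₀ * z * n₀⁻¹ ∉ U := fun e => zY (by
    simpa [mul_assoc] using cN' (h.N_Y hn₀) (e6.le ⟨e, conj_mem_conj zU n₀⟩))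
  have vv := sq_conj zz n₀
  have k3 : ∀ r ∈ R, r * (n₀ * z * n₀⁻¹) * r⁻¹ = n₀ * z * n₀⁻¹ ∨
      r * (n₀ * z * n₀⁻¹) * r⁻¹ = n₀ * z * n₀⁻¹ * z := fun r hr =>
    (k1 r hr _ vK).imp mul_inv_eq_one.1 fun e => by rw [eq_mul_of_mul_inv_eq e, h.cm zU.1 vK]
  have k4 : ∀ n ∈ N[K], n * z * n⁻¹ = z ∨ n * z * n⁻¹ = n₀ * z * n₀⁻¹ ∨ n * z * n⁻¹ = n₀ * z * n₀⁻¹ * z :=
    fun n hn => (h.fh.o5 hn₀ hM hn).imp (k2 n hn) fun ⟨a, ha, e⟩ => by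
      have := k2 _ (mul_mem (inv_mem hn) (mul_mem (h.LR ha).2 hn₀)) e
      have e2 : n * z * n⁻¹ = a * (n₀ * z * n₀⁻¹) * a⁻¹ := by
        nth_rewrite 1 [← this]; group
      exact e2 ▸ k3 a (h.LR ha)
  have k5 : ∀ n ∈ N[K], n * (n₀ * z * n₀⁻¹) * n⁻¹ = z ∨ n * (n₀ * z * n₀⁻¹) * n⁻¹ = n₀ * z * n₀⁻¹ ∨
      n * (n₀ * z * n₀⁻¹) * n⁻¹ = n₀ * z * n₀⁻¹ * z := fun n hn => by
    simpa only [mul_inv_rev, mul_assoc] using k4 _ (mul_mem hn hn₀)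
  have k6 : ∀ u ∈ U, u ∈ Y ∨ z * u ∈ Y := fun u hu => or_iff_not_imp_left.2 fun e => e6.le
    ⟨mul_mem zU hu, hq' _ hn₀ z zU.1 u hu.1 (fun e => zY (e6.le ⟨zU, e⟩)) fun e1 => e (e6.le ⟨hu, e1⟩)⟩
  generalize n₀ * z * n₀⁻¹ = v at vK vU vv k3 k4 k5
  have gd : Gd S K v z := ⟨h.syl.isPGroup, h.le vK, vv, h.cent vK vU, h.comm, z1, zz,
    fun s hs h1 => k3 s ⟨hs, (h.mem_N (le_normalizer hs) vK vU h1).1⟩, fun k hk e => zY (e ▸ h.fh.sq_Y hk)⟩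
  obtain ⟨c, hc⟩ := Ch.top (X := R) (c := z) ⟨gd, h.KR, inf_le_left, by
      rw [h.cm vK zU.1, mul_assoc, vv, mul_one, inv_eq zz], mem_zpowers z, fun r hr => by
      rcases k3 r hr with e | e <;> rw [e]
      · rw [vv]; exact one_mem _
      · rw [cl vv]; exact mem_zpowers z, fun d hd => by
      rcases (mem_zpowers_two zz).1 hd with rfl | rfl
      · exact ⟨1, one_mem _, by simp⟩
      · exact ⟨b, h.LR hb, (k3 b (h.LR hb)).resolve_left fun e =>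
          h.nc1 vK vU (h.LR hb) hbK (mul_inv_eq_iff_eq_mul.1 e)⟩⟩
  have mW : ∀ w, w = z ∨ w = v ∨ w = v * z → w ∈ zpowers v ⊔ zpowers z := by
    rintro _ (rfl | rfl | rfl)
    exacts [mem_sup_right (mem_zpowers _), mem_sup_left (mem_zpowers _),
      mul_mem (mem_sup_left (mem_zpowers _)) (mem_sup_right (mem_zpowers _))]
  refine ⟨v, z, c, h.toEss, hc, fun e => h.gK (h.mem_N (le_normalizer h.gS) vK vU ?_).1,
    fun n hn => (k5 n hn.2).resolve_left fun e => (h.mem_N hn.1 vK vU (cN hn.2 vK)).2 (e ▸ zU),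
    fun n hn => conj_eq_iff_mem_normalizer.1 (eq_of_le_of_card_ge ?_ (card_conj _ _).ge), fun k hk => ?_, zY⟩
  · rcases hc.eq_z (hc.cls g h.gS) (by
      rcases (mem_zpowers_two e).1 (hc.cls g h.gS) with e1 | e1 <;> simp [e1, e]) with e1 | e1
    · rw [eq_inv_of_mul_eq_one_right e1]; exact inv_mem vK
    · rw [← cl vv (g * v * g⁻¹), e1]; exact mul_mem vK zU.1
  · rw [conj_sup, conj_zpowers, conj_zpowers]
    exact sup_le (zpowers_le.2 (mW _ (k5 n hn))) (zpowers_le.2 (mW _ (k4 n hn)))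
  · by_cases e : k ∈ U
    · exact (k6 k e).elim (fun e => ⟨1, one_mem _, by simpa⟩) fun e => ⟨z, mW _ (Or.inl rfl), e⟩
    · exact (k6 _ (hq v vK k hk vU e)).elim (fun e => ⟨v, mW _ (Or.inr (Or.inl rfl)), e⟩) fun e =>
        ⟨v * z, mW _ (Or.inr (Or.inr rfl)), by rwa [h.cm vK zU.1, mul_assoc]⟩

theorem cl2 {x y : G} (hx : x ∈ R) (hy : y ∈ R) : y * x * y⁻¹ * x⁻¹ * x = x * (y * x * y⁻¹ * x⁻¹) :=
  h.cu hx (h.cmR hy hx)

variable {x₁ x₂ : G} (h1 : x₁ ∈ K) (h2 : x₂ ∈ K) (u1 : x₁ ∉ K ⊓ g •ᶜ K) (u2 : x₂ ∉ K ⊓ g •ᶜ K)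
  (u3 : x₁ * x₂ ∉ K ⊓ g •ᶜ K)
include h1 h2 u1 u2 u3

theorem le_R {X : Subgroup G} (hX : X ≤ N[R]) (a1 : ∀ a ∈ K, ∀ b ∈ K, a ∉ X → b ∉ X → a * b ∈ X)
    (a2 : ∀ x ∈ X, ∀ y ∈ X, y * x * y⁻¹ * x⁻¹ * x = x * (y * x * y⁻¹ * x⁻¹)) : X ≤ N[K] := fun y hy => by
  by_contra e
  have key : ∀ x ∈ K, x ∉ U → x ∉ X := fun x hx hU hxX => h.q0 (hX hy) e hx hU (a2 x hxX y hy)
  exact key _ (mul_mem h1 h2) u3 (a1 _ h1 _ h2 (key _ h1 u1) (key _ h2 u2))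

theorem N_T : N[S ⊓ N[R]] ≤ N[R] := fun n hn => by
  have a0 : n •ᶜ R ≤ S ⊓ N[R] := map_conj_le_of_mem_normalizer (le_inf inf_le_left le_normalizer) hn
  refine conj_eq_iff_mem_normalizer.1 (eq_of_le_of_card_ge (le_inf (a0.trans inf_le_left) (h.le_R h1 h2 u1 u2 u3
    (a0.trans inf_le_right) (fun a ha b hb e1 e2 => ?_) ?_)) (card_conj _ _).ge)
  · rw [mem_map_conj] at e1 e2 ⊢
    have a3 := cN' hn ⟨h.le ha, le_normalizer (h.KR ha)⟩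
    have a4 := cN' hn ⟨h.le hb, le_normalizer (h.KR hb)⟩
    exact mem_of_mem_of_eq (mem_inf.2 ⟨mul_mem a3.1 a4.1, h.idx a3.2 a4.2 (fun e => e1 ⟨a3.1, e⟩)
      fun e => e2 ⟨a4.1, e⟩⟩) (by group)
  · rintro _ ⟨x, hx, rfl⟩ _ ⟨y, hy, rfl⟩
    simp only [← map_mul, ← map_inv, h.cl2 hx hy]

theorem S_le : S ≤ N[R] := by
  by_contra e
  obtain ⟨s, a1, a2, a3⟩ := exists_mem_normalizer_not_mem h.syl.isPGroup.isNilpotent
    (lt_of_le_of_ne (inf_le_left : S ⊓ N[R] ≤ S) fun e1 => e (e1.ge.trans inf_le_right))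
  exact a3 ⟨a1, h.N_T h1 h2 u1 u2 u3 a2⟩

theorem NS_le : N[S] ≤ N[R] := by
  have := h.N_T h1 h2 u1 u2 u3
  rwa [inf_eq_left.2 (h.S_le h1 h2 u1 u2 u3)] at this

omit h1 h2 u1 u2 u3 in
theorem d_mul {y a b : G} (hy : y ∈ N[R]) (e : y ∉ N[K]) (ha : a ∈ K) (hb : b ∈ K)
    (h0 : y * a * y⁻¹ * a⁻¹ * (y * b * y⁻¹ * b⁻¹) ∈ K) : a * b ∈ U := by
  by_contra e1
  refine (h.sw hy e (mul_mem ha hb) e1).2 ?_
  have a1 := cN hy (h.KR hb)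
  refine mem_of_mem_of_eq (mul_mem (mul_mem (mul_mem h0 hb) (cN' a1.2 ha)) (one_mem _)) (by group)

theorem q2_le {H : Subgroup G} {v z c : G} (q : Q2 S H v z c) : H ≤ N[K] := by
  have hS := h.S_le h1 h2 u1 u2 u3
  by_cases hv : v ∈ N[K]
  · have hU : v ∉ U := fun e => h.not_le fun r hr => h.cen ⟨hr.1, mC fun k hk => q.ess.cm
      (q.ch.memK (h.le hk) (h.cu (h.KR hk) e).symm) (q.ch.memK hr.1 (h.cu hr e).symm)⟩
    rcases h.mem_or ⟨q.ch.vS, hv⟩ (one_mem _) (by rw [q.ch.vv, one_mul]) with e | e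
    · rw [← q.ch.cent, h.cent e hU]; exact le_normalizer
    · rw [mem_map_conj] at e
      have := h.cent e fun e1 => hU (by simpa [mul_assoc] using cN (h.NU h.gR) e1)
      refine fun y hy => (h.LR (mem_map_conj.2 (this.le ⟨cN' (le_normalizer h.gS) (q.ess.le hy), mem_C1.2 ?_⟩))).2
      calc _ = g⁻¹ * (y * v) * g := by group
        _ = _ := by rw [q.ch.cv hy]; group
  exfalso
  have a1 : ∀ x ∈ K, v * x * v⁻¹ * x⁻¹ ∈ zpowers c := fun x hx =>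
    mem_of_mem_of_eq (q.ch.cls x (h.le hx)) (by rw [inv_eq q.ch.vv]; group)
  have a2 : ∀ x ∈ K, v * x * v⁻¹ * x⁻¹ ∈ R := fun x hx => mul_mem (cN (hS q.ch.vS) (h.KR hx)) (h.KR (inv_mem hx))
  have a3 : ∀ x ∈ K, x ∉ U → v * x * v⁻¹ * x⁻¹ ∉ K := fun x hx hU e =>
    (h.sw (hS q.ch.vS) hv hx hU).2 (by simpa using mul_mem e hx)
  have a4 : zpowers (v * x₂ * v⁻¹ * x₂⁻¹ * (v * x₂ * v⁻¹ * x₂⁻¹)) ≤ K := zpowers_le.2 (h.sqR (a2 _ h2)).1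
  by_cases e : v * x₁ * v⁻¹ * x₁⁻¹ ∈ zpowers (v * x₂ * v⁻¹ * x₂⁻¹)
  · rcases par e with e1 | e1
    · exact a3 _ h1 u1 (a4 e1)
    · refine u3 (mem_of_mem_of_eq (h.d_mul (hS q.ch.vS) hv h2 h1 ?_) (h.cm h2 h1))
      exact mem_of_mem_of_eq (mul_mem (h.sqR (a2 _ h2)).1 (a4 e1)) (by group)
  · exact a3 _ h2 u2 (zpowers_le.2 (by rw [sq]; exact (h.sqR (a2 _ h1)).1) (ci_le_zpowers_sq inferInstance q.ch.pc
      (zpowers_le.2 (a1 _ h2)) (a1 _ h1) e (mem_zpowers _)))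

theorem nrm_le {H : Subgroup G} (q : Ess S H) (hn : S ≤ N[H]) : H ≤ N[K] := by
  have hS := h.S_le h1 h2 u1 u2 u3
  have hN := h.NS_le h1 h2 u1 u2 u3
  intro y hy
  by_contra hyK
  have i2 : ∀ a ∈ H, ∀ b ∈ H, a ∉ N[K] → b ∉ N[K] → a * b ∈ N[K] := fun a ha b hb =>
    h.idx (hS (q.le ha)) (hS (q.le hb))
  have UH : U ≤ H := by
    by_contra e
    have f : FH S H (U) := ⟨q, le_inf (inf_le_left.trans h.le) (inf_le_left.trans (h.le.trans hn)), e,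
      fun x hx a ha => h.RU (h.UR (by
        simpa [mul_assoc] using mul_mem ha (cN (h.NU (hS (q.le hx))) (inv_mem ha)))), by
      have b1 : (H ⊓ C[(U : Subgroup G)]).relIndex H ∣ 2 := by
        rw [← DD.relIndex_two hy hyK i2]
        rw [inf_relIndex_left, ← inf_relIndex_left H N[K], ← inf_relIndex_left H C[(U : Subgroup G)]]
        exact relIndex_dvd_of_le_left _ (le_inf inf_le_left ((inf_le_inf_right _ q.le).trans h.RU))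
      have b2 : H.relIndex U ≠ 1 := fun e1 => e (relIndex_eq_one.1 e1)
      have b3 : H.relIndex U ≠ 0 := FiniteIndex.index_ne_zero
      have := Nat.le_of_dvd two_pos b1
      omega⟩
    have b4 : ∀ r ∈ R, ∃ u ∈ U, ∃ a ∈ H, u * a = r := fun r hr =>
      (mem_sup_of_le_normalizer_right (f.AR.trans inf_le_right)).1 (f.o1 ⟨hr.1, hn hr.1⟩)
    refine h.not_le fun r hr => h.cen ⟨hr.1, mC fun k hk => ?_⟩
    obtain ⟨u, hu, a, ha, rfl⟩ := b4 r hr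
    obtain ⟨u', hu', a', ha', rfl⟩ := b4 k (h.KR hk)
    have b5 := (mul_mem_cancel_left (h.UR hu)).1 hr
    have b6 := (mul_mem_cancel_left (h.UR hu')).1 (h.KR hk)
    rw [mul_assoc, ← mul_assoc a', ← h.cu b6 hu, mul_assoc, q.cm ha' ha, ← mul_assoc, ← mul_assoc,
      h.cu (h.UR hu) hu', mul_assoc u, h.cu b5 hu']; group
  have cU : ∀ s ∈ S, ∀ u ∈ U, u * s = s * u := fun s hs u hu => by
    by_cases e : s ∈ N[K]
    · exact h.cu ⟨hs, e⟩ hu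
    have := h.cu ⟨mul_mem (q.le hy) hs, h.idx (hS (q.le hy)) (hS hs) hyK e⟩ hu
    rw [← mul_assoc, q.cm (UH hu) hy, mul_assoc, mul_assoc] at this
    exact mul_left_cancel this
  have KH : ∀ x ∈ K, x ∈ H → x ∈ U := fun x hx e => by
    by_contra e1
    exact hyK (le_normalizer (h.cent hx e1 ▸ mem_inf.2 ⟨q.le hy, mem_C1.2 (q.cm hy e)⟩))
  have HU : ∀ a ∈ H, a ∈ K ∨ a ∈ L → a ∈ U := fun a ha e => e.elim (fun e => KH a e ha) fun e => by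
    simpa [mul_assoc] using cN (h.NU h.gR) (KH _ (mem_map_conj.1 e) (cN' (hn h.gS) ha))
  have MV : ∀ x ∈ K, x ∉ U → ∃ n ∈ N[S] ⊓ (o2 N[H] ⊔ C[H]), n ∈ N[K] ∧ x * (n * x * n⁻¹) ∉ U := fun x hx hU => by
    obtain ⟨x', b1, b2, b3⟩ : ∃ x' ∈ K, x' ∉ U ∧ x * x' ∉ U := by
      by_cases e : x * x₁ ∈ U
      · refine ⟨x₂, h2, u2, fun e1 => u3 (mem_of_mem_of_eq (mul_mem (inv_mem (h.sqR (h.KR hx))) (mul_mem e e1)) ?_)⟩
        rw [mul_assoc x x₁, ← mul_assoc x₁, h.cm h1 hx]; group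
      · exact ⟨x₁, h1, u1, e⟩
    obtain ⟨n, hn1, e⟩ := q.conj_inv ⟨h.le hx, hn (h.le hx)⟩ ⟨h.le b1, hn (h.le b1)⟩ (fun e => hU (KH x hx e))
      (fun e => b2 (KH x' b1 e)) (UH (h.sqR (h.KR hx))) (UH (h.sqR (h.KR b1)))
    have key : ∀ n ∈ N[K], x'⁻¹ * (n * x * n⁻¹) ∈ H → x * (n * x * n⁻¹) ∉ U := fun n c1 c2 c3 => b3 (by
      simpa [mul_assoc] using mul_mem c3 (inv_mem (KH _ (mul_mem (inv_mem b1) (cN c1 hx)) c2)))
    by_cases c1 : n ∈ N[K]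
    · exact ⟨n, hn1, c1, key n c1 e⟩
    have c2 := h.idx (hS (q.le hy)) (hN hn1.1) hyK c1
    refine ⟨y * n, mem_inf.2 ⟨mul_mem (le_normalizer (q.le hy)) hn1.1, mul_mem (mem_sup_right (q.comm hy)) hn1.2⟩,
      c2, key _ c2 (mem_of_mem_of_eq (mul_mem (mul_mem (cN' (hn (h.le b1)) hy) e) (inv_mem hy)) (by group))⟩
  have nH : o2 N[H] ⊔ C[H] ≤ N[H] := sup_le (pGen_le _) (centralizer_le_normalizer _)
  have mv : ∀ w ∈ H, w ∈ R → w ∉ U → ∃ n ∈ N[S] ⊓ (o2 N[H] ⊔ C[H]), n ∈ N[K] ∧ w * (n * w * n⁻¹) ∉ U :=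
    fun w hw hR hU => by
    obtain ⟨b, hb, x, hx, rfl⟩ := h.dec hR
    obtain ⟨n, c1, c2, c3⟩ := MV x hx fun e => hU (HU _ hw (Or.inr (mul_mem hb e.2)))
    refine ⟨n, c1, c2, fun e => c3 ?_⟩
    have c4 : n * b * n⁻¹ ∈ L := h.fix (hN c1.1) c2 ▸ conj_mem_conj hb n
    have c5 := cN c2 hx
    rw [show n * (b * x) * n⁻¹ = n * b * n⁻¹ * (n * x * n⁻¹) by group] at e
    generalize n * b * n⁻¹ = b' at c4 e
    generalize n * x * n⁻¹ = x' at c5 e ⊢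
    have c6 : b * b' ∈ U := mem_inf.2 ⟨mem_of_mem_of_eq (mul_mem (mul_mem e.1 (inv_mem c5))
      (inv_mem (cN' (h.LR c4).2 hx))) (by group), mul_mem hb c4⟩
    exact mem_of_mem_of_eq (mul_mem (inv_mem (h.cmR (inv_mem (h.LR c4)) (h.KR hx))) (mul_mem (inv_mem c6) e))
      (by group)
  have sq : ∀ a ∈ H, a * a ∈ U := fun a ha => by
    by_cases e : a ∈ N[K]
    · exact h.sqR ⟨q.le ha, e⟩
    by_contra e1
    have c0 : a * a ∈ R := ⟨q.le (mul_mem ha ha), i2 a ha a ha e e⟩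
    obtain ⟨n, c1, c2, c3⟩ := mv _ (mul_mem ha ha) c0 e1
    have c4 := cN (nH c1.2) ha
    have c5 : a * (n * a * n⁻¹) ∈ N[K] := i2 _ ha _ c4 e fun e1 =>
      e (mem_of_mem_of_eq (mul_mem (mul_mem (inv_mem c2) e1) c2) (by group))
    refine c3 (mem_of_mem_of_eq (h.sqR ⟨q.le (mul_mem ha c4), c5⟩) ?_)
    rw [mul_assoc, ← mul_assoc _ a, q.cm c4 ha]; group
  have cs : o2 N[H] ⊔ C[H] ≤ centralizer {w | ∃ a ∈ H, a * a = w} := by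
    refine sup_le (q.o2_le fun n c1 s hs => ?_) fun c hc => ?_
    · rintro _ ⟨a, ha, rfl⟩
      calc _ = n * (n⁻¹ * a * n * (n⁻¹ * a * n) * s) * n⁻¹ := by group
        _ = _ := by rw [cU s hs.1 _ (sq _ (cN' c1 ha))]; group
    · rintro _ ⟨a, ha, rfl⟩
      exact cC hc (mul_mem ha ha)
  have j1 : y * x₁ * y⁻¹ * x₁⁻¹ ∈ H :=
    mem_of_mem_of_eq (mul_mem hy (cN (hn (h.le h1)) (inv_mem hy))) (by group)
  have j2 : y * x₁ * y⁻¹ * x₁⁻¹ ∈ R := mul_mem (cN (hS (q.le hy)) (h.KR h1)) (h.KR (inv_mem h1))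
  obtain ⟨n, c1, c2, c3⟩ := mv _ j1 j2 fun e =>
    (h.sw (hS (q.le hy)) hyK h1 u1).2 (mem_of_mem_of_eq (mul_mem e.1 h1) (by group))
  generalize y * x₁ * y⁻¹ * x₁⁻¹ = j at j1 j2 c3
  have c4 := cN (nH c1.2) j1
  refine c3 (HU _ (mul_mem j1 c4) (h.mem_or (mul_mem j2 (cN (hN c1.1) j2)) (h.sqR j2) ?_))
  rw [mul_assoc, ← mul_assoc _ j, q.cm c4 j1]
  calc _ = j * j * (n * (j * j) * n⁻¹) := by group
    _ = _ := by rw [← cs c1.2 _ ⟨j, j1, rfl⟩]; group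

theorem false_big (hG : ∀ N : Subgroup G, N.index ≠ 2) : False := by
  have hS := h.S_le h1 h2 u1 u2 u3
  refine not_scl_two hG h.syl inf_le_left (h.ai.scl h.syl inf_le_left (h.NS_le h1 h2 u1 u2 u3)
    fun H q n hn x hx _ => ⟨q.le (cN hn hx), (?_ : H ≤ N[K]) (cN hn hx)⟩) h.gS (fun e => h.gK e.2)
    fun x hx y hy e1 e2 => ⟨S.mul_mem hx hy, h.idx (hS hx) (hS hy) (fun e => e1 ⟨hx, e⟩) fun e => e2 ⟨hy, e⟩⟩
  by_cases e : S ≤ N[H]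
  · exact h.nrm_le h1 h2 u1 u2 u3 q e
  obtain ⟨g', q'⟩ := q.exists_nn e
  by_cases e1 : ∀ x ∈ H, ∀ y ∈ H, x ∉ H ⊓ g' •ᶜ H → y ∉ H ⊓ g' •ᶜ H → x * y ∈ H ⊓ g' •ᶜ H
  · obtain ⟨v, z, c, q2⟩ := q'.exists_q2 e1
    exact h.q2_le h1 h2 u1 u2 u3 q2
  push Not at e1
  obtain ⟨y₁, a1, y₂, a2, a3, a4, a5⟩ := e1
  have hS' := q'.S_le a1 a2 a3 a4 a5
  exact q.KR.trans (h.le_R h1 h2 u1 u2 u3 (inf_le_left.trans hS) (fun a ha b hb e1 e2 =>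
    ⟨h.le (mul_mem ha hb), q'.idx (hS' (h.le ha)) (hS' (h.le hb)) (fun e => e1 ⟨h.le ha, e⟩)
      fun e => e2 ⟨h.le hb, e⟩⟩) fun x hx y hy => q'.cl2 hx hy)

end NN

theorem Ess.exists_q2 (hG : ∀ N : Subgroup G, N.index ≠ 2) {S K : Subgroup G} (h : Ess S K) (hn : ¬ S ≤ N[K]) :
    ∃ v z c, Q2 S K v z c := by
  obtain ⟨g, q⟩ := h.exists_nn hn
  refine q.exists_q2 fun x hx y hy h1 h2 => by_contra fun h3 => q.false_big hx hy h1 h2 h3 hG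

end Cfsg.Lib.AbInt
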