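import Cfsg.Agent.Lib.AbInt.NN
import Cfsg.Agent.Lib.DD.Basic

/-!
# Involutions with abelian centralizer commuting with only one other conjugate
-/

set_option autoImplicit false
set_option linter.unusedSectionVars false

namespace Cfsg.Lib.AbInt
open Subgroup Cfsg Cfsg.Lib Cfsg.Lib.FT Cfsg.Lib.R1 Cfsg.Lib.Wal Cfsg.Lib.GW
open scoped commutatorElement

variable {G : Type*} [Group G] [Finite G]

theorem zcm {r x y : G} (hx : x ∈ zpowers r) (hy : y ∈ zpowers r) : x * y = y * x := DD.comm_of_mem_zpowers hx hy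

theorem sq_le (c : G) : zpowers (c * c) ≤ zpowers c := zpowers_le.2 (mul_mem (mem_zpowers c) (mem_zpowers c))

theorem mem_sq {c d : G} : d ∈ zpowers (c * c) ↔ ∃ e ∈ zpowers c, d = e * e := by
  constructor
  · rintro ⟨i, rfl⟩
    exact ⟨c ^ i, zpow_mem (mem_zpowers c) i, (Commute.refl c).mul_zpow i⟩
  · rintro ⟨_, ⟨i, rfl⟩, rfl⟩
    exact ⟨i, (Commute.refl c).mul_zpow i⟩

theorem par {c d : G} (hd : d ∈ zpowers c) : d ∈ zpowers (c * c) ∨ c⁻¹ * d ∈ zpowers (c * c) := by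
  obtain ⟨i, rfl⟩ := hd
  rcases Int.even_or_odd' i with ⟨j, rfl | rfl⟩
  · exact Or.inl ⟨j, by simp only [← zpow_two, ← zpow_mul]⟩
  · exact Or.inr ⟨j, by simp only [← zpow_two, ← zpow_mul]; group⟩

theorem mul_sq {c d e : G} (hd : d ∈ zpowers c) (he : e ∈ zpowers c) (h1 : d ∉ zpowers (c * c))
    (h2 : e ∉ zpowers (c * c)) : d * e ∈ zpowers (c * c) := by
  refine mem_of_mem_of_eq (mul_mem (mem_zpowers _) (mul_mem ((par hd).resolve_left h1) ((par he).resolve_left h2))) ?_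
  rw [mul_assoc c⁻¹, ← mul_assoc d, zcm hd (inv_mem (mem_zpowers c))]; group

theorem gen {c d : G} (hc : IsPGroup 2 (zpowers c)) (hd : d ∈ zpowers c) (h1 : d ∉ zpowers (c * c)) :
    zpowers d = zpowers c := by
  obtain ⟨i, rfl⟩ := (mem_powers_iff_mem_zpowers.2 hd)
  refine le_antisymm (zpowers_le.2 hd) (zpowers_le.2 ((ci_mem_zpowers_pow_iff hc (by rintro rfl; simp at h1) i).2 ?_))
  by_contra e
  obtain ⟨j, rfl⟩ := Nat.not_odd_iff_even.1 e
  exact h1 (mem_sq.2 ⟨c ^ j, pow_mem (mem_zpowers c) j, pow_add c j j⟩)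

theorem nsq {c d : G} (hc : IsPGroup 2 (zpowers c)) (c1 : c ≠ 1) (h : zpowers d = zpowers c) :
    d ∉ zpowers (c * c) := fun e => by
  have h1 : c ∈ zpowers (c ^ 2) := by rw [sq]; exact zpowers_le.2 e (h.ge (mem_zpowers c))
  exact absurd ((ci_mem_zpowers_pow_iff hc c1 2).1 h1) (by decide)

theorem sq_congr {c d : G} (h : zpowers d = zpowers c) : zpowers (d * d) = zpowers (c * c) := by
  ext x; rw [mem_sq, mem_sq, h]

/-- `v` is an involution with abelian centralizer `K` in `S`, commuting only with the conjugate `v z` -/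
structure Gd (S K : Subgroup G) (v z : G) : Prop where
  pS : IsPGroup 2 S
  vS : v ∈ S
  vv : v * v = 1
  cent : S ⊓ C1[v] = K
  comm : K ≤ C[K]
  z1 : z ≠ 1
  zz : z * z = 1
  two : ∀ s ∈ S, s * v * s⁻¹ ∈ K → s * v * s⁻¹ = v ∨ s * v * s⁻¹ = v * z
  ns : ∀ k ∈ K, k * k ≠ z

/-- the class of `v` in `X` is `v ⟨c⟩` -/
structure Ch (S K : Subgroup G) (v z : G) (X : Subgroup G) (c : G) : Prop extends Gd S K v z where
  KX : K ≤ X
  XS : X ≤ S
  inv : v * c * v = c⁻¹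
  zc : z ∈ zpowers c
  cls : ∀ x ∈ X, v * (x * v * x⁻¹) ∈ zpowers c
  all : ∀ d ∈ zpowers c, ∃ x ∈ X, x * v * x⁻¹ = v * d

namespace Ch
variable {S K X : Subgroup G} {v z c : G} (h : Ch S K v z X c)
include h

theorem vK : v ∈ K := h.cent ▸ ⟨h.vS, mem_C1_self v⟩
theorem vX : v ∈ X := h.KX h.vK
theorem KS : K ≤ S := h.KX.trans h.XS
theorem memK {x : G} (hx : x ∈ S) (e : x * v = v * x) : x ∈ K := h.cent ▸ ⟨hx, mem_C1.2 e⟩
theorem cv {x : G} (hx : x ∈ K) : x * v = v * x := cC (h.comm h.vK) hx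

theorem cX : zpowers c ≤ X := fun d hd => by
  obtain ⟨x, hx, e⟩ := h.all d hd
  exact (mul_mem_cancel_left h.vX).1 (e ▸ cI hx h.vX)

theorem pc : IsPGroup 2 (zpowers c) := h.pS.to_le (h.cX.trans h.XS)
theorem c1 : c ≠ 1 := fun e => h.z1 (by simpa [e] using h.zc)

theorem iv {d : G} (hd : d ∈ zpowers c) : v * d * v = d⁻¹ := by
  obtain ⟨i, rfl⟩ := hd
  have := h.inv
  nth_rewrite 2 [← inv_eq h.vv] at this ⊢
  simp only [← conj_zpow, this, inv_zpow]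

theorem iv' {d : G} (hd : d ∈ zpowers c) : v * d = d⁻¹ * v := by rw [← h.iv hd, mul_assoc, h.vv, mul_one]

theorem Nc : X ≤ N[zpowers c] := fun x hx => mN fun d hd => by
  obtain ⟨y, hy, e⟩ := h.all d hd
  refine mem_of_mem_of_eq (mul_mem (inv_mem (h.cls x hx)) (h.cls _ (mul_mem hx hy))) ?_
  calc _ = x * v⁻¹ * (y * v * y⁻¹) * x⁻¹ := by group
    _ = _ := by rw [e]; group

theorem Nsq : X ≤ N[zpowers (c * c)] := fun x hx => mN fun d hd => by
  obtain ⟨e, he, rfl⟩ := mem_sq.1 hd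
  exact mem_sq.2 ⟨_, cN (h.Nc hx) he, by group⟩

theorem eq_z {d : G} (hd : d ∈ zpowers c) (h1 : d * d = 1) : d = 1 ∨ d = z :=
  or_iff_not_imp_left.2 fun e => ci_invol_eq inferInstance hd h.zc (ci_orderOf e h1) (ci_orderOf h.z1 h.zz)

theorem exists_root {d : G} (hd : d ∈ zpowers c) (h1 : d * d ≠ 1) : ∃ e ∈ zpowers d, e * e = z := by
  have hp := isPGroup_zpowers h.pc hd
  obtain ⟨t, ht, h2, h3⟩ := exists_invol_pow hp (by rintro rfl; simp at h1)
  obtain rfl := (h.eq_z (zpowers_le.2 hd ht) h2).resolve_left h3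
  have : t ∈ zpowers (d * d) := by
    by_contra e
    rcases (mem_zpowers_two h2).1 ((gen hp ht e).ge (mem_zpowers d)) with rfl | rfl
    · simp at h1
    · exact h1 h2
  obtain ⟨e, he, e1⟩ := mem_sq.1 this
  exact ⟨e, he, e1.symm⟩

theorem sq_one {k : G} (hk : k ∈ K) (h1 : k * k ∈ zpowers c) : k * k = 1 := by
  by_contra e
  obtain ⟨t, ht, h2, h3⟩ := exists_invol_pow (isPGroup_zpowers h.pc h1) e
  obtain ⟨a, ha, rfl⟩ := mem_sq.1 ht
  exact h.ns a (zpowers_le.2 hk ha) ((h.eq_z (zpowers_le.2 h1 ht) h2).resolve_left h3)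

theorem dec {s : G} (hs : s ∈ S) (h1 : v * (s * v * s⁻¹) ∈ zpowers (c * c)) : ∃ d ∈ zpowers c, d * s ∈ K := by
  obtain ⟨d, hd, e⟩ := mem_sq.1 h1
  refine ⟨d, hd, h.memK (mul_mem (h.XS (h.cX hd)) hs) ?_⟩
  calc d * s * v = d * (v * (v * (s * v * s⁻¹))) * s := by rw [cl h.vv]; group
    _ = v * (d * s) := by rw [e, ← mul_assoc v, h.iv' hd, ← mul_assoc, ← mul_assoc]; group

theorem b1 {u : G} (hu : u ∈ X) (uu : u * u = 1) (h1 : v * (u * v * u⁻¹) ∈ zpowers (c * c)) :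
    ∃ x ∈ X, x * u * x⁻¹ ∈ K := by
  obtain ⟨d, hd, hk⟩ := h.dec (h.XS hu) h1
  obtain ⟨k, rfl⟩ : ∃ k, u = d⁻¹ * k := ⟨d * u, by group⟩
  rw [mul_inv_cancel_left] at hk
  have h2 : k * k = 1 := h.sq_one hk (mem_of_mem_of_eq (mul_mem (inv_mem (cN (h.Nc (h.KX hk)) (inv_mem hd))) hd) (by
    calc _ = k * d * (d⁻¹ * k * (d⁻¹ * k))⁻¹ * d⁻¹ * k := by group
      _ = _ := by rw [uu]; group))
  have h3 : d⁻¹ * k = k * d := by
    calc _ = (d⁻¹ * k)⁻¹ * (d⁻¹ * k * (d⁻¹ * k)) := by group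
      _ = _ := by rw [uu, mul_inv_rev, inv_eq h2]; group
  obtain ⟨x, hx, e⟩ := h.all d hd
  refine ⟨x⁻¹, inv_mem hx, h.memK (h.XS (cI (inv_mem hx) hu)) ?_⟩
  have h4 : d⁻¹ * k * (v * d) = v * d * (d⁻¹ * k) := by
    rw [h3, h.iv' hd, mul_assoc k, mul_inv_cancel_left, ← h.iv' hd, ← h3, h.cv hk]; group
  calc _ = x⁻¹ * (d⁻¹ * k * (x * v * x⁻¹)) * x := by group
    _ = x⁻¹ * (x * v * x⁻¹ * (d⁻¹ * k)) * x := by rw [e, h4]
    _ = _ := by group

theorem bb {H : Subgroup G} {u y e : G} (h' : Ch S H u y X e) : (∃ x ∈ X, x * u * x⁻¹ ∈ K) ∨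
    (zpowers e = zpowers c ∧ zpowers (v * u * (v * u)) = zpowers c) := by
  have e1 : v * (u * v * u⁻¹) = v * u * (v * u) := by rw [inv_eq h'.vv]; group
  have e2 : u * (v * u * v⁻¹) = (v * u * (v * u))⁻¹ := by
    rw [mul_inv_rev, mul_inv_rev, inv_eq h'.vv, inv_eq h.vv]; group
  by_cases h1 : v * (u * v * u⁻¹) ∈ zpowers (c * c)
  · exact Or.inl (h.b1 h'.vX h'.vv h1)
  by_cases h2 : u * (v * u * v⁻¹) ∈ zpowers (e * e)
  · obtain ⟨x, hx, h3⟩ := h'.b1 h.vX h.vv h2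
    refine Or.inl ⟨x⁻¹, inv_mem hx, h.memK (h.XS (cI (inv_mem hx) h'.vX)) ?_⟩
    calc _ = x⁻¹ * (u * (x * v * x⁻¹)) * x := by group
      _ = _ := by rw [← h'.cv h3]; group
  have h3 := gen h.pc (h.cls u h'.vX) h1
  have h4 := gen h'.pc (h'.cls v h.vX) h2
  rw [e1] at h3
  rw [e2, zpowers_inv] at h4
  exact Or.inr ⟨h4.symm.trans h3, h3⟩

theorem conj (g : G) : Ch (g •ᶜ S) (g •ᶜ K) (g * v * g⁻¹) (g * z * g⁻¹) (g •ᶜ X) (g * c * g⁻¹) where
  pS := isPGroup_conj_iff.2 h.pS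
  vS := conj_mem_conj h.vS g
  vv := sq_conj h.vv g
  cent := by rw [← conj_centralizer_singleton, ← conj_inf, h.cent]
  comm := by rw [← conj_centralizer]; exact map_mono h.comm
  z1 := by simpa using h.z1
  zz := sq_conj h.zz g
  two := by
    rintro _ ⟨s, hs, rfl⟩ h1
    have e : (MulAut.conj g).toMonoidHom s * (g * v * g⁻¹) * ((MulAut.conj g).toMonoidHom s)⁻¹ =
      g * (s * v * s⁻¹) * g⁻¹ := by simp [mul_assoc]
    rw [e] at h1 ⊢
    refine (h.two s hs (conj_mem_conj_iff.1 h1)).imp (fun e => by rw [e]) fun e => by rw [e]; group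
  ns := by
    rintro _ ⟨k, hk, rfl⟩ e
    refine h.ns k hk ((MulAut.conj g).injective ?_)
    rw [map_mul]; exact e
  KX := map_mono h.KX
  XS := map_mono h.XS
  inv := by
    calc _ = g * (v * c * v) * g⁻¹ := by group
      _ = _ := by rw [h.inv]; group
  zc := by rw [← conj_zpowers]; exact conj_mem_conj h.zc g
  cls := by
    rintro _ ⟨x, hx, rfl⟩
    rw [← conj_zpowers]
    exact mem_of_mem_of_eq (conj_mem_conj (h.cls x hx) g) (by simp [mul_assoc])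
  all := by
    rw [← conj_zpowers]
    rintro _ ⟨d, hd, rfl⟩
    obtain ⟨x, hx, e⟩ := h.all d hd
    refine ⟨_, conj_mem_conj hx g, ?_⟩
    calc _ = g * (x * v * x⁻¹) * g⁻¹ := by group
      _ = _ := by rw [e]; simp [mul_assoc]

theorem conj' {g : G} (h1 : g ∈ N[S]) (h2 : g ∈ N[X]) :
    Ch S (g •ᶜ K) (g * v * g⁻¹) (g * z * g⁻¹) X (g * c * g⁻¹) := by
  have := h.conj g
  rwa [conj_eq_iff_mem_normalizer.2 h1, conj_eq_iff_mem_normalizer.2 h2] at this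

theorem step (hX : X ≠ S) : ∃ X' c', X < X' ∧ Ch S K v z X' c' := by
  obtain ⟨s, hs, h1, h2, -⟩ := pg_exists_fixed_mod (p := 2) (A := ⊥) (h.pS.to_inf_left (K := N[X]))
    IsPGroup.of_bot bot_le (pg_lt_inf_normalizer h.pS (lt_of_le_of_ne h.XS hX)) inf_le_right bot_le
  have h' := h.conj' (le_normalizer hs.1) hs.2
  obtain ⟨h3, h4⟩ := (h.bb h').resolve_left (by
    rintro ⟨x, hx, h3⟩
    obtain ⟨y, hy, e⟩ := h.all z h.zc
    refine h1 ((mul_mem_cancel_left hx).1 ?_)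
    rcases h.two (x * s) (mul_mem (h.XS hx) hs.1) (by simpa [mul_assoc] using h3) with h4 | h4
    · exact h.KX (h.memK (mul_mem (h.XS hx) hs.1) (mul_inv_eq_iff_eq_mul.1 h4))
    · refine (mul_mem_cancel_left (inv_mem hy)).1 (h.KX (h.memK (mul_mem (inv_mem (h.XS hy))
        (mul_mem (h.XS hx) hs.1)) ?_))
      calc _ = y⁻¹ * (x * s * v * (x * s)⁻¹) * (x * s) := by group
        _ = _ := by rw [h4, ← e]; group)
  have h5 : zpowers c ≤ zpowers (v * (s * v * s⁻¹)) := h4 ▸ sq_le _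
  refine ⟨X ⊔ zpowers s, _, lt_of_le_of_ne le_sup_left fun e => h1 (e.ge (mem_sup_right (mem_zpowers s))),
    h.toGd, h.KX.trans le_sup_left, sup_le h.XS (zpowers_le.2 hs.1), ?_, h5 h.zc, fun y hy => ?_, fun d hd => ?_⟩
  · rw [cl h.vv, mul_inv_rev, inv_eq h.vv, inv_eq h'.vv]
  · obtain ⟨x, hx, w, hw, rfl⟩ := (mem_sup_of_le_normalizer_left (zpowers_le.2 hs.2)).1 hy
    have h6 : zpowers (s * s) ≤ X := zpowers_le.2 (by rwa [← sq])
    rcases par hw with h7 | h7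
    · exact h5 (h.cls _ (mul_mem hx (h6 h7)))
    · have h8 : x * w * s⁻¹ ∈ X := mul_mem_cancel_left hx |>.2 (cN hs.2 (h6 h7)) |> fun e =>
        mem_of_mem_of_eq e (by group)
      exact mem_of_mem_of_eq (mul_mem (mem_zpowers _) (h5 (h3 ▸ h'.cls _ h8))) (by
        rw [mul_assoc v, cl h'.vv]; group)
  · rcases par hd with h7 | h7
    · obtain ⟨x, hx, e⟩ := h.all d (h4 ▸ h7)
      exact ⟨x, mem_sup_left hx, e⟩
    · obtain ⟨x, hx, e⟩ := h'.all _ (h3.ge (h4 ▸ h7))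
      refine ⟨x * s, mul_mem (mem_sup_left hx) (mem_sup_right (mem_zpowers s)), ?_⟩
      calc _ = x * (s * v * s⁻¹) * x⁻¹ := by group
        _ = _ := by rw [e, mul_inv_rev, ← mul_assoc, mul_inv_cancel_left, inv_eq h.vv]

theorem top : ∃ c', Ch S K v z S c' := by
  induction hn : Nat.card G - Nat.card X using Nat.strong_induction_on generalizing X c with
  | _ n ih =>
  by_cases e : X = S
  · exact ⟨c, e ▸ h⟩
  obtain ⟨X', c', h1, h2⟩ := h.step e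
  have := pg_card_lt_of_lt h1
  have := card_le_card_group X'
  exact ih _ (by omega) h2 rfl

/-- the stabilizer of `v ⟨c²⟩` -/
theorem m0 {s : G} (hs : s ∈ X) : s ∈ commInto (zpowers (c * c)) {v} ↔ v * (s * v * s⁻¹) ∈ zpowers (c * c) := by
  have e : ⁅s, v⁆ = (v * (s * v * s⁻¹))⁻¹ := by
    rw [commutatorElement_def, mul_inv_rev, conj_inv, inv_eq h.vv]
  refine ⟨fun h1 => inv_mem_iff.1 (e ▸ h1.2 v rfl), fun h1 => ⟨h.Nsq hs, ?_⟩⟩
  rintro _ rfl
  exact e ▸ inv_mem h1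

theorem m0_idx {s t : G} (hs : s ∈ X) (ht : t ∈ X) (h1 : s ∉ commInto (zpowers (c * c)) {v})
    (h2 : t ∉ commInto (zpowers (c * c)) {v}) : s * t ∈ commInto (zpowers (c * c)) {v} := by
  rw [h.m0 hs] at h1
  rw [h.m0 ht] at h2
  rw [h.m0 (mul_mem hs ht)]
  refine mem_of_mem_of_eq (mul_sq (h.cls s hs) (cN (h.Nc hs) (h.cls t ht)) h1 fun e => h2 ?_) ?_
  · simpa [mul_assoc] using cN' (h.Nsq hs) e
  · calc _ = v * s * (v * (v * (t * v * t⁻¹))) * s⁻¹ := by group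
      _ = _ := by rw [cl h.vv]; group

theorem K_m0 : K ≤ commInto (zpowers (c * c)) {v} := fun k hk =>
  (h.m0 (h.KX hk)).2 (by rw [h.cv hk, mul_inv_cancel_right, h.vv]; exact one_mem _)

theorem c_m0 : zpowers c ≤ commInto (zpowers (c * c)) {v} := fun d hd =>
  (h.m0 (h.cX hd)).2 (mem_sq.2 ⟨d⁻¹, inv_mem hd, by rw [← mul_assoc, ← mul_assoc, h.iv hd]⟩)

theorem not_m0 {u : G} (hu : u ∈ X) (uu : u * u = 1) (h1 : zpowers (v * u * (v * u)) = zpowers c) :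
    u ∉ commInto (zpowers (c * c)) {v} := fun e =>
  nsq h.pc h.c1 h1 (mem_of_mem_of_eq ((h.m0 hu).1 e) (by rw [inv_eq uu]; group))

theorem three {H J : Subgroup G} {u y e w y' e' : G} (h' : Ch S H u y X e) (h'' : Ch S J w y' X e')
    (a2 : zpowers (v * u * (v * u)) = zpowers c) (b2 : zpowers (v * w * (v * w)) = zpowers c) (d2 : zpowers (u * w * (u * w)) = zpowers c) : False := by
  have hx : u * v * w ∈ X := mul_mem (mul_mem h'.vX h.vX) h''.vX
  have h1 : u * v * w ∈ commInto (zpowers (c * c)) {v} :=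
    h.m0_idx (mul_mem h'.vX h.vX) h''.vX (fun e => h.not_m0 h'.vX h'.vv a2
      ((mul_mem_cancel_right (h.K_m0 h.vK)).1 e)) (h.not_m0 h''.vX h''.vv b2)
  obtain ⟨d, hd, hk⟩ := h.dec (h.XS hx) ((h.m0 hx).1 h1)
  have m1 : v * u * (v * u) ∈ zpowers c := a2 ▸ mem_zpowers _
  have m2 : v * w * (v * w) ∈ zpowers c := b2 ▸ mem_zpowers _
  have m3 : u * w * (u * w) ∈ zpowers c := d2 ▸ mem_zpowers _
  have e1 : u * v * w * (u * v * w) = (u * v) * (u * w * (u * w))⁻¹ * (u * v)⁻¹ *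
      ((u * v * u) * (v * w * (v * w))⁻¹ * (u * v * u)⁻¹) * (v * u * (v * u))⁻¹ := by
    simp only [mul_inv_rev, inv_eq h.vv, inv_eq h'.vv, inv_eq h''.vv, mul_assoc, cl h.vv, cl h'.vv, cl h''.vv,
      h.vv, mul_one]
  have n1 := mul_mem h'.vX h.vX
  have n2 := mul_mem n1 h'.vX
  have h2 := mul_sq (cN (h.Nc n1) (inv_mem m3)) (cN (h.Nc n2) (inv_mem m2))
    (fun e => nsq h.pc h.c1 d2 (by simpa [mul_assoc] using inv_mem (cN' (h.Nsq n1) e)))
    (fun e => nsq h.pc h.c1 b2 (by simpa [mul_assoc] using inv_mem (cN' (h.Nsq n2) e)))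
  generalize u * v * w = x at *
  have h3 : x * x ∈ zpowers c := e1 ▸ mul_mem (sq_le c h2) (inv_mem m1)
  have h4 : d * (x * d * x⁻¹) ∈ zpowers (c * c) := by
    by_cases e : d ∈ zpowers (c * c)
    · exact mul_mem e (cN (h.Nsq hx) e)
    · exact mul_sq hd (cN (h.Nc hx) hd) e fun e1 => e (by simpa [mul_assoc] using cN' (h.Nsq hx) e1)
  have e2 : d * x * (d * x) = d * (x * d * x⁻¹) * (x * x) := by group
  have h5 := h.sq_one hk (e2 ▸ mul_mem (sq_le c h4) h3)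
  rw [e2, e1] at h5
  refine nsq h.pc h.c1 a2 (mem_of_mem_of_eq (mul_mem h4 h2) ?_)
  rw [← mul_assoc] at h5
  exact mul_inv_eq_one.1 h5

end Ch

end Cfsg.Lib.AbInt
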