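import Cfsg.Agent.Lib.AbInt.End
import Cfsg.Agent.Lib.AbInt.Q2
import Cfsg.Agent.Lib.Big.Walter

/-!
# Strongly closed elementary abelian subgroups and components of core-free groups
-/

set_option autoImplicit false
set_option linter.unusedSectionVars false

namespace Cfsg.Lib.AbInt
open Subgroup Cfsg Cfsg.Lib Cfsg.Lib.FT Cfsg.Lib.R1 Cfsg.Lib.Wal Cfsg.Lib.GW
open scoped commutatorElement

universe u

section
variable {G : Type*} [Group G] [Finite G] {X A : Subgroup G} {Y : Type*} [Group Y] [Finite Y] {f : X →* Y}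

theorem scl_map2 (h : SCl A) {φ : G →* Y} (hs : Function.Surjective φ) (hk : IsPGroup 2 φ.ker) :
    SCl (A.map φ) := by
  intro P hP hAP x hx g hg
  obtain ⟨g, rfl⟩ := hs g
  obtain ⟨a, ha, e⟩ := hg
  have e1 : φ (g⁻¹ * a * g) = x := by rw [map_mul, map_mul, map_inv, e]; group
  exact ⟨_, h (P.comap φ) (hP.comap_of_ker_isPGroup φ hk) (map_le_iff_le_comap.1 hAP) _
    (by rw [mem_comap, e1]; exact hx) g (by simpa [mul_assoc] using ha), e1⟩

theorem card_kr : Nat.card (kr f) = Nat.card f.ker := card_map_of_injective X.subtype_injective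

theorem pre_norm {Z : Subgroup Y} {g : G} (hg : g ∈ X) (h : bar f g ∈ N[Z]) : g ∈ N[pre f Z] := mN fun x hx => by
  obtain ⟨h1, h2⟩ := mem_pre.1 hx
  exact mem_pre.2 ⟨cI hg h1, by rw [bar_conj hg h1]; exact cN h h2⟩

theorem solv_pre {Z : Subgroup Y} (hk : Group.IsSolvable (kr f)) (h : Group.IsSolvable Z) :
    Group.IsSolvable (pre f Z) :=
  isSolvable_map _ _ (isSolvable_comap f Z ((isSolvable_congr (f.ker.equivMapOfInjective _
    X.subtype_injective)).2 hk) h)

theorem elem_im (hA : IsElementaryAbelian 2 A) : IsElementaryAbelian 2 (im f A) := by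
  have : ∀ y ∈ im f A, y * y = 1 := fun y hy => by
    obtain ⟨a, ha, h1, rfl⟩ := mem_im.1 hy
    rw [← bar_mul h1 h1, esq hA ha, bar_one]
  exact ⟨comm_of_sq this, fun y hy => by rw [sq, this y hy]⟩

theorem scl_mem (h : SCl A) {P : Subgroup G} (hP : IsPGroup 2 P) (hA : A ≤ P) {a g : G} (ha : a ∈ A)
    (hg : g * a * g⁻¹ ∈ P) : g * a * g⁻¹ ∈ A := h P hP hA _ hg g⁻¹ (by simpa [mul_assoc] using ha)

end

variable {Y : Type u} [Group Y] [Finite Y] {T B K : Subgroup Y}

/-- a core-free group with a strongly closed elementary abelian subgroup -/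
structure Cr (T B : Subgroup Y) : Prop where
  ai : AI Y
  oc : pPrimeCore 2 Y = ⊥
  syl : Syl T
  le : B ≤ T
  scl : SCl B
  el : IsElementaryAbelian 2 B

namespace Cr
variable (c : Cr T B)
include c

theorem pT : IsPGroup 2 T := c.syl.isPGroup

theorem TB : T ≤ N[B] := c.scl.le_normalizer c.pT c.le

theorem fit : fittingSubgroup Y ≤ T :=
  (fitting_eq_pCore_of_pPrimeCore_eq_bot 2 c.oc).le.trans
    (c.syl.le_of_normalizes isPGroup_pCore le_top le_normalizer_of_normal)

theorem core : B ⊓ C[layer Y] ≤ pCore 2 Y := by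
  have hn : (C[layer Y]).IsSubnormal := Normal.isSubnormal inferInstance
  have h1 : SCl ((B ⊓ C[layer Y]).subgroupOf C[layer Y]) :=
    .of_sylow (CI2.isSylowIn_subgroupOf_top (sylow_inf_sub c.syl hn)) fun x hx g hg =>
      ⟨c.scl T c.pT c.le x hx.2 g hg.1, x.2⟩
  have h2 := elemAb_mono c.el (inf_le_left (b := C[layer Y]))
  have h3 := h1.normal_of_char (isMulCommutative_of_forall fun a ha b hb =>
    Subtype.ext (comm_of_isMulCommutative h2.1 ha hb)) (elemAb_isPGroup h2).comap_subtype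
    ((fstar_eq_pCore_iff_centralizer_le 2).1 ((fstar_eq_pCore_iff 2).2 ⟨layer_eq_bot_iff.2 fun L hL => ?_, ?_⟩))
  · exact le_pCore_of_isSubnormal (isSubnormal_of_le_normalizer inf_le_right
      (le_normalizer_of_normal_subgroupOf inf_le_right) hn) (elemAb_isPGroup h2)
  · have := (isComponent_map_subtype_iff hn L).2 hL
    exact this.2.not_le_centralizer ((map_subtype_le L).trans (centralizer_mono this.le_layer))
  · rw [← map_eq_bot_iff_of_injective _ (subtype_injective _), ← le_bot_iff, ← c.oc]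
    exact pPrimeCoreOf_le_pPrimeCore_of_isSubnormal hn

variable (hK : IsComponent K)
include hK

theorem zT : K ⊓ C[K] ≤ T := (inf_centralizer_le_fitting_of_isSubnormal hK.1).trans c.fit

theorem sylK : IsSylowIn 2 (K ⊓ T) K := sylow_inf_sub c.syl hK.1

theorem not_le : ¬ K ⊓ T ≤ C[K] := not_isSylowIn_le_centralizer hK.commutator_self
  (by by_contra h; exact hK.2.not_isSolvable (odd_solv (Nat.odd_iff.2 (Nat.two_dvd_ne_zero.1 h)))) (c.sylK hK)

theorem not_N : ¬ K ≤ N[T] := fun h =>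
  (hK.2.eq_or_commutator_eq_bot inf_le_left (le_normalizer_inf le_normalizer h)).elim
    (fun e => hK.2.not_isSolvable (e ▸ isSolvable_of_isPGroup c.pT.to_inf_right))
    fun e => c.not_le hK (le_centralizer_of_commutator_eq_bot e)

theorem cm {x y : Y} (hx : x ∈ T ⊓ C[K]) (hy : y ∈ T ⊓ C[K]) : x * y = y * x := by
  by_contra e
  exact c.not_N hK fun k hk => c.ai.norm c.syl hx.1 hy.1 e (by rw [cC hx.2 hk]; simpa using hx.1)
    (by rw [cC hy.2 hk]; simpa using hy.1)

omit c in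
theorem mem_N {g v : Y} (h1 : v ∉ C[K]) (hg : g * v * g⁻¹ ∈ K) : g ∈ N[K] :=
  conj_eq_iff_mem_normalizer.1 (((hK.map_conj g).eq_or_commutator_eq_bot hK).resolve_right fun e => h1 (by
    have := le_centralizer_of_commutator_eq_bot' e hg
    rwa [← conj_centralizer, conj_mem_conj_iff] at this))

theorem nK : B ≤ N[K] := fun b hb => by
  by_contra hn
  have h1 := le_centralizer_of_commutator_eq_bot (((hK.map_conj b).eq_or_commutator_eq_bot hK).resolve_left
    fun e => hn (conj_eq_iff_mem_normalizer.1 e))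
  obtain ⟨P, hP⟩ := (c.sylK hK).exists_sylow'
  have := sylow_le_of_fusion (pResidual_eq_top_of_commutator_eq_top hK.2.commutator_top) P (C[K].subgroupOf K)
    fun ⟨x, xK⟩ hx ⟨g, gK⟩ hg => by
      rw [← SetLike.mem_coe, ← Sylow.coe_coe, hP] at hx hg
      change x ∈ K ⊓ T at hx
      change g * x * g⁻¹ ∈ K ⊓ T at hg
      change x⁻¹ * (g * x * g⁻¹) ∈ C[K]
      by_contra h2
      have h3 : x⁻¹ * (b * x * b⁻¹) ∈ B := mem_of_mem_of_eq
        (mul_mem (cN' (c.TB hx.2) hb) (inv_mem hb)) (by group)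
      have e : g * (x⁻¹ * (b * x * b⁻¹)) * g⁻¹ = (g * x * g⁻¹)⁻¹ * (b * x * b⁻¹) := by
        calc _ = g * x⁻¹ * ((b * x * b⁻¹) * g⁻¹) := by group
          _ = _ := by rw [← cC (h1 (conj_mem_conj xK b)) (inv_mem gK)]; group
      have h4 := scl_mem c.scl c.pT c.le h3 (g := g) (e ▸ mul_mem (inv_mem hg.2) (cI (c.le hb) hx.2))
      have h5 : x⁻¹ * (g * x * g⁻¹) ∈ B := mem_of_mem_of_eq (mul_mem h3 (inv_mem h4)) (by rw [e]; group)
      refine hn (mem_N hK h2 ?_)
      rw [comm_of_isMulCommutative c.el.1 hb h5, mul_inv_cancel_right]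
      exact mul_mem (inv_mem xK) (cI gK xK)
  exact c.not_le hK fun x hx => this (show (⟨x, hx.1⟩ : K) ∈ (P : Subgroup K) from hP ▸ hx)

theorem cen (h : B ⊓ K ≤ C[K]) : B ≤ C[K] := fun b hb => by
  have hB := c.nK hK
  have hK' : K ≤ N[K] := le_normalizer
  obtain ⟨Z, _, _, f, hf, hk⟩ := exists_quot (X := N[K]) (inf_le_left.trans hK')
    (le_normalizer_inf le_rfl (normalizer_le_normalizer_centralizer K))
  have hp : IsPGroup 2 (kr f) := hk ▸ c.pT.to_le (c.zT hK)
  have h1 : SCl (im f B) := scl_map2 (c.scl.subgroupOf hB) hf (IsPGroup.of_card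
    (card_kr.symm.trans hp.exists_card_eq.choose_spec))
  have h2 := elem_im (f := f) c.el
  have hb' := bar_mem_im (f := f) hb (hB hb)
  have bb := esq h2 hb'
  have hn : ∀ g, g ∈ N[im f K] := fun g => (im_le_normalizer hK' le_rfl) (im_self hf ▸ mem_top g)
  have h3 : im f K ≤ N[O[im f K ⊔ zpowers (bar f b)] ⊔ zpowers (bar f b)] := fun k hk' => mN fun x hx => by
    obtain ⟨o, ho, y, hy, rfl⟩ := (mem_sup_of_le_normalizer (le_sup_right.trans (le_n_oc _))).1 hx
    rw [← conj_mul]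
    refine mul_mem (mem_sup_left (cN (le_n_oc _ (mem_sup_left hk')) ho)) ?_
    rcases (mem_zpowers_two bb).1 hy with rfl | rfl
    · simp
    refine mem_of_mem_of_eq (mul_mem (mem_sup_left (DD.zstar_in (mem_sup_right (mem_zpowers _)) bb
      (fun g hg e => ?_) (mem_sup_left hk'))) (mem_sup_right (mem_zpowers _))) (by group)
    have h4 : bar f b * (g * bar f b * g⁻¹) ∈ im f K := by
      obtain ⟨l, hl, y, hy, rfl⟩ := (mem_sup_of_le_normalizer (zpowers_le.2 (hn _))).1 hg
      have e1 : y * bar f b * y⁻¹ = bar f b := by rw [zcm hy (mem_zpowers _)]; simp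
      refine mem_of_mem_of_eq (mul_mem (cN (hn (bar f b)) hl) (inv_mem hl)) ?_
      rw [inv_eq bb]; nth_rewrite 2 [← e1]; group
    obtain ⟨k, -, h5⟩ := h1.exists_conj_mem h2 hb' (u := bar f b * (g * bar f b * g⁻¹)) (by
      rw [sq, mul_assoc, ← mul_assoc (g * _ * _), ← e, mul_assoc, sq_conj bb, mul_one, bb])
      ((Commute.refl _).mul_right e) hb' (isConj_iff.2 ⟨g, (cl bb _).symm⟩)
    obtain ⟨b', hb1, hb2, e1⟩ := mem_im.1 h5
    have h6 := (bar_mem_im_iff hb2 hK').1 (e1 ▸ cN (hn k) h4)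
    rw [hk, sup_inf_self] at h6
    rw [(bar_eq_one_iff hb2).2 (hk ▸ mem_inf.2 ⟨h6, h ⟨hb1, h6⟩⟩), eq_comm, conj_eq_one_iff] at e1
    rw [eq_inv_of_mul_eq_one_right e1, inv_eq bb]
  exact le_centralizer_of_commutator_eq_bot' (hK.commutator_eq_bot_of_isSolvable (solv_pre
    (isSolvable_of_isPGroup hp) (by
      rw [sup_comm]
      exact isSolvable_sup_of_le_normalizer (le_sup_right.trans (le_n_oc _))
        (isSolvable_of_isPGroup (isPGroup_sq bb)) (odd_solv (odd_oc _))))
    fun k hk' => pre_norm (hK' hk') (h3 (bar_mem_im hk' (hK' hk'))))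
    (mem_pre.2 ⟨hB hb, mem_sup_right (mem_zpowers _)⟩)

end Cr

end Cfsg.Lib.AbInt
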