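import Cfsg.Agent.Lib.AbInt.Basic
import Cfsg.Agent.Lib.Big.ZD
import Cfsg.Agent.Lib.Gold.Sep
import Cfsg.Agent.Lib.SC2.Ind
import Cfsg.Agent.Lib.DD.Tools

/-!
# The endgame: strong embedding from a strongly closed elementary abelian subgroup
-/

set_option autoImplicit false
set_option linter.unusedSectionVars false

namespace Cfsg.Lib.AbInt
open Subgroup Cfsg Cfsg.Lib Cfsg.Lib.FT Cfsg.Lib.R1 Cfsg.Lib.Wal Cfsg.Lib.GW
open scoped commutatorElement

variable {G : Type*} [Group G] [Finite G] {A : Subgroup G}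

theorem esq (h : IsElementaryAbelian 2 A) {a : G} (ha : a ∈ A) : a * a = 1 := by rw [← sq]; exact h.2 a ha

theorem not_normal [IsSimpleGroup G] (hG : ¬ IsMulCommutative G) (h : Group.IsSolvable A) (h0 : A ≠ ⊥) :
    N[A] ≠ ⊤ := fun e => by
  rcases (normalizer_eq_top_iff.1 e).eq_bot_or_eq_top with e | e
  · exact h0 e
  · exact hG ⟨⟨IsSimpleGroup.comm_iff_isSolvable.2 (sc_solv_of_top (e ▸ h))⟩⟩

theorem se_of [IsSimpleGroup G] (h : SCl A) (hA : IsElementaryAbelian 2 A) (h0 : A ≠ ⊥) {M : Subgroup G}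
    (hM : M ≠ ⊤) (h1 : N[A] ≤ M) (h2 : ∀ a ∈ A, a ≠ 1 → C1[a] ≤ M) : IsStronglyEmbedded M := by
  obtain ⟨P, hP, hAP⟩ := exists_isSylowIn_ge (elemAb_isPGroup hA) (le_normalizer.trans h1)
  set D : Set G := {x | ∃ g, ∃ a ∈ A, a ≠ 1 ∧ g * x * g⁻¹ = a}
  have d2 : ∀ d ∈ D, orderOf d = 2 := by
    rintro d ⟨g, a, ha, a1, e⟩
    rw [← DD.ord_conj g d, e]; exact elemAb_orderOf hA ha a1
  have dc : ∀ d ∈ D, ∀ g : G, g * d * g⁻¹ ∈ D := by
    rintro d ⟨g, a, ha, a1, e⟩ k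
    exact ⟨g * k⁻¹, a, ha, a1, by rw [← e]; group⟩
  have k : ∀ d ∈ D, d ∈ P → d ∈ A := by
    rintro d ⟨g, a, ha, -, e⟩ hd
    exact h P hP.isPGroup hAP d hd g (e ▸ ha)
  have k1 : ∀ d ∈ D, d ∈ M → ∃ m ∈ M, m * d * m⁻¹ ∈ A := fun d hd hm => by
    obtain ⟨m, hm, e⟩ := hP.exists_conj_le (isPGroup_sq (sq2 (d2 d hd))) (zpowers_le.2 hm)
    exact ⟨m, hm, k _ (dc d hd m) (e (conj_mem_conj (mem_zpowers d) m))⟩
  have fix : ∀ d ∈ D, d ∈ M → ∀ g : G, g * d * g⁻¹ ∈ M → g ∈ M := fun d hd hm g hg => by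
    obtain ⟨m, hm, e⟩ := k1 d hd hm
    obtain ⟨l, hl, e'⟩ := k1 _ (dc d hd g) hg
    obtain ⟨n, hn, e1⟩ := h.fusion hA.1 (elemAb_isPGroup hA) le_top (mem_top (l * g * m⁻¹)) e
      (mem_of_mem_of_eq e' (by group))
    have := h2 _ e (conj_ne_one (ne1 (d2 d hd))) (mem_C1.2 (show n⁻¹ * (l * g * m⁻¹) * _ = _ by
      rw [← mul_inv_eq_iff_eq_mul]
      calc _ = n⁻¹ * (l * g * m⁻¹ * (m * d * m⁻¹) * (l * g * m⁻¹)⁻¹) * n := by group
        _ = _ := by rw [e1]; group))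
    rwa [mul_mem_cancel_left (inv_mem (h1 hn.2)), mul_mem_cancel_right (inv_mem hm), mul_mem_cancel_left hl] at this
  obtain ⟨a, ha, a1⟩ := (bot_or_exists_ne_one A).resolve_left h0
  have aD : a ∈ D := ⟨1, a, ha, a1, by simp⟩
  have aM := h1 (le_normalizer ha)
  have hp := Big.zd_pure hM d2 dc ⟨a, aD, aM⟩ fix fun x hx y hy h3 h4 hne hc => by
    have := elemAb_isPGroup (elemAb_sup (p := 2) (elemAb_zpowers (x := x) (by rw [sq, sq2 (d2 x hx)]))
      (elemAb_zpowers (x := y) (by rw [sq, sq2 (d2 y hy)])) (by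
        rw [centralizer_zpowers]; exact zpowers_le.2 (mem_C1.2 hc.eq)))
    obtain ⟨m, -, e⟩ := hP.exists_conj_le this (sup_le (zpowers_le.2 h3) (zpowers_le.2 h4))
    refine ⟨m, _, mul_mem (k _ (dc x hx m) (e (conj_mem_conj (mem_sup_left (mem_zpowers x)) m)))
      (k _ (dc y hy m) (e (conj_mem_conj (mem_sup_right (mem_zpowers y)) m))), ?_, (conj_mul ..).symm⟩
    rw [conj_mul]
    exact conj_ne_one fun e => hne (by rw [eq_inv_of_mul_eq_one_left e, inv_eq (sq2 (d2 y hy))])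
  have hn : (closure D).Normal := ⟨fun x hx g => by
    induction hx using closure_induction with
    | mem x hx => exact subset_closure (dc x hx g)
    | one => simp
    | mul x y _ _ a b => rw [← conj_mul]; exact mul_mem a b
    | inv x _ a => rw [← conj_inv]; exact inv_mem a⟩
  rw [hn.eq_bot_or_eq_top.resolve_left fun e => a1 (e.le (subset_closure aD))] at hp
  refine ⟨hM, Nat.not_odd_iff_even.1 (not_mem_of_odd · (d2 a aD) aM), fun g hg => odd_of_forall ?_⟩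
  rintro _ ⟨h3, u, hu, rfl⟩ h4
  exact hg (fix u (hp u trivial ((DD.ord_conj g u).symm.trans h4)) hu g h3)

/-- `A O(X)` is normal in `X` -/
def Good (A X : Subgroup G) : Prop := X ≤ O[X] ⊔ X ⊓ N[A]

theorem Good.comm {X : Subgroup G} (h : Good A X) : ⁅X, A⁆ ≤ O[X] ⊔ A :=
  (commutator_mono le_rfl le_sup_right).trans (le_normalizer_iff_commutator_le_right.1 (h.trans
    (sup_le (le_sup_left.trans le_normalizer) (le_normalizer_sup (inf_le_left.trans (le_n_oc X)) inf_le_right))))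

theorem Good.h1 {X Y : Subgroup G} (h : Good A X) (h2 : IsPGroup 2 A) (hA : A ≤ X) (hY : Y ≤ X)
    (ho : Odd (Nat.card Y)) (hn : A ≤ N[Y]) : ⁅Y, A⁆ ≤ O[X] := by
  have hn' := hA.trans (le_n_oc X)
  have h1 : X ≤ N[O[X] ⊔ A] := h.trans (sup_le (le_sup_left.trans le_normalizer)
    (le_normalizer_sup (inf_le_left.trans (le_n_oc X)) inf_le_right))
  exact (le_piCoreOf_of_hasNormalPComplement (hasNormalPComplement_of_le_sup (not_two_dvd (odd_oc X))
    (sup_le le_normalizer hn') h2 hn' le_rfl) ((commutator_mono hY le_rfl).trans h.comm)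
    (not_two_dvd (odd_of_le ho (le_normalizer_iff_commutator_le_left.1 hn)))).trans
    (le_oc ((oc_le _).trans (sup_le (oc_le X) hA)) (h1.trans (normalizer_le_normalizer_piCoreOf _ _)) (odd_oc _))

theorem Good.h2 {X : Subgroup G} (h : Good A X) : O[C[A]] ⊓ X ≤ O[X] :=
  le_sup_left.trans (le_oc (sup_le inf_le_right (oc_le X)) (h.trans (sup_le (le_sup_right.trans le_normalizer)
    (le_normalizer_sup (le_normalizer_inf (inf_le_right.trans ((normalizer_le_normalizer_centralizer A).trans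
      (normalizer_le_normalizer_piCoreOf _ _))) (inf_le_left.trans le_normalizer)) (inf_le_left.trans (le_n_oc X)))))
    (odd_sup (odd_of_le (odd_oc _) inf_le_left) (odd_oc X) (inf_le_right.trans (le_n_oc X))))

theorem gs_eq (B : Subgroup G) (a : G) : gsTheta B a = ⁅O[C1[a]], B⁆ ⊔ O[C1[a]] ⊓ O[C[B]] := by
  rw [gsTheta, centralizerPPrimeCore_eq]

theorem gs_sig' (h4 : 4 ≤ Nat.card A) {E : Subgroup G} (hE : IsElementaryAbelian 2 E) (hAE : A ≤ E)
    (h1 : ∀ e ∈ E, ∀ f ∈ E, f ≠ 1 → ⁅O[C1[e]] ⊓ C1[f], A⁆ ≤ O[C1[f]])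
    (h2 : ∀ f ∈ E, f ≠ 1 → O[C[A]] ⊓ C1[f] ≤ O[C1[f]]) : IsSignalizerFunctor 2 E (gsTheta A) := by
  have hA := elemAb_mono hE hAE
  have hC : ∀ {x : G}, x ∈ E → E ≤ C1[x] := fun hx => le_C1_iff.2 (elemAb_le_centralizer hE hx)
  have hle : ∀ {a : G}, a ∈ E → gsTheta A a ≤ O[C1[a]] := fun {a} ha =>
    (gsTheta_le (hAE.trans (hC ha))).trans (centralizerPPrimeCore_eq a).le
  have hn : ∀ {a : G}, a ∈ E → E ≤ N[gsTheta A a] := fun ha =>
    (le_inf (hC ha) (le_N_of_comm hE.1 hAE)).trans gsTheta_norm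
  have fix : ∀ {a : G}, a ∈ E → gsTheta A a ⊓ C[A] ≤ O[C[A]] := fun {a} ha y hy => by
    have cop := copAct (elemAb_isPGroup hA) (odd_oc _) ((hAE.trans (hC ha)).trans (le_n_oc _))
    have key : ⁅O[C1[a]], A⁆ ⊓ C[A] ≤ O[C[A]] := by
      refine gold_fix cop.commutator_act (odd_solv (odd_of_le (odd_oc _) cop.commutator_le)) hA.1
        cop.commutator_commutator fun B hB => ?_
      obtain ⟨c, hc, c1⟩ := (bot_or_exists_ne_one B).resolve_left (cocyc_ne_bot (fun _ => esq hA) h4 hB)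
      exact (inf_le_inf_right _ ((commutator_mono (inf_le_inf cop.commutator_le (centralizer_le_singleton hc))
        le_rfl).trans (h1 a ha c (hAE (hB.1 hc)) c1))).trans (piCoreOf_inf_le _ (centralizer_le_singleton (hB.1 hc)))
    rw [gs_eq] at hy
    obtain ⟨u, hu, v, hv, rfl⟩ := (mem_sup_of_le_normalizer
      (inf_le_left.trans (le_normalizer_commutator_left _ _))).1 hy.1
    exact mul_mem (key ⟨hu, (C[A].mul_mem_cancel_right (oc_le _ hv.2)).1 hy.2⟩) hv.2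
  refine ⟨fun a ha _ => (hle ha).trans (oc_le _), fun a ha _ => not_two_dvd (odd_of_le (odd_oc _) (hle ha)),
    fun a ha _ b hb x hx => cN (hn ha hb) hx, fun a ha _ b hb b1 => ?_⟩
  have hY := copAct (elemAb_isPGroup hA) (odd_of_le (odd_oc _) ((inf_le_left (b := C1[b])).trans (hle ha)))
    (hAE.trans (le_normalizer_inf (hn ha) ((hC hb).trans le_normalizer)))
  have h3 := (inf_le_inf_right C[A] (inf_le_left (b := C1[b]))).trans (fix ha)
  rw [gs_eq A b]
  exact hY.commutator_sup_centralizer.ge.trans (sup_le_sup (hY.commutator_commutator.ge.trans (commutator_mono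
    ((commutator_mono (inf_le_inf_right _ (hle ha)) le_rfl).trans (h1 a ha b hb b1)) le_rfl))
    (le_inf ((le_inf h3 (inf_le_left.trans inf_le_right)).trans (h2 b hb b1)) h3))

theorem endgame [IsSimpleGroup G] (hG : ¬ IsMulCommutative G) (h : SCl A) (h4 : 4 ≤ Nat.card A) {E : Subgroup G}
    (hE : IsElementaryAbelian 2 E) (hAE : A ≤ E) (h8 : 2 ^ 3 ≤ Nat.card E) (hg : ∀ a ∈ A, a ≠ 1 → Good A C1[a])
    (h1 : ∀ e ∈ E, ∀ f ∈ E, f ≠ 1 → ⁅O[C1[e]] ⊓ C1[f], A⁆ ≤ O[C1[f]])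
    (h2 : ∀ f ∈ E, f ≠ 1 → O[C[A]] ⊓ C1[f] ≤ O[C1[f]]) : ∃ M : Subgroup G, IsStronglyEmbedded M := by
  have hA := elemAb_mono hE hAE
  have hθ := gs_sig' h4 hE hAE h1 h2
  have hW := sigClosure_mem_two hE h8 ⟨hθ, fun a ha h1 => isSolvable_of_not_two_dvd (hθ.2.1 a ha h1)⟩
  obtain ⟨W, e⟩ : ∃ W, W = signalizerClosure A fun a => ⁅O[C1[a]], A⁆ := ⟨_, rfl⟩
  have hO : Odd (Nat.card W) := odd_of_le (Nat.odd_iff.2 (Nat.two_dvd_ne_zero.1 (sigFam_not_dvd hW)))
    (e.le.trans (sigClosure_le fun a ha a1 => (le_sup_left.trans (gs_eq A a).ge).trans (le_sigClosure (hAE ha) a1)))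
  have hN : N[A] ≤ N[W] := fun g hg => e ▸ mem_normalizer_sigClosure hg fun a _ _ => by
    rw [conj_commutator, conj_eq_iff_mem_normalizer.2 hg, ← piCoreOf_conj, c1_conj]
  have h0 : A ≠ ⊥ := fun e => by rw [e, card_bot] at h4; omega
  refine ⟨W ⊔ N[A], se_of h hA h0 (fun e => ?_) le_sup_right fun a ha a1 => (hg a ha a1).trans (sup_le ?_
    (inf_le_right.trans le_sup_right))⟩
  · by_cases e1 : W = ⊥
    · exact not_normal hG (isSolvable_of_isMulCommutative hA.1) h0 (by rwa [e1, bot_sup_eq] at e)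
    · exact not_normal hG (odd_solv hO) e1 (top_le_iff.1 (e.ge.trans (sup_le le_normalizer hN)))
  · exact (copAct (elemAb_isPGroup hA) (odd_oc _) ((le_C1_iff.2 (elemAb_le_centralizer hA ha)).trans
      (le_n_oc _))).commutator_sup_centralizer.ge.trans (sup_le_sup ((le_sigClosure
        (θ := fun a => ⁅O[C1[a]], A⁆) ha a1).trans e.ge) (inf_le_right.trans (centralizer_le_normalizer _)))

end Cfsg.Lib.AbInt
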