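import Cfsg.Agent.Lib.AbInt.Basic

/-!
# Failure of factorization for essential subgroups
-/

set_option autoImplicit false
set_option linter.unusedSectionVars false

namespace Cfsg.Lib.AbInt
open Subgroup Cfsg Cfsg.Lib Cfsg.Lib.FT Cfsg.Lib.R1 Cfsg.Lib.Wal
open scoped commutatorElement

variable {G : Type*} [Group G] [Finite G]

theorem card_cover {ι : Type*} [Finite ι] [Nonempty ι] (U : ι → Subgroup G) {Y W : Subgroup G}
    (hY : ∀ i, Y ≤ U i) (hW : ∀ i, U i ≤ W) (hp : ∀ i j, i ≠ j → U i ⊓ U j ≤ Y) {m : ℕ}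
    (hm : ∀ i, Nat.card (U i) = m) : Nat.card Y + Nat.card ι * (m - Nat.card Y) ≤ Nat.card W ∧
      (Nat.card W ≤ Nat.card Y + Nat.card ι * (m - Nat.card Y) → ∀ w ∈ W, ∃ i, w ∈ U i) := by
  classical
  have := Fintype.ofFinite ι
  have := Fintype.ofFinite G
  have hc : ∀ X : Subgroup G, Nat.card X = (Finset.univ.filter (· ∈ X)).card := fun X => by
    rw [Nat.card_eq_fintype_card, Fintype.card_subtype]
  set T := Finset.univ.filter (· ∈ Y) ∪ Finset.univ.biUnion fun i =>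
    Finset.univ.filter (· ∈ U i) \ Finset.univ.filter (· ∈ Y) with hT
  have h1 : T.card = Nat.card Y + Nat.card ι * (m - Nat.card Y) := by
    rw [hT, Finset.card_union_of_disjoint, Finset.card_biUnion, ← hc,
      Finset.sum_const_nat (m := m - Nat.card Y), Nat.card_eq_fintype_card (α := ι), Finset.card_univ]
    · intro i _
      rw [Finset.card_sdiff_of_subset, ← hc, ← hc, hm]
      intro x hx
      simp only [Finset.mem_filter, Finset.mem_univ, true_and] at hx ⊢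
      exact hY i hx
    · intro i _ j _ hij
      rw [Function.onFun, Finset.disjoint_left]
      intro x h1 h2
      simp only [Finset.mem_sdiff, Finset.mem_filter, Finset.mem_univ, true_and] at h1 h2
      exact h1.2 (hp i j hij ⟨h1.1, h2.1⟩)
    · rw [Finset.disjoint_left]
      intro x h1 h2
      simp only [Finset.mem_biUnion, Finset.mem_sdiff, Finset.mem_filter, Finset.mem_univ, true_and] at h1 h2
      obtain ⟨i, h2⟩ := h2
      exact h2.2 h1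
  have h2 : ∀ x ∈ T, ∃ i, x ∈ U i := fun x hx => by
    simp only [hT, Finset.mem_union, Finset.mem_biUnion, Finset.mem_sdiff, Finset.mem_filter, Finset.mem_univ,
      true_and] at hx
    rcases hx with hx | ⟨i, hx, -⟩
    · exact ⟨Classical.arbitrary ι, hY _ hx⟩
    · exact ⟨i, hx⟩
  have h3 : T ⊆ Finset.univ.filter (· ∈ W) := fun x hx => by
    obtain ⟨i, hi⟩ := h2 x hx
    simpa using hW i hi
  rw [← h1, hc W]
  exact ⟨Finset.card_le_card h3, fun e w hw => h2 w (Finset.eq_of_subset_of_card_le h3 e ▸ (by simpa using hw))⟩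

namespace Ess
variable {S K : Subgroup G} (h : Ess S K)
include h

theorem mem_RC_of {y : G} (h1 : y ∈ N[K]) (h2 : y ∈ N[S ⊓ N[K] ⊔ C[K]]) (hp : IsPGroup 2 (zpowers y)) :
    y ∈ S ⊓ N[K] ⊔ C[K] := by
  obtain ⟨m, hm, e⟩ := (h.fn.mono (L := N[K] ⊓ N[S ⊓ N[K] ⊔ C[K]])
    (le_inf inf_le_right (le_sup_left.trans le_normalizer)) inf_le_left).exists_conj_le hp (zpowers_le.2 ⟨h1, h2⟩)
  exact le_of_conj_le (e.trans le_sup_left) hm.2 (mem_zpowers y)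

theorem ti2 {x g : G} (hx : x ∈ S ⊓ N[K]) (h1 : x ∉ K) (hg : g ∈ N[K])
    (h2 : g * x * g⁻¹ ∈ N[S ⊓ N[K] ⊔ C[K]]) : g ∈ N[S ⊓ N[K] ⊔ C[K]] :=
  h.ti hx h1 hg (h.mem_RC_of (cI hg hx.2) h2 (by
    rw [← conj_zpowers]; exact isPGroup_conj_iff.2 (isPGroup_zpowers h.syl.isPGroup hx.1)))

theorem R_le_M : S ⊓ N[K] ≤ N[S ⊓ N[K] ⊔ C[K]] := le_sup_left.trans le_normalizer

theorem R_o2 {x n : G} (hx : x ∈ S ⊓ N[K]) (hn : n ∈ N[K]) : n * x * n⁻¹ ∈ o2 N[K] :=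
  cN (le_normalizer_pGen _ hn) (le_pGen_of_isPGroup h.fn.isPGroup inf_le_right hx)

theorem o2_le {X : Subgroup G} (hX : ∀ n ∈ N[K], ∀ x ∈ S ⊓ N[K], n * x * n⁻¹ ∈ X) : o2 N[K] ≤ X := by
  refine pGen_le_iff.2 fun x hx k hk => ?_
  obtain ⟨n, hn, e⟩ := h.fn.exists_conj_le (U := zpowers x) (fun ⟨y, hy⟩ => by
    obtain ⟨i, rfl⟩ := hy
    exact ⟨k, Subtype.ext (by
      show (x ^ i) ^ 2 ^ k = 1
      rw [← zpow_natCast, ← zpow_mul, mul_comm, zpow_mul, zpow_natCast, hk, one_zpow])⟩) (zpowers_le.2 hx)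
  simpa [mul_assoc] using hX _ (inv_mem hn) _ (e (conj_mem_conj (mem_zpowers x) n))

theorem N_Y : N[K] ≤ N[K ⊓ C[o2 N[K]]] :=
  le_normalizer_inf le_rfl ((le_normalizer_pGen _).trans (normalizer_le_normalizer_centralizer _))

end Ess

/-- the hypothesis of the failure-of-factorization lemma -/
structure FH (S K A : Subgroup G) : Prop extends Ess S K where
  AR : A ≤ S ⊓ N[K]
  AK : ¬ A ≤ K
  quad : ∀ x ∈ K, ∀ a ∈ A, a * x * a⁻¹ * x⁻¹ ∈ C[A]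
  ff : (K ⊓ C[A]).relIndex K ≤ K.relIndex A

namespace FH
variable {S K A : Subgroup G} (h : FH S K A)
include h

local notation "U" => K ⊓ C[A]
local notation "M" => N[S ⊓ N[K] ⊔ C[K]]
local notation "Y" => K ⊓ C[o2 N[K]]

theorem cU {x a : G} (hx : x ∈ K) (ha : a ∈ A) : a * x * a⁻¹ * x⁻¹ ∈ U :=
  ⟨K.mul_mem (cN (h.AR ha).2 hx) (K.inv_mem hx), h.quad x hx a ha⟩

theorem gU_le {g : G} (hg : g ∈ N[K]) : g •ᶜ U ≤ K := map_conj_le_of_mem_normalizer inf_le_left hg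

theorem ne {g : G} (hg : g ∈ N[K]) (hM : g ∉ M) : g •ᶜ U ≠ U := by
  intro e
  have hn := conj_eq_iff_mem_normalizer.1 e
  obtain ⟨b, hb, hK⟩ := SetLike.not_le_iff_exists.1 h.AK
  have h1 : b ∈ C[U] := mC fun x hx => (cC hx.2 hb).symm
  refine hM (h.ti (h.AR hb) hK hg (h.stab (W := U) inf_le_left le_rfl (fun _ hk _ => hk) (h.AR hb).1 hK
    ⟨⟨(h.AR hb).2, h1⟩, centralizer_le_normalizer _ h1, fun c hc => h.cU hc hb⟩ ⟨⟨cI hg (h.AR hb).2,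
      cN (normalizer_le_normalizer_centralizer _ hn) h1⟩, cI hn (centralizer_le_normalizer _ h1), fun c hc => ?_⟩))
  exact mem_of_mem_of_eq (cN hn (h.cU (cN' hg hc) hb)) (by group)

theorem Y_le {g b : G} (hb : b ∈ A) : U ⊓ g •ᶜ U ≤ (b * g) •ᶜ U := fun x hx => by
  rw [← conj_conj]
  exact mem_of_mem_of_eq (conj_mem_conj hx.2 b) (by rw [cC hx.1.2 hb]; group)

theorem apart {g b b' : G} (hg : g ∈ N[K]) (hM : g ∉ M) (hb : b ∈ S ⊓ N[K]) (hb' : b' ∈ S ⊓ N[K])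
    (e : (b * g)⁻¹ * (b' * g) ∈ M) : b⁻¹ * b' ∈ K := by
  by_contra h1
  exact hM (inv_mem_iff.1 (h.ti2 (mul_mem (inv_mem hb) hb') h1 (inv_mem hg) (by simpa [mul_assoc] using e)))

theorem core {g : G} (hg : g ∈ N[K]) (hM : g ∉ M)
    (hmax : ∀ g' ∈ N[K], g' ∉ M → Nat.card ↥(U ⊓ g' •ᶜ U) ≤ Nat.card ↥(U ⊓ g •ᶜ U)) :
    (U).relIndex K = K.relIndex A ∧ Nat.card ↥(U) = (U).relIndex K * Nat.card ↥(U ⊓ g •ᶜ U) ∧
      (∀ g₁ ∈ N[K], ∀ g₂ ∈ N[K], g₁⁻¹ * g₂ ∉ M → U ⊓ g •ᶜ U ≤ g₁ •ᶜ U → U ⊓ g •ᶜ U ≤ g₂ •ᶜ U →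
        g₁ •ᶜ U ⊓ g₂ •ᶜ U ≤ U ⊓ g •ᶜ U) ∧ ∀ w ∈ K, w ∈ U ∨ ∃ b ∈ A, w ∈ (b * g) •ᶜ U := by
  have pw : ∀ g₁ ∈ N[K], ∀ g₂ ∈ N[K], g₁⁻¹ * g₂ ∉ M → U ⊓ g •ᶜ U ≤ g₁ •ᶜ U → U ⊓ g •ᶜ U ≤ g₂ •ᶜ U →
      g₁ •ᶜ U ⊓ g₂ •ᶜ U ≤ U ⊓ g •ᶜ U := fun g₁ h1 g₂ h2 h3 h4 h5 => by
    refine (eq_of_le_of_card_ge (le_inf h4 h5) ?_).ge
    refine le_trans (le_of_eq ?_) (hmax _ (mul_mem (inv_mem h1) h2) h3)
    rw [← card_conj g₁ (U ⊓ _), conj_inf g₁ U, conj_conj, mul_inv_cancel_left]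
  let e : Option (A ⧸ K.subgroupOf A) → G := fun o => o.elim 1 fun c => (c.out : A) * g
  have he : ∀ o, e o ∈ N[K] := by
    rintro (_ | c)
    exacts [one_mem _, mul_mem (h.AR c.out.2).2 hg]
  have hY : ∀ o, U ⊓ g •ᶜ U ≤ e o •ᶜ U := by
    rintro (_ | c)
    exacts [inf_le_left.trans (map_conj_one _).ge, h.Y_le c.out.2]
  have hbM : ∀ b ∈ A, b * g ∉ M := fun b hb e => hM ((mul_mem_cancel_left (h.R_le_M (h.AR hb))).1 e)
  obtain ⟨c1, c2⟩ := card_cover (fun o => e o •ᶜ U) (W := U ⊔ g •ᶜ U) hY (by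
    rintro (_ | c)
    · exact (map_conj_one _).le.trans le_sup_left
    · show ((c.out : A) * g) •ᶜ U ≤ _
      rw [← conj_conj]
      rintro _ ⟨x, hx, rfl⟩
      exact mem_of_mem_of_eq (mul_mem (mem_sup_left (h.cU (h.gU_le hg hx) c.out.2)) (mem_sup_right hx))
        (by simp)) (fun i j hij => pw _ (he i) _ (he j) (by
    rcases i with _ | c <;> rcases j with _ | d
    · exact absurd rfl hij
    · simpa [e] using hbM _ d.out.2
    · rw [← inv_mem_iff]; simpa [e] using hbM _ c.out.2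
    · intro e1
      refine hij (congrArg some ?_)
      rw [← c.out_eq, ← d.out_eq, QuotientGroup.eq]
      exact h.apart hg hM (h.AR c.out.2) (h.AR d.out.2) e1) (hY i) (hY j)) fun o => card_conj _ _
  have c3 : Nat.card (Option (A ⧸ K.subgroupOf A)) = K.relIndex A + 1 := Finite.card_option
  have c4 := card_sup_mul_card_inf (show U ≤ N[g •ᶜ U] from inf_le_left.trans (h.comm.trans
    ((centralizer_mono (h.gU_le hg)).trans (centralizer_le_normalizer _))))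
  have c5 := relIndex_mul_card (inf_le_left : U ⊓ g •ᶜ U ≤ U)
  have c6 := relIndex_mul_card (inf_le_left : U ≤ K)
  have c7 := card_le_of_le (sup_le inf_le_left (h.gU_le hg) : U ⊔ g •ᶜ U ≤ K)
  have c8 : (U ⊓ g •ᶜ U).relIndex U ≠ 1 := fun e1 => h.ne hg hM (eq_of_le_of_card_ge
    ((relIndex_eq_one.1 e1).trans inf_le_right) (card_conj _ _).le).symm
  have c9 := h.ff
  rw [card_conj] at c4
  rw [c3] at c1 c2
  have hy : 0 < Nat.card ↥(U ⊓ g •ᶜ U) := Nat.card_pos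
  have hu : (U ⊓ g •ᶜ U).relIndex U ≠ 0 := fun e1 => by
    rw [e1] at c5; exact (Nat.card_pos (α := ↥(U))).ne (by simpa using c5)
  generalize (U ⊓ g •ᶜ U).relIndex U = u at *
  generalize Nat.card ↥(U ⊓ g •ᶜ U) = y at *
  generalize (U).relIndex K = k at *
  generalize K.relIndex A = q at *
  obtain ⟨u, rfl⟩ : ∃ v, u = v + 2 := ⟨u - 2, by omega⟩
  rw [← c5] at c1 c2 c4 c6 ⊢
  have d1 : Nat.card ↥(U ⊔ g •ᶜ U) = (u + 2) * (u + 2) * y :=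
    Nat.eq_of_mul_eq_mul_right hy (by rw [c4]; ring)
  have d2 : (u + 2) * y - y = (u + 1) * y := by rw [add_mul, add_mul]; omega
  rw [d1, d2] at c1 c2
  have d3 : q ≤ u + 2 := by
    have : (1 + (q + 1) * (u + 1)) * y ≤ (u + 2) * (u + 2) * y := by linarith
    have := Nat.le_of_mul_le_mul_right this hy
    nlinarith
  have d4 : u + 2 ≤ k := by
    rw [d1, ← c6] at c7
    exact Nat.le_of_mul_le_mul_right (c7.trans' (le_of_eq (by ring))) (Nat.mul_pos (by omega) hy)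
  obtain rfl : q = u + 2 := by omega
  obtain rfl : k = u + 2 := by omega
  refine ⟨rfl, rfl, pw, fun w hw => ?_⟩
  have d5 : U ⊔ g •ᶜ U = K := eq_of_le_of_card_ge (sup_le inf_le_left (h.gU_le hg))
    (by rw [d1, ← c6, mul_assoc])
  obtain ⟨_ | c, hc⟩ := c2 (le_of_eq (by ring)) w (d5.ge hw)
  · exact Or.inl ((map_conj_one _).le hc)
  · exact Or.inr ⟨_, c.out.2, hc⟩

theorem max {g : G} (hg : g ∈ N[K]) (hM : g ∉ M) :
    ∀ g' ∈ N[K], g' ∉ M → Nat.card ↥(U ⊓ g' •ᶜ U) ≤ Nat.card ↥(U ⊓ g •ᶜ U) := by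
  have : Nonempty {g : G // g ∈ N[K] ∧ g ∉ M} := ⟨⟨g, hg, hM⟩⟩
  obtain ⟨⟨m, hm, hm'⟩, hmax⟩ := Finite.exists_max
    fun g : {g : G // g ∈ N[K] ∧ g ∉ M} => Nat.card ↥(U ⊓ g.1 •ᶜ U)
  intro g' h1 h2
  refine (hmax ⟨g', h1, h2⟩).trans ?_
  have c1 := (h.core hm hm' fun g' h1 h2 => hmax ⟨g', h1, h2⟩).2.1
  have c4 := card_sup_mul_card_inf (show U ≤ N[g •ᶜ U] from inf_le_left.trans (h.comm.trans
    ((centralizer_mono (h.gU_le hg)).trans (centralizer_le_normalizer _))))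
  have c6 := relIndex_mul_card (inf_le_left : U ≤ K)
  have c7 := card_le_of_le (sup_le inf_le_left (h.gU_le hg) : U ⊔ g •ᶜ U ≤ K)
  rw [card_conj] at c4
  have c8 : Nat.card K * Nat.card ↥(U ⊓ m •ᶜ U) ≤ Nat.card K * Nat.card ↥(U ⊓ g •ᶜ U) := by
    refine le_trans (le_of_eq ?_) (Nat.mul_le_mul_right _ c7)
    rw [c4, ← c6]; nth_rewrite 3 [c1]; ring
  exact Nat.le_of_mul_le_mul_left c8 Nat.card_pos

theorem cover {g : G} (hg : g ∈ N[K]) (hM : g ∉ M) {w : G} (hw : w ∈ K) : w ∈ U ∨ ∃ b ∈ A, w ∈ (b * g) •ᶜ U :=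
  (h.core hg hM (h.max hg hM)).2.2.2 w hw

theorem bM {g b : G} (hM : g ∉ M) (hb : b ∈ S ⊓ N[K]) : b * g ∉ M := fun e =>
  hM ((mul_mem_cancel_left (h.R_le_M hb)).1 e)

theorem inf_le {g b : G} (hg : g ∈ N[K]) (hM : g ∉ M) (hb : b ∈ A) : U ⊓ (b * g) •ᶜ U ≤ U ⊓ g •ᶜ U := by
  simpa only [map_conj_one] using (h.core hg hM (h.max hg hM)).2.2.1 1 (one_mem _) (b * g)
    (mul_mem (h.AR hb).2 hg) (by simpa using h.bM hM (h.AR hb)) (inf_le_left.trans (map_conj_one _).ge) (h.Y_le hb)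

theorem not_mem {g x b : G} (hg : g ∈ N[K]) (hM : g ∉ M) (hx : x ∈ K) (hU : x ∉ U) (hb : b ∈ A) (hK : b ∉ K) :
    b * x * b⁻¹ * x⁻¹ ∉ g •ᶜ U := by
  intro e
  obtain ⟨a, ha, h1⟩ := (h.cover hg hM hx).resolve_left hU
  have h2 : b * x * b⁻¹ ∈ (a * g) •ᶜ U := by simpa using mul_mem (h.Y_le ha ⟨h.cU hx hb, e⟩) h1
  have h3 : b * x * b⁻¹ ∈ (b * a * g) •ᶜ U := by rw [mul_assoc b a, ← conj_conj]; exact conj_mem_conj h1 b
  have h4 := (h.core hg hM (h.max hg hM)).2.2.1 _ (mul_mem (h.AR ha).2 hg) _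
    (mul_mem (h.AR (mul_mem hb ha)).2 hg) (fun e1 => hK (by
      simpa [mul_assoc] using cN (h.AR ha).2 (h.apart hg hM (h.AR ha) (h.AR (mul_mem hb ha)) e1)))
    (h.Y_le ha) (h.Y_le (mul_mem hb ha)) ⟨h2, h3⟩
  exact hU (mem_of_mem_of_eq (mul_mem (inv_mem (h.cU hx hb)) h4.1) (by
    rw [mul_inv_rev, inv_inv]; group))

theorem exists_g : ∃ g ∈ N[K], g ∉ M := SetLike.not_le_iff_exists.1 h.nc

theorem exists_x : ∃ x ∈ K, x ∉ U := by
  obtain ⟨b, hb, hK⟩ := SetLike.not_le_iff_exists.1 h.AK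
  obtain ⟨k, hk, hne⟩ := h.exists_nc (h.AR hb).1 hK
  exact ⟨k, hk, fun e => hne (cC e.2 hb).symm⟩

theorem o5 {g n : G} (hg : g ∈ N[K]) (hM : g ∉ M) (hn : n ∈ N[K]) : n ∈ M ∨ ∃ b ∈ A, n⁻¹ * (b * g) ∈ M := by
  obtain ⟨b, hb, hK⟩ := SetLike.not_le_iff_exists.1 h.AK
  obtain ⟨x, hx, hU⟩ := h.exists_x
  by_contra e
  push Not at e
  rcases h.cover hg hM (cN hn (h.cU hx hb).1) with h1 | ⟨a, ha, h1⟩
  · exact h.not_mem (inv_mem hn) (by simpa using e.1) hx hU hb hK (by rw [mem_map_conj]; simpa using h1)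
  · refine h.not_mem (mul_mem (inv_mem hn) (mul_mem (h.AR ha).2 hg)) (e.2 a ha) hx hU hb hK ?_
    rw [← conj_conj, mem_map_conj]; simpa using h1

theorem o1 : S ⊓ N[K] ≤ A ⊔ K := by
  intro t ht
  obtain ⟨g, hg, hM⟩ := h.exists_g
  obtain ⟨b, hb, e⟩ := (h.o5 hg hM (mul_mem ht.2 hg)).resolve_left (h.bM hM ht)
  simpa using mul_mem (mem_sup_left hb) (mem_sup_right (inv_mem (h.apart hg hM ht (h.AR hb) e)))

theorem RC_U : S ⊓ N[K] ⊔ C[K] ≤ C[U] :=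
  sup_le (h.o1.trans (sup_le (le_centralizer_iff.1 inf_le_right) (h.comm.trans (centralizer_mono inf_le_left))))
    (centralizer_mono inf_le_left)

theorem o6 {g : G} (hg : g ∈ N[K]) (hM : g ∉ M) : U ⊓ g •ᶜ U = Y := by
  refine le_antisymm (le_inf (inf_le_left.trans inf_le_left) (le_centralizer_iff.1 (h.o2_le fun n hn x hx => ?_)))
    fun y hy => ⟨⟨hy.1, mC fun a ha => cC hy.2 (by simpa using h.R_o2 (h.AR ha) (one_mem _))⟩, ?_⟩
  · rcases h.o5 hg hM hn with h1 | ⟨b, hb, h1⟩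
    · exact centralizer_mono inf_le_left (h.RC_U (cN h1 (mem_sup_left hx)))
    · refine centralizer_mono (h.Y_le hb) ?_
      rw [← conj_centralizer, mem_map_conj]
      exact h.RC_U (mem_of_mem_of_eq (cN' h1 (mem_sup_left hx)) (by group))
  · refine mem_map_conj.2 ?_
    refine ⟨cN' hg hy.1, mC fun a ha => ?_⟩
    have := cC hy.2 (h.R_o2 (h.AR ha) hg)
    calc a * (g⁻¹ * y * g) = g⁻¹ * (g * a * g⁻¹ * y) * g := by group
      _ = _ := by rw [this]; group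

theorem YU : Y ≤ U := by
  obtain ⟨g, hg, hM⟩ := h.exists_g
  rw [← h.o6 hg hM]; exact inf_le_left

theorem o2 : (U).relIndex K = K.relIndex A := by
  obtain ⟨g, hg, hM⟩ := h.exists_g
  exact (h.core hg hM (h.max hg hM)).1

theorem o2' : Nat.card ↥(U) = (U).relIndex K * Nat.card ↥(Y) := by
  obtain ⟨g, hg, hM⟩ := h.exists_g
  rw [← h.o6 hg hM]
  exact (h.core hg hM (h.max hg hM)).2.1

theorem o3 {x b : G} (hx : x ∈ K) (hU : x ∉ U) (hb : b ∈ S ⊓ N[K]) (hK : b ∉ K) : b * x * b⁻¹ * x⁻¹ ∉ Y := by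
  obtain ⟨g, hg, hM⟩ := h.exists_g
  obtain ⟨a, ha, k, hk, rfl⟩ := (mem_sup_of_le_normalizer_right (h.AR.trans inf_le_right)).1 (h.o1 hb)
  rw [← h.o6 hg hM]
  refine fun e => h.not_mem hg hM hx hU ha (fun e => hK (mul_mem e hk)) (mem_of_mem_of_eq e.2 ?_)
  rw [mul_assoc a, h.cm hk hx]; group

theorem sq_Y {x : G} (hx : x ∈ K) : x * x ∈ Y := by
  obtain ⟨g, hg, hM⟩ := h.exists_g
  have key : ∀ x ∈ U, x * x ∈ Y := fun x hx => by
    obtain ⟨z, h1, h2, h3, -⟩ := pg_exists_fixed_mod (p := 2) (H := g •ᶜ U) (K := U ⊓ g •ᶜ U) (A := ⊥)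
      (h.pK.to_le (h.gU_le hg)) IsPGroup.of_bot bot_le (lt_of_le_of_ne inf_le_right fun e => h.ne hg hM
        (eq_of_le_of_card_ge (e.ge.trans inf_le_left) (card_conj _ _).ge))
      ((h.gU_le hg).trans (h.comm.trans ((centralizer_mono (inf_le_left.trans inf_le_left)).trans
        (centralizer_le_normalizer _)))) bot_le
    obtain ⟨b, hb, h4⟩ := (h.cover hg hM (mul_mem hx.1 (h.gU_le hg h1))).resolve_left
      fun e => h2 ⟨(mul_mem_cancel_left hx).1 e, h1⟩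
    rw [← h.o6 hg hM]
    refine h.inf_le hg hM hb ⟨mul_mem hx hx, mem_of_mem_of_eq (mul_mem (mul_mem h4 h4) (inv_mem (h.Y_le hb h3))) ?_⟩
    rw [mul_assoc x z, ← mul_assoc z, ← h.cm hx.1 (h.gU_le hg h1), sq]; group
  rcases h.cover hg hM hx with h1 | ⟨b, hb, y, hy, rfl⟩
  · exact key x h1
  · exact mem_of_mem_of_eq (cN (h.N_Y (mul_mem (h.AR hb).2 hg)) (key y hy)) (by simp [mul_assoc])

theorem cm_sq {x b : G} (hx : x ∈ K) (hb : b ∈ S ⊓ N[K]) : b * x * b⁻¹ * x⁻¹ * (b * x * b⁻¹ * x⁻¹) = 1 := by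
  have h1 := cC (h.RC_U (mem_sup_left hb)) (h.YU (h.sq_Y hx))
  rw [mul_assoc (b * x * b⁻¹), ← mul_assoc x⁻¹, h.cm (inv_mem hx) (cN hb.2 hx)]
  calc _ = b * (x * x) * b⁻¹ * (x * x)⁻¹ := by group
    _ = 1 := by rw [← h1]; group

theorem o4 {x : G} (hx : x ∈ K) : ∃ y ∈ Y, x * x = y * y := by
  obtain ⟨g, hg, hM⟩ := h.exists_g
  have key : ∀ x ∈ U, ∃ y ∈ Y, x * x = y * y := fun x hx => by
    obtain ⟨z, h1, h2⟩ := SetLike.not_le_iff_exists.1 fun e : g •ᶜ U ≤ U => h.ne hg hM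
      (eq_of_le_of_card_ge e (card_conj _ _).ge)
    obtain ⟨b, hb, h4⟩ := (h.cover hg hM (mul_mem hx.1 (h.gU_le hg h1))).resolve_left
      fun e => h2 ((mul_mem_cancel_left hx).1 e)
    rw [← conj_conj] at h4
    obtain ⟨w, hw, e⟩ := h4
    replace e : b * w * b⁻¹ = x * z := e
    have h5 := h.cU (h.gU_le hg hw) hb
    have e2 : (b * w * b⁻¹ * w⁻¹)⁻¹ * x = w * z⁻¹ := by rw [e]; group
    have h6 := h.cm_sq (h.gU_le hg hw) (h.AR hb)
    refine ⟨(b * w * b⁻¹ * w⁻¹)⁻¹ * x, h.o6 hg hM ▸ mem_inf.2 ⟨mul_mem (inv_mem h5) hx,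
      e2 ▸ Subgroup.mul_mem _ hw (inv_mem h1)⟩, ?_⟩
    generalize b * w * b⁻¹ * w⁻¹ = c at h5 h6
    rw [inv_eq h6, mul_assoc, ← mul_assoc x c, h.cm hx.1 h5.1, mul_assoc, cl h6]
  rcases h.cover hg hM hx with h1 | ⟨b, hb, y, hy, rfl⟩
  · exact key x h1
  · obtain ⟨z, hz, e⟩ := key y hy
    refine ⟨_, cN (h.N_Y (mul_mem (h.AR hb).2 hg)) hz, ?_⟩
    calc _ = b * g * (y * y) * (b * g)⁻¹ := by simp [mul_assoc]
      _ = _ := by rw [e]; group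

end FH

end Cfsg.Lib.AbInt
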