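import Cfsg.Agent.Lib.AbInt.TwoC

/-!
# Simple groups with abelian Sylow 2-intersections
-/

set_option autoImplicit false
set_option linter.unusedSectionVars false

namespace Cfsg.Lib.AbInt
open Subgroup Cfsg Cfsg.Lib Cfsg.Lib.FT Cfsg.Lib.R1 Cfsg.Lib.Wal Cfsg.Lib.GW Cfsg.Lib.Suz
open scoped commutatorElement

universe u

theorem ih (n : ℕ) : IH.{u} n := by
  induction n with
  | zero => exact fun L _ _ _ h => absurd h (Nat.not_lt_zero _)
  | succ n ih =>
  intro G _ _ _ hn hG h B h1 h2 h3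
  by_contra e
  rw [not_or, not_exists] at e
  obtain ⟨A, ⟨a1, a2, a3⟩, hm⟩ := Set.Finite.exists_minimal
    (Set.toFinite {A : Subgroup G | SCl A ∧ IsElementaryAbelian 2 A ∧ A ≠ ⊥}) ⟨B, h1, h2, h3⟩
  refine Cx.false (A := A) ⟨inferInstance, hG, h, fun L _ _ _ hL => ih L (by omega), a1, a2, a3,
    fun D hD hn => or_iff_not_imp_left.2 fun D0 => le_antisymm hD (hm (show _ ∧ _ from ⟨?_,
      ⟨comm_of_sq fun d hd => esq a2 (hD hd), fun d hd => a2.2 d (hD hd)⟩, D0⟩) hD),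
    e.2, fun S hS hc => e.1 ?_⟩
  · obtain ⟨S, hS, hA⟩ := exists_isSylowIn_ge (elemAb_isPGroup a2) le_top
    refine SCl.of_sylow hS fun x hx g hg => ?_
    obtain ⟨k, hk, e⟩ := a1.fusion a2.1 (elemAb_isPGroup a2) le_top (mem_top g)
      (a1 S hS.isPGroup hA x hx g (hD hg)) (hD hg)
    exact (mem_normalizer_iff.1 (hn hk.2) x).2 (e ▸ hg)
  · obtain ⟨S, rfl⟩ := hS.exists_sylow_top
    exact Big.ab2_of_sylow S (isMulCommutative_iff_le_centralizer.2 hc)

theorem main {G : Type u} [Group G] [Finite G] [IsSimpleGroup G] (hG : ¬ IsMulCommutative G) (h : AI G)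
    {S : Subgroup G} (hS : Syl S) : (∃ m, 2 ≤ m ∧ Nonempty (S ≃* DihedralGroup m)) ∨ ⁅S, S⁆ ≤ C[S] := by
  rcases h.types (Big.index_ne_two_of_simple hG) hS (Big.normalizer_sylow_ne_top hG hS).1 with
    e | e | ⟨A, -, a1, a2, a3⟩
  exacts [.inl e, .inr e, .inr (commutator_le.2 fun x hx y hy => by
    by_cases hc : S ≤ C[S]
    · exact hc (mul_mem (cI hx hy) (inv_mem hy))
    obtain ⟨M, hM⟩ := (ih _ G (Nat.lt_succ_self _) hG h A a1 a2 a3).resolve_left fun e => hc (e.le_c hS.isPGroup)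
    obtain ⟨⟨t, r, h2⟩, -⟩ := ro_of_se hG hM hS
    have := r.cm_mem h2 (r.higman h2 (by
      by_contra e; push Not at e; exact hc fun x hx => mC fun y hy => e y hy x hx)).1 (inv_mem hx) (inv_mem hy)
    exact mC fun z hz => (r.Z_comm h2 (by simpa [cm, commutatorElement_def] using this) hz).symm)]

end Cfsg.Lib.AbInt
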