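import Cfsg.Agent.Lib.AbInt.Core
import Cfsg.Agent.Lib.CI2.Ext
import Cfsg.Agent.Lib.R1.Semi

/-!
# Components with non-abelian Sylow 2-subgroups
-/

set_option autoImplicit false
set_option linter.unusedSectionVars false

namespace Cfsg.Lib.AbInt
open Subgroup Cfsg Cfsg.Lib Cfsg.Lib.FT Cfsg.Lib.R1 Cfsg.Lib.Wal Cfsg.Lib.GW Cfsg.Lib.Suz
open scoped commutatorElement

universe u

theorem ro_of_se {L : Type*} [Group L] [Finite L] [IsSimpleGroup L] (hL : ¬ IsMulCommutative L) {M : Subgroup L}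
    (hM : IsStronglyEmbedded M) {S : Subgroup L} (hS : Syl S) :
    (∃ t, RO N[S] S t ∧ Rank2 S) ∧ ∀ v : L, orderOf v = 2 → UniqSyl v := by
  have h2 := not_pRankLE_of_simple hL (even_iff_two_dvd.2 (Big.two_dvd_card_of_simple hL))
  have hO := Big.oddCore_eq_bot_of_simple hL
  have hu : ∀ v : L, orderOf v = 2 → UniqSyl v := fun v hv => uniq_of_se hO h2 hM hv
  have hM' := Big.stronglyEmbedded_of_ti (fun P Q hP hQ hne => by
    by_contra e
    obtain ⟨v, hv, h1⟩ := exists_invol hP.isPGroup.to_inf_left e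
    exact hne (hu v h1 P Q hP hQ hv.1 hv.2)) hS (Big.normalizer_sylow_ne_top hL hS).1
    (Big.normalizer_sylow_ne_top hL hS).2
  obtain ⟨S', h1, h3, -⟩ := Big.bender_local hO h2 hM'
  have e : (S' : Subgroup L) = S := ((IsSylowIn.of_sylow_top S').maximal S hS.isPGroup le_top
    (hS.le_of_le_normalizer S'.isPGroup' le_top (h1 ▸ le_normalizer))).symm
  obtain ⟨t, ht⟩ := exists_RO_of_local hM' S' h1 h3
  exact ⟨⟨t, e ▸ ht, e ▸ rank2_of_not_pRankLE h2 S'⟩, hu⟩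

/-- the inductive hypothesis -/
def IH (n : ℕ) : Prop := ∀ (L : Type u) [Group L] [Finite L] [IsSimpleGroup L], Nat.card L < n →
  ¬ IsMulCommutative L → AI L → ∀ B : Subgroup L, SCl B → IsElementaryAbelian 2 B → B ≠ ⊥ →
    Ab2 L ∨ ∃ M : Subgroup L, IsStronglyEmbedded M

variable {Y : Type u} [Group Y] [Finite Y] {T B K X : Subgroup Y}

theorem ro_sub [IsSimpleGroup K] (hK : ¬ IsMulCommutative K) {M : Subgroup K} (hM : IsStronglyEmbedded M)
    (hT : IsSylowIn 2 T K) : (∀ z ∈ T, z * z = 1 → z ∈ C[T]) ∧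
      (∀ s ∈ T, ∀ u ∈ T, s * s = 1 → u * u = 1 → s ≠ 1 → u ≠ 1 → ∃ k ∈ K, k * s * k⁻¹ = u) ∧
      (∀ z ∈ T, z * z = 1 → z ≠ 1 → ∀ P, IsSylowIn 2 P K → z ∈ P → P = T) ∧ Rank2 T := by
  obtain ⟨⟨t, h1, h2⟩, h3⟩ := ro_of_se hK hM (sylow_sub hT)
  refine ⟨fun z hz e => mC fun x hx => congrArg Subtype.val (h1.invol_central h2 (z := ⟨z, hT.le hz⟩)
    (x := ⟨x, hT.le hx⟩) hz (Subtype.ext e) hx).symm, fun s hs u hu a b c d => ?_, fun z hz a b P hP e => ?_,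
    by simpa [rank2_subgroupOf_iff, inf_eq_left.2 hT.le] using h2⟩
  · obtain ⟨k, -, e⟩ := h1.exists_K_conj (s := ⟨s, hT.le hs⟩) (u := ⟨u, hT.le hu⟩) hs (Subtype.ext a)
      (fun e => c (congrArg Subtype.val e)) hu (Subtype.ext b) fun e => d (congrArg Subtype.val e)
    exact ⟨_, inv_mem k.2, by simpa using congrArg Subtype.val e⟩
  · have := h3 ⟨z, hT.le hz⟩ (ord_sub (ord2 b a) _) _ _ (sylow_sub hP) (sylow_sub hT) e hz
    rw [← map_subgroupOf_eq_of_le hP.le, this, map_subgroupOf_eq_of_le hT.le]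

/-- the group of automorphisms induced on `K` -/
structure Qk (K X : Subgroup Y) {Z : Type u} [Group Z] (f : X →* Z) : Prop where
  cmp : IsComponent K
  le : K ≤ X
  nrm : X ≤ N[K]
  surj : Function.Surjective f
  ker : kr f = X ⊓ C[K]

theorem exists_qk (hK : IsComponent K) (h1 : K ≤ X) (h2 : X ≤ N[K]) :
    ∃ (Z : Type u) (_ : Group Z) (_ : Finite Z) (f : X →* Z), Qk K X f := by
  obtain ⟨Z, _, _, f, a, b⟩ := exists_quot (X := X) inf_le_left
    (le_normalizer_inf le_normalizer (le_normalizer_centralizer h2))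
  exact ⟨Z, inferInstance, inferInstance, f, hK, h1, h2, a, b⟩

namespace Qk
variable {Z : Type u} [Group Z] [Finite Z] {f : X →* Z} (q : Qk K X f)
include q

theorem one {x : Y} (hx : x ∈ X) : bar f x = 1 ↔ x ∈ C[K] := by
  rw [bar_eq_one_iff hx, q.ker, mem_inf, and_iff_right hx]

theorem normal : (im f K).Normal := normal_of_top_le_normalizer (im_self q.surj ▸ im_le_normalizer q.le q.nrm)

theorem cen : C[im f K] = ⊥ := by
  rw [← im_pre q.surj C[im f K], im_eq_bot_iff (pre_le _), q.ker]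
  refine le_inf (pre_le _) (le_centralizer_of_commutator_eq_bot (commutator_eq_bot_of_perfect q.cmp.commutator_self
    (commutator_eq_bot_iff_le_centralizer.2 ?_)))
  exact ((im_le_c_iff (pre_le _) q.le).1 (im_pre q.surj _).le).trans (q.ker.le.trans inf_le_right)

theorem nab : ¬ IsMulCommutative (im f K) := fun h => q.cmp.2.not_le_centralizer fun _ hx =>
  (q.one (q.le hx)).1 (mem_bot.1 (q.cen ▸ le_C_of_comm h le_rfl (bar_mem_im hx (q.le hx))))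

theorem simple : IsSimpleGroup (im f K) := by
  have h0 : im f K ≠ ⊥ := fun e => q.nab (e ▸ inferInstance)
  refine (((isQuasisimple_subgroupOf_iff q.le).2 q.cmp.2).map_of_ne_bot f h0).isSimpleGroup_of_center_eq_bot ?_
  rw [center_eq_subgroupOf_centralizer]
  exact (congrArg (subgroupOf · (im f K)) q.cen).trans (bot_subgroupOf _)

theorem kS : kS Z = ⊥ := by
  have := q.normal
  have := q.simple
  rw [← le_bot_iff, ← q.cen]
  refine le_centralizer_of_commutator_eq_bot (commutator_eq_bot_of_inf_eq_bot le_normalizer_of_normal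
    le_normalizer_of_normal ((eq_or_of_simple q.simple inf_le_right le_normalizer_of_normal).resolve_right fun e => ?_))
  obtain ⟨S, hS⟩ := exists_isSylowIn 2 (⊤ : Subgroup Z)
  have h1 := hS.inf_of_le_normalizer (N := im f K) le_top le_normalizer_of_normal
  refine (eq_or_of_simple q.simple inf_le_right (le_normalizer_inf (fun x hx => (e.ge hx).1 S hS) le_normalizer)).elim
    (h1.ne_bot (Big.two_dvd_card_of_simple q.nab)) fun e' => Big.not_isSolvable_of_simple q.nab ?_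
  exact e' ▸ isSolvable_of_isPGroup h1.isPGroup

variable (c : Cr T B)
include c

theorem up {x : Y} (hx : x ∈ K) (h : bar f x ∈ im f (K ⊓ T)) : x ∈ T := by
  obtain ⟨w, hw, hX, e⟩ := mem_im.1 h
  have h1 := K.mul_mem (K.inv_mem hw.1) hx
  exact (mul_mem_cancel_left (T.inv_mem hw.2)).1 (c.zT q.cmp ⟨h1, (q.one (q.le h1)).1 (by
    rw [bar_mul (inv_mem hX) (q.le hx), bar_inv hX, e, inv_mul_cancel])⟩)

theorem syl : IsSylowIn 2 (im f (K ⊓ T)) (im f K) := im_sylow (c.sylK q.cmp) q.le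

theorem conj_mem {v k : Z} (hv : v ∈ im f (B ⊓ K)) (hk : k ∈ im f K) (h : k * v * k⁻¹ ∈ im f (K ⊓ T)) :
    k * v * k⁻¹ ∈ im f (B ⊓ K) := by
  obtain ⟨w, hw, h1, rfl⟩ := mem_im.1 hv
  obtain ⟨l, hl, h2, rfl⟩ := mem_im.1 hk
  rw [← bar_conj h2 h1] at h ⊢
  exact bar_mem_im ⟨scl_mem c.scl c.pT c.le hw.1 (q.up c (cI hl hw.2) h), cI hl hw.2⟩ (cI h2 h1)

theorem VQ : im f (B ⊓ K) ≤ im f (K ⊓ T) := im_mono (le_inf inf_le_right (inf_le_left.trans c.le))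

theorem mem_V (hB : ¬ B ⊓ K ≤ C[K]) (tr : ∀ s ∈ im f (K ⊓ T), ∀ u ∈ im f (K ⊓ T), s * s = 1 → u * u = 1 → s ≠ 1 →
    u ≠ 1 → ∃ k ∈ im f K, k * s * k⁻¹ = u) {u : Z} (hu : u ∈ im f (K ⊓ T)) (h2 : u * u = 1) : u ∈ im f (B ⊓ K) := by
  obtain ⟨v, hv, h1⟩ := SetLike.not_le_iff_exists.1 hB
  by_cases e : u = 1
  · exact e ▸ one_mem _
  have h3 := bar_mem_im (f := f) hv (q.le hv.2)
  obtain ⟨k, hk, rfl⟩ := tr _ (q.VQ c h3) u hu (esq (elem_im (elemAb_mono c.el inf_le_left)) h3) h2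
    (fun e => h1 ((q.one (q.le hv.2)).1 e)) e
  exact q.conj_mem c h3 hk hu

/-- if `K/Z(K)` has abelian Sylow 2-subgroups, they are covered by `B` -/
theorem ab (hB : ¬ B ⊓ K ≤ C[K]) (h : Ab2 (im f K)) : K ⊓ T ≤ B ⊓ K ⊔ K ⊓ C[K] := fun x hx => by
  have := q.simple
  obtain ⟨h1, -, k, hk, h2⟩ := (walter _ q.nab h).tor_sub (q.syl c)
  have h3 := bar_mem_im (f := f) hx (q.le hx.1)
  obtain ⟨v, hv, hX, e⟩ := mem_im.1 (q.mem_V c hB (fun s hs u hu _ _ a b =>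
    (h2 s hs u hu a b).imp fun l hl => ⟨zpowers_le.2 hk.1 hl.1, hl.2⟩) h3 (h1 _ h3))
  have h4 := K.mul_mem (K.inv_mem hv.2) hx.1
  refine mem_of_mem_of_eq (mul_mem (mem_sup_left hv) (mem_sup_right ⟨h4, (q.one (q.le h4)).1 ?_⟩)) (by group)
  rw [bar_mul (inv_mem hX) (q.le hx.1), bar_inv hX, e, inv_mul_cancel]

theorem not_ab (hB : ¬ B ⊓ K ≤ C[K]) (hna : ¬ K ⊓ T ≤ C[K ⊓ T]) : ¬ Ab2 (im f K) := fun h => by
  have h1 := q.ab c hB h
  have h2 : K ⊓ C[K] ≤ C[K ⊓ T] := inf_le_right.trans (centralizer_mono inf_le_left)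
  exact hna (h1.trans (sup_le (le_centralizer_symm (h1.trans (sup_le (le_C_of_comm
    (elemAb_mono c.el inf_le_left).1 le_rfl) (inf_le_right.trans (centralizer_mono inf_le_right))))) h2))

theorem ro {n : ℕ} (ih : IH.{u} n) (hn : Nat.card Y < n) (hB : ¬ B ⊓ K ≤ C[K]) (hna : ¬ K ⊓ T ≤ C[K ⊓ T])
    {T1 : Subgroup Y} (h1 : IsSylowIn 2 T1 X) (h2 : K ⊓ T ≤ T1) (h3 : T1 ≤ K ⊓ T ⊔ T1 ⊓ C[B]) :
    ∃ t, RO N[im f T1] (im f T1) t ∧ Rank2 (im f T1) ∧ dsub N[im f T1] t ⊓ C[im f T1] = ⊥ ∧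
      im f T1 = im f (K ⊓ T) ∧ zsub (im f T1) = im f (B ⊓ K) ∧ ∃ x ∈ im f T1, ∃ y ∈ im f T1, x * y ≠ y * x := by
  have := q.simple
  have := q.normal
  have ai := (c.ai.subgroup X).of_surjective q.surj
  have hQ := q.syl c
  have el := elem_im (f := f) (elemAb_mono c.el (inf_le_left (b := K)))
  have hV := (q.VQ c).trans hQ.le
  obtain ⟨M, hM⟩ := (ih (im f K) (((Nat.le_of_dvd Nat.card_pos (card_im_dvd K)).trans
    (card_le_card_group K)).trans_lt hn) q.nab (ai.subgroup _) ((im f (B ⊓ K)).subgroupOf _)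
    (.of_sylow (sylow_sub hQ) fun ⟨x, hx⟩ a ⟨g, hg⟩ b => by
      have := q.conj_mem c (v := g * x * g⁻¹) b (inv_mem hg) (by simpa [mul_assoc, mem_subgroupOf] using a)
      simpa [mul_assoc, mem_subgroupOf] using this)
    ⟨isMulCommutative_of_forall fun a ha b hb => Subtype.ext (comm_of_isMulCommutative el.1 ha hb),
      fun a ha => Subtype.ext (el.2 _ ha)⟩ fun e => hB fun x hx => (q.one (q.le hx.2)).1 (by
        have := bar_mem_im (f := f) hx (q.le hx.2)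
        exact congrArg Subtype.val (mem_bot.1 (e.le (show (⟨_, hV this⟩ : im f K) ∈ _ from this))))).resolve_left
    (q.not_ab c hB hna)
  obtain ⟨a1, a2, a3, a4⟩ := ro_sub q.nab hM hQ
  have hS := im_syl q.surj h1
  have b1 : im f (K ⊓ T) ≤ im f T1 := im_mono h2
  have b2 : im f T1 ⊓ im f K = im f (K ⊓ T) :=
    hQ.maximal _ hS.isPGroup.to_inf_left inf_le_right (le_inf b1 hQ.le)
  obtain ⟨x, hx, y, hy, b3⟩ : ∃ x ∈ im f (K ⊓ T), ∃ y ∈ im f (K ⊓ T), x * y ≠ y * x := by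
    by_contra! e
    obtain ⟨P, hP⟩ := hQ.exists_sylow'
    exact q.not_ab c hB hna (Big.ab2_of_sylow P (hP ▸ isMulCommutative_of_forall fun a ha b hb =>
      Subtype.ext (e _ ha _ hb)))
  obtain ⟨D, z, hD⟩ := ZH.of_subgroup (Z := im f (B ⊓ K)) hS (le_inf ((q.VQ c).trans b1) (le_centralizer_symm
    ((im_mono h3).trans ((im_sup (inf_le_left.trans q.le) (inf_le_left.trans h1.le)).le.trans (sup_le
      (le_centralizer_symm fun z hz => a1 z (q.VQ c hz) (esq el hz))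
      (im_le_centralizer (inf_le_right.trans (centralizer_mono inf_le_left)))))))) (fun z hz => esq el hz)
    (fun g hg => mN fun z hz => q.mem_V c hB a2 (b2 ▸ cN (le_normalizer_inf le_rfl le_normalizer_of_normal hg)
      (b2.ge (q.VQ c hz))) (sq_conj (esq el hz) g))
    (fun z hz z1 => by
      have k : ∀ P, Syl P → z ∈ P → P = im f T1 := fun P hP e => by
        have := (a3 z (q.VQ c hz) (esq el hz) z1 _ (hP.inf_of_le_normalizer le_top le_normalizer_of_normal)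
          ⟨e, hV hz⟩).ge.trans inf_le_left
        exact ai _ _ hP hS x (this hx) y (this hy) (b1 hx) (b1 hy) b3
      exact fun P Q hP hQ a b => (k P hP a).trans (k Q hQ b).symm)
    (by
      obtain ⟨a, ha, b, hb, e1, e2, e3, e4, e5⟩ := a4
      exact ⟨a, q.mem_V c hB a2 ha e1, b, q.mem_V c hB a2 hb e2, e3, e4, e5⟩)
  obtain ⟨S', hS', ne⟩ := exists_ne_syl hS fun e => b3 (by
    rw [mem_bot.1 (q.kS.le fun P hP => le_normalizer (hP.le_of_normalizes hS.isPGroup le_top (e ▸ le_top) (b1 hx)))]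
    simp)
  obtain ⟨t, r1, r2⟩ := z.exists_RO (zd2 z) q.kS hS hS' ne
  have fa := r1.faithful_of_oddCore (z.oddCore_eq q.kS)
  have b4 := (inf_eq_left.2 (r1.le_of_normal r2 fa (im f K) fun e => q.nab (e ▸ inferInstance)).1).symm.trans b2
  refine ⟨t, r1, r2, fa, b4, Subgroup.ext fun u => (r1.mem_Z r2).trans ⟨fun e => q.mem_V c hB a2 (b4 ▸ e.1) e.2,
    fun e => ⟨b1 (q.VQ c e), esq el e⟩⟩, x, b1 hx, y, b1 hy, b3⟩

end Qk

theorem ro_ab {Z : Type*} [Group Z] [Finite Z] {H Q W : Subgroup Z} {t : Z} (h : RO H Q t) (h2 : Rank2 Q)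
    (hsq : ∀ x ∈ Q, x * x ∈ zsub Q) (hc : Nat.card Q = Nat.card (zsub Q) ^ 2) (h1 : W ≤ Q) (h3 : zsub Q ≤ W)
    (h4 : H ≤ N[W]) : W = Q ∨ W ≤ zsub Q := by
  refine or_iff_not_imp_right.2 fun e => eq_of_le_of_card_ge h1 ?_
  obtain ⟨n, F, _, _, a, κ, hs⟩ := (h.hig h2 h1 h3 ((h.K_le h2).trans (h.D_le.trans h4))
    ((h.isPGroup_two h2).to_le h1)).exists_HS
  have e1 : zsub W = zsub Q := le_antisymm (closure_mono fun x hx => ⟨h1 hx.1, hx.2⟩)
    fun x hx => subset_closure ⟨h3 hx, ((h.mem_Z h2).1 hx).2⟩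
  rw [e1] at hs
  rw [hc, hs.card_Z]
  rcases hs.card_of_sq (fun x hx => hsq x (h1 hx)) (SetLike.not_le_iff_exists.1 e) with e | ⟨e, -⟩
  · exact e.ge
  · rw [e]; exact Nat.pow_le_pow_right (Nat.two_pow_pos n) (by norm_num)

theorem card_im_mul {Z : Type*} [Group Z] [Finite Z] {f : X →* Z} {A : Subgroup Y} (h1 : kr f ≤ A) (h2 : A ≤ X) :
    Nat.card (im f A) * Nat.card (kr f) = Nat.card A := by
  rw [← card_subgroupOf_of_le h2, ← pg_card_map_mul_card_ker f, card_kr, inf_eq_right.2]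
  · rfl
  · rw [← kr_subgroupOf]; exact comap_mono h1

theorem NB (h : SCl B) (hT : IsPGroup 2 T) (h1 : B ≤ T) : N[T] ≤ N[B] :=
  fun _ hx => h.conj_eq hT h1 (map_conj_le_of_mem_normalizer h1 hx)

/-- the case of a centralizer `H` of `B` which is abelian -/
def N2 {G : Type*} [Group G] (H T : Subgroup G) : Prop :=
  ∃ U, H ≤ U ∧ U ≤ T ∧ (∀ x ∈ H, ∀ a ∈ U, a * x * a⁻¹ * x⁻¹ ∈ C[U]) ∧
    Nat.card H * Nat.card H ≤ Nat.card U * Nat.card ↥(H ⊓ C[U]) ∧ ∃ b ∈ U, b ∉ H ∧ b * b ∈ H ∧ b * b ∉ C[U]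

namespace Cr
variable (c : Cr T B) (hK : IsComponent K) (hB : ¬ B ⊓ K ≤ C[K])
include c hK hB

section
variable (h : K ⊓ T ≤ C[K ⊓ T])
include h

theorem ab2 : Ab2 K := by
  obtain ⟨P, hP⟩ := (c.sylK hK).exists_sylow'
  exact Big.ab2_of_sylow P (hP ▸ isMulCommutative_of_forall fun a ha b hb => Subtype.ext (cC (h hb) ha))

theorem inf_c : K ⊓ C[K] = ⊥ := (eq_bot_iff_forall _).2 fun z hz => congrArg Subtype.val
  ((c.ab2 hK hB h).eq_one_of_central (z := ⟨z, hz.1⟩) (mem_center_iff.2 fun x => Subtype.ext (cC hz.2 x.2))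
    (isPGroup_zpowers (c.pT.comap_subtype (K := K)) (c.zT hK hz)) (by
      rw [pResidual_eq_top_of_commutator_eq_top hK.2.commutator_top]; trivial))

theorem simple : IsSimpleGroup K := hK.2.isSimpleGroup_of_center_eq_bot (by
  rw [← map_eq_bot_iff_of_injective _ K.subtype_injective, map_subtype_center, c.inf_c hK hB h])

theorem wl : WL K :=
  have := c.simple hK hB h
  walter K hK.2.not_isMulCommutative (c.ab2 hK hB h)

theorem ab_le : K ⊓ T ≤ B := fun w hw => by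
  obtain ⟨-, -, k, hk, h1⟩ := (c.wl hK hB h).tor_sub (c.sylK hK)
  obtain ⟨v, hv, h2⟩ := SetLike.not_le_iff_exists.1 hB
  by_cases e : w = 1
  · exact e ▸ one_mem _
  obtain ⟨l, -, rfl⟩ := h1 v ⟨hv.2, c.le hv.1⟩ w hw (fun e => h2 (e ▸ one_mem _)) e
  exact scl_mem c.scl c.pT c.le hv.1 hw.2

theorem dec {s : Y} (hs : s ∈ T) (h1 : s ∈ C[K ⊓ T]) : ∃ v ∈ K ⊓ T, v⁻¹ * s ∈ C[K] := by
  have := c.simple hK hB h
  obtain ⟨P, hP⟩ := (c.sylK hK).exists_sylow'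
  obtain ⟨k, hk⟩ := c.pT ⟨s, hs⟩
  have hk' : s ^ 2 ^ k = 1 := congrArg Subtype.val hk
  obtain ⟨v, hv, h2⟩ := SetLike.not_le_iff_exists.1 (c.not_le hK)
  have hn : s ∈ N[K] := mem_N hK h2 (by rw [← cC h1 hv, mul_inv_cancel_right]; exact hv.1)
  obtain ⟨⟨g, hgK⟩, hg⟩ := pg_inner_of_fixes_abelian_sylow hK.2.not_isMulCommutative
    (Big.two_dvd_card_of_simple hK.2.not_isMulCommutative) P (c.ab2 hK hB h _ P.isPGroup')
    (K.normalizerMonoidHom ⟨s, hn⟩) (k := k) (by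
      rw [← map_pow, show (⟨s, hn⟩ : N[K]) ^ 2 ^ k = 1 from Subtype.ext hk', map_one])
    fun x hx => Subtype.ext (by
      rw [hP] at hx
      change s * x * s⁻¹ = x
      exact mul_inv_eq_iff_eq_mul.2 (cC h1 hx).symm)
  have hg' : ∀ x ∈ K, s * x * s⁻¹ = g * x * g⁻¹ := fun x hx => congrArg Subtype.val (hg ⟨x, hx⟩)
  have hc : g⁻¹ * s ∈ C[K] := mC fun x hx => by
    calc x * (g⁻¹ * s) = g⁻¹ * (g * x * g⁻¹) * s := by group
      _ = _ := by rw [← hg' x hx]; group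
  have h3 : g ∈ C[K ⊓ T] := (mul_mem_cancel_right (inv_mem h1)).1 (by
    simpa using inv_mem (mul_mem (centralizer_mono inf_le_left hc) (inv_mem h1)) |> fun e => mul_mem e (inv_mem h1))
  have h4 : g ^ 2 ^ k = 1 := by
    have := (show Commute g (g⁻¹ * s) from cC hc hgK).mul_pow (2 ^ k)
    rw [mul_inv_cancel_left, hk'] at this
    exact mem_bot.1 (c.inf_c hK hB h ▸ mem_inf.2 ⟨pow_mem hgK _, by
      rw [eq_inv_of_mul_eq_one_left this.symm]; exact inv_mem (pow_mem hc _)⟩)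
  exact ⟨g, (c.sylK hK).le_of_le_normalizer (isPGroup_zpowers_of_pow h4) (zpowers_le.2 hgK)
    (zpowers_le.2 (centralizer_le_normalizer _ h3)) (mem_zpowers _), hc⟩

end

variable {n : ℕ} (ih : IH.{u} n) (hn : Nat.card Y < n) (hna : ¬ K ⊓ T ≤ C[K ⊓ T])
include ih hn hna

theorem ext {U : Subgroup Y} (hX : X = K ⊔ T ⊓ C[B]) (hU : U = K ⊓ T ⊔ T ⊓ C[B]) :
    ∃ (Z : Type u) (_ : Group Z) (_ : Finite Z) (f : X →* Z) (t : Z), Qk K X f ∧
      CI2.Ext f (U.subgroupOf X) N[im f U] (im f U) t ∧ U ≤ X ∧ kr f ≤ U ⊓ C[U] ∧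
      zsub (im f U) = im f (B ⊓ K) ∧ (∃ x ∈ im f U, ∃ y ∈ im f U, x * y ≠ y * x) ∧
      ∀ k ∈ N[im f U], ∃ g ∈ X, g ∈ N[T] ∧ bar f g = k := by
  obtain ⟨v, hv, h1⟩ := SetLike.not_le_iff_exists.1 hB
  have h2 : T ⊓ C[B] ≤ N[K] := fun y hy => mem_N hK h1 (by rw [← cC hy.2 hv.1, mul_inv_cancel_right]; exact hv.2)
  have h3 : IsSylowIn 2 U X := hX ▸ hU ▸ (c.sylK hK).sup_of_le_normalizer c.pT.to_inf_left
    (le_normalizer_inf h2 (inf_le_left.trans le_normalizer)) h2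
  obtain ⟨Z, _, _, f, q⟩ := exists_qk (X := X) hK (hX.ge.trans' le_sup_left) (hX.le.trans (sup_le le_normalizer h2))
  have h4 : K ⊓ T ≤ U := hU.ge.trans' le_sup_left
  have hT : U ≤ T := hU.le.trans (sup_le inf_le_right inf_le_left)
  obtain ⟨t, r1, r2, r3, r4, r5, r6⟩ := q.ro c ih hn hB hna h3 h4
    (hU.le.trans (sup_le_sup_left (le_inf (hU.ge.trans' le_sup_right) inf_le_right) _))
  have h5 : U ≤ K ⊓ T ⊔ U ⊓ C[K] := fun x hx => by
    obtain ⟨w, hw, a, e⟩ := mem_im.1 (r4.le (bar_mem_im hx (h3.le hx)))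
    have b := mul_mem (inv_mem (h4 hw)) hx
    refine mem_of_mem_of_eq (mul_mem (mem_sup_left hw) (mem_sup_right ⟨b, (q.one (h3.le b)).1 ?_⟩)) (by group)
    rw [bar_mul (inv_mem a) (h3.le hx), bar_inv a, e, inv_mul_cancel]
  have h6 : X ≤ K ⊔ U ⊓ C[K] := hX.le.trans (sup_le le_sup_left ((hU.ge.trans' le_sup_right).trans
    (h5.trans (sup_le_sup_right inf_le_left _))))
  have h7 : kr f ≤ U ⊓ C[X] := fun x hx => by
    rw [q.ker] at hx
    obtain ⟨k, hk, r, hr, rfl⟩ := (mem_sup_of_le_normalizer (inf_le_right.trans (centralizer_le_normalizer _))).1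
      (h6 hx.1)
    have a := mul_mem (h4 ⟨hk, c.zT hK ⟨hk, (mul_mem_cancel_right (mem_inf.1 hr).2).1 hx.2⟩⟩) hr.1
    exact ⟨a, centralizer_mono h6 (by
      rw [centralizer_sup]; exact ⟨hx.2, mC fun y hy => c.cm hK ⟨hT hy.1, hy.2⟩ ⟨hT a, hx.2⟩⟩)⟩
  refine ⟨Z, inferInstance, inferInstance, f, t, q, ⟨r1, r2, r3, q.surj, fun x hx => mem_center_iff.2 fun y =>
    Subtype.ext (cC (h7 ⟨x, hx, rfl⟩).2 y.2), sylow_sub h3, rfl⟩, h3.le,
    h7.trans (inf_le_inf_left _ (centralizer_mono h3.le)), r5, r6, fun k hk => ?_⟩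
  obtain ⟨g, hg, rfl⟩ := exists_bar q.surj k
  have := pre_norm hg hk
  rw [pre_im h3.le, sup_eq_left.2 (h7.trans inf_le_left)] at this
  exact ⟨g, hg, c.ai.N_le c.syl hT (fun e => hna (h4.trans (e.trans (centralizer_mono h4)))) this, rfl⟩

theorem n1 (hT : T ≤ C[B]) : (∃ x ∈ B ⊓ ⁅T, T⁆, x ≠ 1) ∧ ∀ z ∈ ⁅T, T⁆, z ∈ C[K] → z = 1 := by
  obtain ⟨Z, _, _, f, t, q, e, h1, h2, h3, h4, h5⟩ := c.ext hK hB ih hn hna rfl
    (U := T) (by rw [inf_eq_left.2 hT, sup_eq_right.2 inf_le_right])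
  have h6 := commutator_le_self T
  have hV : B ⊓ K ≤ T := inf_le_left.trans c.le
  constructor
  · obtain ⟨s, hs, s2⟩ := exists_invol ((isPGroup_im (f := f) c.pT).to_le (commutator_le_self _))
      (fun e => by obtain ⟨x, hx, y, hy, a⟩ := h4; exact a (commutator_eq_bot_iff_forall.1 e x hx y hy))
    have hs' := commutator_le_self _ hs
    obtain ⟨u, hu, u2, u1, ne⟩ : ∃ u ∈ im f T, u * u = 1 ∧ u ≠ 1 ∧ u ≠ s := by
      obtain ⟨a, ha, b, hb, a1, a2, a3, a4, a5⟩ := e.rk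
      by_cases e : a = s
      exacts [⟨b, hb, a2, a4, fun e' => a5 (e.trans e'.symm)⟩, ⟨a, ha, a1, a3, e⟩]
    obtain ⟨k, hk, rfl⟩ := e.ro.exists_K_conj hs' (sq2 s2) (ne1 s2) hu u2 u1
    obtain ⟨g, gX, hg, rfl⟩ := h5 k (e.ro.D_le hk.1)
    obtain ⟨v, hv, vX, rfl⟩ := mem_im.1 (h3 ▸ (e.ro.mem_Z e.rk).2 ⟨hs', sq2 s2⟩)
    rw [← im_commutator h1 h1] at hs
    obtain ⟨w, hw, wX, e1⟩ := mem_im.1 hs
    have a := (bar_eq_iff wX vX).1 e1
    rw [q.ker] at a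
    have a1 := mem_center_iff.1 (e.cen (show (⟨_, a.1⟩ : ↥(K ⊔ T ⊓ C[B])) ∈ f.ker from
      (bar_of_mem a.1).symm.trans ((q.one a.1).2 a.2))) ⟨g, gX⟩
    have a2 : g * (w * v⁻¹) = w * v⁻¹ * g := congrArg Subtype.val a1
    refine ⟨v⁻¹ * (g⁻¹ * v * g), ⟨B.mul_mem (B.inv_mem hv.1) (cN' (NB c.scl c.pT c.le hg) hv.1),
      mem_of_mem_of_eq (mul_mem (inv_mem hw) (cN' (le_normalizer_commutator le_rfl le_rfl hg) hw)) ?_⟩, fun e => ne ?_⟩
    · calc _ = w⁻¹ * g⁻¹ * (w * v⁻¹ * g) * (g⁻¹ * v * g) := by group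
        _ = _ := by rw [← a2]; group
    · rw [← bar_inv gX, ← bar_mul (inv_mem gX) vX, ← bar_mul (mul_mem (inv_mem gX) vX) gX, ← inv_mul_eq_one.1 e]
  · intro z hz hc
    have := e.commutator_inf_ker h4 fun w hw => by
      rw [centralizer_subgroupOf h1, mem_subgroupOf]
      have a : bar f w ∈ im f (B ⊓ K) := by rw [bar_coe, ← h3]; exact hw.2
      exact sup_le (inf_le_left.trans (le_centralizer_symm hT)) (h2.trans inf_le_right)
        ((bar_mem_im_iff w.2 (hV.trans h1)).1 a)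
    rw [commutator_subgroupOf h1 h1] at this
    exact congrArg Subtype.val (mem_bot.1 (this.le (show (⟨z, h1 (h6 hz)⟩ : ↥(K ⊔ T ⊓ C[B])) ∈ _ from
      ⟨hz, (bar_of_mem _).symm.trans ((q.one (h1 (h6 hz))).2 hc)⟩)))

theorem odd_bot (hT : T ≤ C[B]) {W : Subgroup Y} (ho : Odd (Nat.card W)) (hW : T ≤ N[W]) : W = ⊥ := by
  have h1 : ∀ L, IsComponent L → K = L := fun L hL => (hK.eq_or_commutator_eq_bot hL).resolve_right fun e =>
    c.not_N hL ((le_centralizer_of_commutator_eq_bot' e).trans ((centralizer_mono inf_le_left).trans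
      ((centralizer_le_normalizer _).trans (c.ai.N_le c.syl inf_le_right hna))))
  obtain ⟨Z, _, _, f, q⟩ := exists_qk (X := ⊤) hK le_top fun g _ =>
    conj_eq_iff_mem_normalizer.1 (h1 _ (hK.map_conj g)).symm
  obtain ⟨t, r1, r2, r3, -⟩ := q.ro c ih hn hB hna c.syl inf_le_right (le_sup_of_le_right (le_inf le_rfl hT))
  have h2 : im f T ≤ N[im f W] := im_le_normalizer le_top hW
  have h3 : im f W ≤ N[im f T] := le_of_c1 (fun d hd => ((r1.mem_Z r2).1 hd).2) (r1.four_le_card_Z r2) (odd_im ho)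
    ((r1.Z_le r2).trans h2) fun d hd d1 x hx => r1.mem_H_of_comm (r1.Z_le r2 hd) d1 (mem_C1.1 hx.2)
  have h4 := le_c_of_commutator_le (comm_le_right le_rfl h3) (comm_le_left le_rfl h2)
    (inf_eq_bot_of_odd (isPGroup_im c.pT) (odd_im ho))
  have h5 : W ≤ C[K] := fun y hy => (q.one (mem_top y)).1 (by
    have a := bar_mem_im (f := f) hy (mem_top y)
    generalize bar f y = w at a
    obtain ⟨x, hx, d, hd, rfl⟩ := r1.dec' (h3 a)
    have a1 : Commute (x * d) d⁻¹ := Commute.inv_right (by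
      have := cC (h4 a) hx
      rw [mul_assoc, mul_right_inj] at this
      rw [commute_iff_eq, mul_assoc, ← mul_assoc d, ← this, mul_assoc])
    have a2 : x = 1 := mem_bot.1 (inf_eq_bot_of_odd (isPGroup_im (f := f) c.pT) (X := zpowers x) (by
      rw [Nat.card_zpowers]
      refine ((odd_orderOf (odd_im ho) a).mul (r1.odd_orderOf_D (inv_mem hd))).of_dvd_nat ?_
      simpa using a1.orderOf_mul_dvd_mul_orderOf) ▸ mem_inf.2 ⟨hx, mem_zpowers x⟩)
    subst a2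
    exact mem_bot.1 (r3 ▸ mem_inf.2 ⟨by simpa using hd, h4 a⟩))
  rw [← inf_eq_bot_of_odd c.pT ho, eq_comm, inf_eq_right]
  refine le_trans (le_trans ?_ centralizer_fstar_le_fitting) c.fit
  rw [generalizedFittingSubgroup, centralizer_sup]
  exact le_inf (le_centralizer_symm (sSup_le fun L hL => h1 L hL ▸ le_centralizer_symm h5))
    (le_c_of_commutator_le (comm_le_right le_rfl le_normalizer_of_normal) (comm_le_left le_rfl (c.fit.trans hW))
      (inf_eq_bot_of_odd (c.pT.to_le c.fit) ho))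

theorem n2 (hH : T ⊓ C[B] ≤ C[T ⊓ C[B]]) : N2 (T ⊓ C[B]) T := by
  obtain ⟨U, hU⟩ : ∃ U, U = K ⊓ T ⊔ T ⊓ C[B] := ⟨_, rfl⟩
  obtain ⟨Z, _, _, f, t, q, e, h1, h2, h3, h4, h5⟩ := c.ext hK hB ih hn hna rfl hU
  obtain ⟨H, eH⟩ : ∃ H, H = T ⊓ C[B] := ⟨_, rfl⟩
  have hT : U ≤ T := hU.le.trans (sup_le inf_le_right inf_le_left)
  have a1 : H ≤ U := eH.le.trans (hU.ge.trans' le_sup_right)
  have a2 : B ≤ H := (le_inf c.le (le_C_of_comm c.el.1 le_rfl)).trans eH.ge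
  have a3 : kr f ≤ H := (h2.trans (inf_le_inf hT (centralizer_mono (a2.trans a1)))).trans eH.ge
  have a4 : ¬ U ≤ H := fun e => hna ((hU.ge.trans' le_sup_left).trans ((e.trans eH.le).trans
    (hH.trans (centralizer_mono ((hU.ge.trans' le_sup_left).trans (e.trans eH.le))))))
  obtain ⟨w, hw, w1, w2⟩ : ∃ w ∈ U, bar f w ∈ zsub (im f U) ∧ w ∉ C[U] := by
    by_contra! e'
    refine a4 ((le_inf hT (le_centralizer_symm fun b hb => e' b (a1 (a2 hb)) ?_)).trans eH.ge)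
    have := h1 (a1 (a2 hb))
    exact (e.ro.mem_Z e.rk).2 ⟨bar_mem_im (a1 (a2 hb)) this, by rw [← bar_mul this this, esq c.el hb, bar_one]⟩
  obtain ⟨hsq, hc⟩ := e.ro.higman e.rk h4
  replace hc := hc.resolve_right fun a => w2 (by
    have := e.W_central_cube h4 a.1 (show (⟨w, h1 hw⟩ : ↥(K ⊔ T ⊓ C[B])) ∈ _ from
      ⟨hw, by rw [bar_of_mem (h1 hw)] at w1; exact w1⟩)
    rwa [centralizer_subgroupOf h1] at this)
  have a5 : zsub (im f U) ≤ im f H := h3.le.trans (im_mono (inf_le_left.trans a2))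
  have a6 : im f H = zsub (im f U) := le_antisymm ((ro_ab e.ro e.rk hsq hc (im_mono a1) a5 fun k hk => by
    obtain ⟨g, gX, hg, rfl⟩ := h5 k hk
    refine im_le_normalizer (a1.trans h1) (A := N[H]) le_rfl (bar_mem_im ?_ gX)
    exact eH ▸ le_normalizer_inf le_rfl (le_normalizer_centralizer (NB c.scl c.pT c.le)) hg).resolve_left fun e' =>
      a4 (((im_le_iff h1 (a1.trans h1)).1 e'.ge).trans (sup_le le_rfl a3))) a5
  have a7 : ∀ x ∈ U, x ∈ H ↔ bar f x ∈ zsub (im f U) := fun x hx => by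
    rw [← a6, bar_mem_im_iff (h1 hx) (a1.trans h1), sup_eq_left.2 a3]
  refine eH ▸ ⟨U, a1, hT, fun x hx a ha => (h2 ((bar_eq_one_iff (h1 (mul_mem (cI ha (a1 hx)) (inv_mem (a1 hx))))).1
    ?_)).2, ?_, ?_⟩
  · rw [bar_mul (h1 (cI ha (a1 hx))) (h1 (inv_mem (a1 hx))), bar_conj (h1 ha) (h1 (a1 hx)), bar_inv (h1 (a1 hx)),
      ← e.ro.Z_comm e.rk ((a7 x (a1 hx)).1 hx) (bar_mem_im ha (h1 ha))]; group
  · rw [← card_im_mul a3 (a1.trans h1), ← card_im_mul (a3.trans a1) h1, a6, hc]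
    have := card_le_of_le (le_inf a3 (h2.trans inf_le_right))
    calc _ = Nat.card (zsub (im f U)) ^ 2 * Nat.card (kr f) * Nat.card (kr f) := by ring
      _ ≤ _ := Nat.mul_le_mul_left _ this
  · obtain ⟨x, hx, x1⟩ : ∃ x ∈ im f U, x * x ≠ 1 := by
      by_contra! e'
      obtain ⟨x, hx, y, hy, a⟩ := h4
      exact a (comm_of_isMulCommutative (comm_of_sq e') hx hy)
    have w3 : bar f w ≠ 1 := fun e' => w2 (h2 ((bar_eq_one_iff (h1 hw)).1 e')).2
    obtain ⟨k, hk, e1⟩ := e.ro.exists_K_conj (mul_mem hx hx) ((e.ro.mem_Z e.rk).1 (hsq x hx)).2 x1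
      (bar_mem_im hw (h1 hw)) ((e.ro.mem_Z e.rk).1 w1).2 w3
    obtain ⟨b, hb, bX, e2⟩ := mem_im.1 (e.ro.normQ' (e.ro.D_le hk.1) hx)
    have e3 : bar f (b * b) = bar f w := by rw [bar_mul bX bX, e2, ← e1]; group
    refine ⟨b, hb, fun a => w3 ?_, (a7 _ (mul_mem hb hb)).2 (e3 ▸ w1), fun a => w2 ?_⟩
    · rw [← e3, bar_mul bX bX, ((e.ro.mem_Z e.rk).1 ((a7 b hb).1 a)).2]
    · exact mem_of_mem_of_eq (mul_mem (mem_inf.1 (h2 ((bar_eq_iff (h1 hw) (mul_mem bX bX)).1 e3.symm))).2 a) (by group)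

end Cr

end Cfsg.Lib.AbInt
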