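import Cfsg.Agent.Lib.AbInt.FF
import Cfsg.Agent.Lib.Walter.Cmp

/-!
# Non-normal essential subgroups: the normalizer
-/

set_option autoImplicit false
set_option linter.unusedSectionVars false

namespace Cfsg.Lib.AbInt
open Subgroup Cfsg Cfsg.Lib Cfsg.Lib.FT Cfsg.Lib.R1 Cfsg.Lib.Wal Cfsg.Lib.GW
open scoped commutatorElement

variable {G : Type*} [Group G] [Finite G]

theorem im_conj {X : Subgroup G} {Y : Type*} [Group Y] {f : X →* Y} {A : Subgroup G} (hA : A ≤ X) {g : G}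
    (hg : g ∈ X) : im f (g •ᶜ A) = bar f g •ᶜ im f A := by
  ext y
  rw [mem_im_of_le (conj_le_of_mem hA hg)]
  constructor
  · rintro ⟨_, ⟨a, ha, rfl⟩, rfl⟩
    exact mem_of_mem_of_eq (conj_mem_conj (bar_mem_im ha (hA ha)) _) (bar_conj hg (hA ha)).symm
  · rintro ⟨_, hy, rfl⟩
    obtain ⟨a, ha, rfl⟩ := (mem_im_of_le hA).1 hy
    exact ⟨_, conj_mem_conj ha g, bar_conj hg (hA ha)⟩

theorem exists_bar {X : Subgroup G} {Y : Type*} [Group Y] {f : X →* Y} (hf : Function.Surjective f) (y : Y) :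
    ∃ a ∈ X, bar f a = y := by
  obtain ⟨a, rfl⟩ := hf y
  exact ⟨a, a.2, bar_coe a⟩

theorem im_syl {X : Subgroup G} {Y : Type*} [Group Y] [Finite Y] {f : X →* Y} (hf : Function.Surjective f)
    {T : Subgroup G} (h : IsSylowIn 2 T X) : Syl (im f T) := by
  have := (CI2.isSylowIn_subgroupOf_top h).map f
  rwa [map_top_of_surjective f hf] at this

theorem kr_mk {X N : Subgroup G} [(N.subgroupOf X).Normal] (h : N ≤ X) :
    kr (QuotientGroup.mk' (N.subgroupOf X)) = N := by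
  rw [kr, QuotientGroup.ker_mk', map_subgroupOf_eq_of_le h]

namespace Ess
variable {S K : Subgroup G} (h : Ess S K)
include h

/-- the quotient `X/C(K)` has TI Sylow 2-subgroups, not all equal -/
theorem quot_ti {X : Subgroup G} (h1 : o2 N[K] ⊔ C[K] ≤ X) (h2 : X ≤ N[K]) {Y : Type*} [Group Y] [Finite Y]
    {f : X →* Y} (hf : Function.Surjective f) (hk : kr f = C[K]) : Syl (im f (S ⊓ N[K])) ∧
      (∀ P Q : Subgroup Y, Syl P → Syl Q → P ≠ Q → P ⊓ Q = ⊥) ∧ ∃ Q, Syl Q ∧ im f (S ⊓ N[K]) ≠ Q := by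
  have hR : S ⊓ N[K] ≤ X := fun x hx => h1 (mem_sup_left (by simpa using h.R_o2 hx (one_mem _)))
  have h3 : Syl (im f (S ⊓ N[K])) := im_syl hf (h.fn.mono hR h2)
  have key : ∀ l, im f (S ⊓ N[K]) ⊓ l •ᶜ im f (S ⊓ N[K]) ≠ ⊥ → l •ᶜ im f (S ⊓ N[K]) = im f (S ⊓ N[K]) := by
    intro l hl
    obtain ⟨n, hn, rfl⟩ := exists_bar hf l
    obtain ⟨y, ⟨hy, hy'⟩, y1⟩ := (bot_or_exists_ne_one _).resolve_left hl
    rw [← im_conj hR hn] at hy' ⊢
    obtain ⟨_, ⟨x, hx, rfl⟩, rfl⟩ := (mem_im_of_le (conj_le_of_mem hR hn)).1 hy'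
    have h4 := (bar_mem_im_iff (cI hn (hR hx)) hR).1 hy
    rw [hk] at h4
    have h5 := h.ti hx (fun e => y1 ((bar_eq_one_iff (cI hn (hR hx))).2 (hk ▸ h.comm (cN (h2 hn) e)))) (h2 hn) h4
    refine eq_of_le_of_card_ge ((im_le_iff (conj_le_of_mem hR hn) hR).2 ?_) (by rw [im_conj hR hn, card_conj])
    rw [hk]
    exact map_conj_le_of_mem_normalizer le_sup_left h5
  refine ⟨h3, fun P Q hP hQ hne => ?_, ?_⟩
  · obtain ⟨a, rfl⟩ := h3.exists_conj' hP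
    obtain ⟨b, rfl⟩ := h3.exists_conj' hQ
    by_contra e
    refine hne ?_
    rw [← key (a⁻¹ * b) (fun e1 => e ?_), conj_conj, mul_inv_cancel_left, key (a⁻¹ * b) (fun e1 => e ?_)]
    all_goals rw [← conj_eq_bot_iff (g := a⁻¹), conj_inf, conj_conj, conj_conj, inv_mul_cancel, map_conj_one, e1]
  · by_contra e
    push Not at e
    obtain ⟨x, hx, hK⟩ := SetLike.not_le_iff_exists.1 h.not_le
    refine h.nc fun n hn => h.ti hx hK hn ?_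
    have h4 : n •ᶜ (S ⊓ N[K]) ≤ X := by
      rintro _ ⟨y, hy, rfl⟩
      exact h1 (mem_sup_left (h.R_o2 hy hn))
    have h5 := e _ (im_syl hf ((h.fn.conj_of_mem_normalizer (le_normalizer hn)).mono h4 h2))
    exact hk ▸ (im_le_iff h4 hR).1 h5.ge (conj_mem_conj hx n)

theorem adjust {n : G} (h2 : n ∈ N[S ⊓ N[K] ⊔ C[K]]) : ∃ c ∈ C[K], c⁻¹ * n ∈ N[S] := by
  obtain ⟨k, hk, e⟩ := (h.fn.mono le_sup_left h.RC_le).exists_mul_mem_normalizer h2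
  obtain ⟨c, hc, a, ha, rfl⟩ := h.mem_RC.1 hk
  exact ⟨c, hc, mem_of_mem_of_eq (mul_mem (le_normalizer ha.1) (h.N_R e)) (by group)⟩

/-- the involutions of `N_S(K)/K` are conjugate -/
theorem conj_inv {x y : G} (hx : x ∈ S ⊓ N[K]) (hy : y ∈ S ⊓ N[K]) (x1 : x ∉ K) (y1 : y ∉ K) (x2 : x * x ∈ K)
    (y2 : y * y ∈ K) : ∃ n ∈ N[S] ⊓ (o2 N[K] ⊔ C[K]), y⁻¹ * (n * x * n⁻¹) ∈ K := by
  have h2 : o2 N[K] ⊔ C[K] ≤ N[K] := sup_le (pGen_le _) (centralizer_le_normalizer _)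
  have : (C[K].subgroupOf (o2 N[K] ⊔ C[K])).Normal :=
    normal_subgroupOf_of_le_normalizer (h2.trans (normalizer_le_normalizer_centralizer _))
  set f := QuotientGroup.mk' (C[K].subgroupOf (o2 N[K] ⊔ C[K]))
  have hf : Function.Surjective f := QuotientGroup.mk'_surjective _
  have hk : kr f = C[K] := kr_mk le_sup_right
  have hR : S ⊓ N[K] ≤ o2 N[K] ⊔ C[K] := fun x hx => mem_sup_left (by simpa using h.R_o2 hx (one_mem _))
  obtain ⟨h3, h4, Q, hQ, h5⟩ := h.quot_ti le_rfl h2 hf hk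
  have ho : ∀ x ∈ S ⊓ N[K], x ∉ K → x * x ∈ K → orderOf (bar f x) = 2 := fun x hx x1 x2 =>
    ci_orderOf (fun e => x1 (h.cen ⟨hx.1, hk ▸ (bar_eq_one_iff (hR hx)).1 e⟩)) (by
      rw [← bar_mul (hR hx) (hR hx), bar_eq_one_iff (mul_mem (hR hx) (hR hx)), hk]; exact h.comm x2)
  obtain ⟨l, -, e⟩ := ci_ti_conj h4 h3 hQ h5 (bar_mem_im hx (hR hx)) (bar_mem_im hy (hR hy)) (ho x hx x1 x2)
    (ho y hy y1 y2)
  obtain ⟨n, hn, rfl⟩ := exists_bar hf l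
  rw [← bar_conj hn (hR hx), bar_eq_iff (cI hn (hR hx)) (hR hy), hk] at e
  obtain ⟨c, hc, e1⟩ := h.adjust (h.ti hx x1 (h2 hn) (h.mem_RC.2 ⟨_, e, y, hy, by group⟩))
  refine ⟨c⁻¹ * n, mem_inf.2 ⟨e1, mul_mem (inv_mem (mem_sup_right hc)) hn⟩, h.cen (mem_inf.2 ⟨S.mul_mem (S.inv_mem hy.1) (cN e1 hx.1), ?_⟩)⟩
  have hn' := normalizer_le_normalizer_centralizer _ hy.2
  have h6 : n * x * n⁻¹ * c * (n * x * n⁻¹)⁻¹ ∈ C[K] :=
    cN (normalizer_le_normalizer_centralizer _ (cI (h2 hn) hx.2)) hc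
  exact mem_of_mem_of_eq (cN' hn' (Subgroup.mul_mem _ (Subgroup.mul_mem _ (Subgroup.inv_mem _ hc) h6) e)) (by group)

end Ess

/-- a non-normal essential subgroup -/
structure NN (S K : Subgroup G) (g : G) : Prop extends Ess S K where
  gS : g ∈ S
  gR : g ∈ N[S ⊓ N[K]]
  gK : g ∉ N[K]

theorem Ess.exists_nn {S K : Subgroup G} (h : Ess S K) (hn : ¬ S ≤ N[K]) : ∃ g, NN S K g := by
  obtain ⟨g, h1, h2, h3⟩ := exists_mem_normalizer_not_mem h.syl.isPGroup.isNilpotent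
    (lt_of_le_of_ne (inf_le_left : S ⊓ N[K] ≤ S) fun e => hn (e.ge.trans inf_le_right))
  exact ⟨g, h, h1, h2, fun e => h3 ⟨h1, e⟩⟩

namespace NN
variable {S K : Subgroup G} {g : G} (h : NN S K g)
include h

local notation "R" => S ⊓ N[K]
local notation "L" => g •ᶜ K
local notation "U" => K ⊓ g •ᶜ K
local notation "Y" => K ⊓ C[o2 N[K]]

theorem ess' : Ess S L := h.conj' (le_normalizer h.gS)
theorem LR : L ≤ R := map_conj_le_of_mem_normalizer h.KR h.gR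
theorem RL : R ≤ N[L] := by
  rw [← conj_eq_iff_mem_normalizer.2 h.gR, ← conj_normalizer]; exact map_mono inf_le_right
theorem LK : ¬ L ≤ K := fun e => h.gK (conj_eq_iff_mem_normalizer.1 (eq_of_le_of_card_ge e (card_conj _ _).ge))

theorem U_eq : K ⊓ C[L] = U :=
  le_antisymm (le_inf inf_le_left ((inf_le_inf_right _ h.le).trans h.ess'.cen)) (inf_le_inf_left _ h.ess'.comm)

theorem fh : FH S K L where
  toEss := h.toEss
  AR := h.LR
  AK := h.LK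
  quad x hx a ha := h.ess'.comm (by simpa [mul_assoc] using mul_mem ha (cN (h.RL (h.KR hx)) (inv_mem ha)))
  ff := by
    have h1 := relIndex_mul_card (inf_le_left : U ≤ K)
    have h2 := relIndex_mul_card_inf K L
    rw [card_conj, ← h1] at h2
    rw [h.U_eq, Nat.eq_of_mul_eq_mul_right Nat.card_pos h2]

theorem dec {r : G} (hr : r ∈ R) : ∃ b ∈ L, ∃ x ∈ K, b * x = r :=
  (mem_sup_of_le_normalizer_right (h.LR.trans inf_le_right)).1 (h.fh.o1 hr)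

theorem RU : R ≤ C[U] := h.U_eq ▸ le_sup_left.trans h.fh.RC_U
theorem YU : Y ≤ U := h.U_eq ▸ h.fh.YU
theorem UR : U ≤ R := inf_le_left.trans h.KR

theorem U_eq' : U = R ⊓ C[R] :=
  le_antisymm (le_inf h.UR (le_centralizer_iff.1 h.RU)) (le_inf
    ((inf_le_inf inf_le_left (centralizer_mono h.KR)).trans h.cen)
    ((inf_le_inf inf_le_left (centralizer_mono h.LR)).trans h.ess'.cen))

theorem NU : N[R] ≤ N[U] := by
  rw [h.U_eq']; exact le_normalizer_inf le_rfl (normalizer_le_normalizer_centralizer _)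

theorem cu {r u : G} (hr : r ∈ R) (hu : u ∈ U) : u * r = r * u := cC (h.RU hr) hu

theorem o3 {x b : G} (hx : x ∈ K) (hU : x ∉ U) (hb : b ∈ R) (hK : b ∉ K) : b * x * b⁻¹ * x⁻¹ ∉ Y :=
  h.fh.o3 hx (h.U_eq ▸ hU) hb hK

theorem nc1 {x b : G} (hx : x ∈ K) (hU : x ∉ U) (hb : b ∈ R) (hK : b ∉ K) : b * x ≠ x * b := fun e =>
  h.o3 hx hU hb hK (by rw [e]; simp)

theorem sqU {x : G} (hx : x ∈ K) : ∃ u ∈ U, x * x = u * u :=
  (h.fh.o4 hx).imp fun _ hu => ⟨h.YU hu.1, hu.2⟩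

theorem sqU' {n x : G} (hn : n ∈ N[R]) (hx : x ∈ n •ᶜ K) : ∃ u ∈ U, x * x = u * u := by
  obtain ⟨x, hx, rfl⟩ := hx
  obtain ⟨u, hu, e⟩ := h.sqU hx
  refine ⟨_, cN (h.NU hn) hu, ?_⟩
  calc _ = n * (x * x) * n⁻¹ := by simp [mul_assoc]
    _ = _ := by rw [e]; group

theorem sq_eq {b x : G} (hb : b ∈ L) (hx : x ∈ K) :
    b * x * (b * x) = b * x * b⁻¹ * x⁻¹ * (b * b * (x * x)) ∧ b * b ∈ Y := by
  obtain ⟨u, hu, e⟩ := h.sqU' h.gR hb
  have h1 : b * b ∈ Y := e ▸ h.fh.sq_Y hu.1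
  refine ⟨?_, h1⟩
  rw [← mul_assoc (b * b), h.cm h1.1 hx]; group

theorem cmU {b x : G} (hb : b ∈ L) (hx : x ∈ K) : b * x * b⁻¹ * x⁻¹ ∈ U := h.U_eq ▸ h.fh.cU hx hb

theorem sqR {r : G} (hr : r ∈ R) : r * r ∈ U := by
  obtain ⟨b, hb, x, hx, rfl⟩ := h.dec hr
  rw [(h.sq_eq hb hx).1]
  exact mul_mem (h.cmU hb hx) (mul_mem (h.YU (h.sq_eq hb hx).2) (h.YU (h.fh.sq_Y hx)))

theorem cmR {r s : G} (hr : r ∈ R) (hs : s ∈ R) : r * s * r⁻¹ * s⁻¹ ∈ U := by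
  have h1 := h.sqR (inv_mem hr)
  have h2 := h.sqR (inv_mem hs)
  have h3 := h.sqR (mul_mem hr hs)
  exact mem_of_mem_of_eq (mul_mem (mul_mem h3 (cN' (h.NU (le_normalizer hs)) h1)) h2) (by group)

theorem mem_or {r u : G} (hr : r ∈ R) (hu : u ∈ U) (e : r * r = u * u) : r ∈ K ∨ r ∈ L := by
  obtain ⟨b, hb, x, hx, rfl⟩ := h.dec hr
  by_contra h1
  push Not at h1
  refine h.o3 hx (fun e => h1.2 (mul_mem hb e.2)) (h.LR hb) (fun e => h1.1 (mul_mem e hx)) ?_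
  rw [(h.sq_eq hb hx).1] at e
  rw [eq_mul_inv_of_mul_eq e]
  exact mul_mem (h.fh.sq_Y hu.1) (inv_mem (mul_mem (h.sq_eq hb hx).2 (h.fh.sq_Y hx)))

theorem two {n : G} (hn : n ∈ N[R]) : n •ᶜ K = K ∨ n •ᶜ K = L := by
  have h1 : ∀ x ∈ n •ᶜ K, x ∈ K ∨ x ∈ L := fun x hx =>
    (h.sqU' hn hx).elim fun u hu => h.mem_or (map_conj_le_of_mem_normalizer h.KR hn hx) hu.1 hu.2
  by_cases e : n •ᶜ K ≤ K
  · exact Or.inl (eq_of_le_of_card_ge e (card_conj _ _).ge)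
  obtain ⟨y, hy, hK⟩ := SetLike.not_le_iff_exists.1 e
  refine Or.inr (eq_of_le_of_card_ge (fun x hx => ?_) (by rw [card_conj, card_conj]))
  have h2 := (h1 y hy).resolve_left hK
  rcases h1 x hx with h3 | h3
  · exact (mul_mem_cancel_right h2).1 ((h1 _ (mul_mem hx hy)).resolve_left fun e => hK ((mul_mem_cancel_left h3).1 e))
  · exact h3

theorem swap {y : G} (hy : y ∈ N[R]) (h1 : y ∉ N[K]) : y •ᶜ K = L ∧ y •ᶜ L = K := by
  have h2 := (h.two hy).resolve_left fun e => h1 (conj_eq_iff_mem_normalizer.1 e)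
  refine ⟨h2, ?_⟩
  rw [conj_conj]
  refine (h.two (mul_mem hy h.gR)).resolve_right fun e => h.gK (conj_eq_iff_mem_normalizer.1 ?_)
  rw [← h2, ← conj_conj] at e
  exact conj_inj.1 e

theorem fix {y : G} (hy : y ∈ N[R]) (h1 : y ∈ N[K]) : y •ᶜ L = L := by
  rw [conj_conj]
  refine (h.two (mul_mem hy h.gR)).resolve_left fun e => h.gK ?_
  exact (mul_mem_cancel_left h1).1 (conj_eq_iff_mem_normalizer.1 e)

theorem idx {a b : G} (ha : a ∈ N[R]) (hb : b ∈ N[R]) (h1 : a ∉ N[K]) (h2 : b ∉ N[K]) : a * b ∈ N[K] := by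
  rw [← conj_eq_iff_mem_normalizer, ← conj_conj, (h.swap hb h2).1, (h.swap ha h1).2]

theorem sw {y x : G} (hy : y ∈ N[R]) (h1 : y ∉ N[K]) (hx : x ∈ K) (hU : x ∉ U) : y * x * y⁻¹ ∈ L ∧ y * x * y⁻¹ ∉ K := by
  have h2 : y * x * y⁻¹ ∈ L := (h.swap hy h1).1 ▸ conj_mem_conj hx y
  exact ⟨h2, fun e => hU (by simpa [mul_assoc] using cN' (h.NU hy) ⟨e, h2⟩)⟩

theorem q0 {y x : G} (hy : y ∈ N[R]) (h1 : y ∉ N[K]) (hx : x ∈ K) (hU : x ∉ U) :
    y * x * y⁻¹ * x⁻¹ * x ≠ x * (y * x * y⁻¹ * x⁻¹) := fun e =>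
  h.nc1 hx hU (h.LR (h.sw hy h1 hx hU).1) (h.sw hy h1 hx hU).2 (by
    calc _ = y * x * y⁻¹ * x⁻¹ * x * x := by group
      _ = _ := by rw [e]; group)

theorem cent {x : G} (hx : x ∈ K) (hU : x ∉ U) : S ⊓ C1[x] = K := by
  by_contra e
  obtain ⟨y, h1, h2, h3⟩ := exists_mem_normalizer_not_mem (h.syl.isPGroup.to_inf_left (K := C1[x])).isNilpotent
    (lt_of_le_of_ne (le_inf h.le (h.comm.trans (centralizer_le_singleton hx))) (Ne.symm e))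
  exact h.nc1 hx hU ⟨h1.1, h2⟩ h3 (mem_C1.1 h1.2)

theorem exists_x : ∃ x ∈ K, x ∉ U := h.U_eq ▸ h.fh.exists_x

end NN

end Cfsg.Lib.AbInt
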