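import Cfsg.Agent.Lib.AbInt.BigQ
import Cfsg.Agent.Lib.DD.Tools

/-!
# The fusion types
-/

set_option autoImplicit false
set_option linter.unusedSectionVars false

namespace Cfsg.Lib.AbInt
open Subgroup Cfsg Cfsg.Lib Cfsg.Lib.FT Cfsg.Lib.R1 Cfsg.Lib.Wal Cfsg.Lib.GW
open scoped commutatorElement

variable {G : Type*} [Group G] [Finite G]

theorem le_two {M T : Subgroup G} (h : ∀ x ∈ T, ∀ y ∈ T, x ∉ M → y ∉ M → x * y ∈ M) : M.relIndex T ≤ 2 := by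
  by_cases e : T ≤ M
  · rw [relIndex_eq_one.2 e]; omega
  · obtain ⟨a, ha, ha'⟩ := SetLike.not_le_iff_exists.1 e
    exact (DD.relIndex_two ha ha' h).le

theorem two_le {H A : Subgroup G} (h : ¬ A ≤ H) : 2 ≤ H.relIndex A := by
  have b2 : H.relIndex A ≠ 1 := fun e1 => h (relIndex_eq_one.1 e1)
  have b3 : H.relIndex A ≠ 0 := FiniteIndex.index_ne_zero
  omega

theorem Ch.conj_eq {S K H : Subgroup G} {u y e x : G} (h : Ch S H u y S e) (q : K ≤ S) (q1 : K ≤ C[K])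
    (q2 : S ⊓ C[K] = K) (hx : x ∈ S) (h1 : x * u * x⁻¹ ∈ K) : x •ᶜ H = K := by
  have h' := h.conj' (le_normalizer hx) (le_normalizer hx)
  have h2 : K ≤ x •ᶜ H := h'.cent ▸ le_inf q (q1.trans (centralizer_le_singleton h1))
  exact le_antisymm (q2 ▸ le_inf h'.KS (h'.comm.trans (centralizer_mono h2))) h2

theorem Ch.cen {S K X : Subgroup G} {v z c : G} (h : Ch S K v z X c) : S ⊓ C[K] = K :=
  le_antisymm ((inf_le_inf_left _ (centralizer_le_singleton h.vK)).trans h.cent.le) (le_inf h.KS h.comm)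

theorem Ch.bb' {S K H : Subgroup G} {v z c u y e : G} (h : Ch S K v z S c) (h' : Ch S H u y S e) :
    (∃ x ∈ S, x •ᶜ H = K) ∨ (zpowers e = zpowers c ∧ zpowers (v * u * (v * u)) = zpowers c) :=
  (h.bb h').imp_left fun ⟨x, hx, h1⟩ => ⟨x, hx, h'.conj_eq h.KS h.comm h.cen hx h1⟩

theorem Ess.fY {S K : Subgroup G} (h : Ess S K) {n : G} (hn : n ∈ N[K]) :
    ∃ m ∈ N[S], ∀ y ∈ K ⊓ C[o2 N[K]], n * y * n⁻¹ = m * y * m⁻¹ := by
  obtain ⟨k, hk, e⟩ := (h.fn.mono (fun x hx => by simpa using h.R_o2 hx (one_mem _))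
    (pGen_le _)).exists_mul_mem_normalizer (le_normalizer_pGen _ hn)
  refine ⟨_, h.N_R e, fun y hy => ?_⟩
  calc _ = k⁻¹ * (k * (n * y * n⁻¹)) := by group
    _ = _ := by rw [cC (cN (h.N_Y hn) hy).2 hk]; group

namespace Q2
variable {S K : Subgroup G} {v z c : G} (h : Q2 S K v z c)
include h

local notation "Y" => K ⊓ C[o2 N[K]]
set_option quotPrecheck false in
local notation "M" => S ⊓ commInto (zpowers (c * c)) ({v} : Set G)

theorem no_normal {H : Subgroup G} (q : Ess S H) (hn : S ≤ N[H]) : False := by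
  have vH : v ∉ H := fun e => by
    obtain ⟨x, hx, e1⟩ := h.ch.all c (mem_zpowers c)
    have h1 := (mul_mem_cancel_left e).1 (e1 ▸ cN (hn hx) e)
    exact h.cc (h.ch.sq_one (h.ch.memK (q.le h1) (q.cm h1 e)) (mul_mem (mem_zpowers c) (mem_zpowers c)))
  have a0 : ∀ x, v * (x * v * x⁻¹) = ⁅v, x⁆ := fun x => by rw [commutatorElement_def, inv_eq h.ch.vv]; group
  have a1 : ∀ x ∈ oz H, ⁅v, x⁆ = 1 ∨ ⁅v, x⁆ = z := fun x hx => h.ch.eq_z (a0 x ▸ h.ch.cls x (q.le hx.1.1))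
    (mul_mem (cN (N_le_oz H (hn h.ch.vS)) hx) (inv_mem hx)).2
  by_cases e : ∃ a ∈ H, a * a = z
  · obtain ⟨a, ha, e⟩ := e
    have zo : z ∈ oz H := ⟨mem_inf.2 ⟨e ▸ mul_mem ha ha, e ▸ q.comm (mul_mem ha ha)⟩, h.ch.zz⟩
    by_cases e1 : z ∈ centralizer {y | ∃ n ∈ N[H], n * v * n⁻¹ = y}
    · refine q.nrm (W := oz H ⊓ centralizer {y | ∃ n ∈ N[H], n * v * n⁻¹ = y}) inf_le_left (fun x hx => hx.1.1)
        (fun k hk h2 => ⟨mem_inf.2 ⟨hk, q.comm hk⟩, h2⟩) (le_normalizer_inf (N_le_oz H) fun n hn => mN fun w hw => ?_)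
        (N_le_oz H) ⟨h.ch.vS, hn h.ch.vS⟩ vH (mC fun w hw => (hw.2 v ⟨1, one_mem _, by simp⟩).symm) fun w hw => ?_
      · rintro _ ⟨m, hm, rfl⟩
        calc _ = n * (n⁻¹ * m * v * (n⁻¹ * m)⁻¹ * w) * n⁻¹ := by group
          _ = _ := by rw [hw _ ⟨_, mul_mem (inv_mem hn) hm, rfl⟩]; group
      · rcases a1 w hw with e2 | e2 <;> rw [e2]
        exacts [one_mem _, ⟨zo, e1⟩]
    simp only [mem_centralizer_iff, not_forall] at e1
    obtain ⟨_, ⟨n, hn', rfl⟩, e1⟩ := e1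
    have e2 := (a1 _ (cN' (N_le_oz H hn') zo)).resolve_left fun e2 => e1 (by
      calc _ = n * (v * (n⁻¹ * z * n)) * n⁻¹ := by group
        _ = _ := by rw [commutatorElement_eq_one_iff_mul_comm.1 e2]; group)
    have b1 := cN' hn' ha
    have e3 : n⁻¹ * z * n = n⁻¹ * a * n * (n⁻¹ * a * n) := by rw [← e]; group
    have e4 := (cN' (N_le_oz H hn') zo).2
    rw [e3] at e2 e4
    generalize n⁻¹ * a * n = b at b1 e2 e4
    have b2 := cN (hn h.ch.vS) b1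
    refine h.ch.ns (v * b * v⁻¹ * b) (h.ch.memK (q.le (mul_mem b2 b1)) ?_) ?_
    · have := q.cm b2 b1
      rw [inv_eq h.ch.vv] at this ⊢
      calc _ = v * (b * (v * b * v)) := by group
        _ = _ := by rw [← this]
    · rw [← e2, commutatorElement_def, inv_eq e4, mul_assoc, ← mul_assoc b, ← q.cm b2 b1]; group
  push Not at e
  have a2 : ∀ x ∈ H, ⁅v, x⁆ = 1 ∨ ⁅v, x⁆ = z := fun x hx => h.ch.eq_z (a0 x ▸ h.ch.cls x (q.le hx)) (by
    by_contra e1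
    obtain ⟨a, ha, e2⟩ := h.ch.exists_root (a0 x ▸ h.ch.cls x (q.le hx)) e1
    exact e a (zpowers_le.2 (mul_mem (cN (hn h.ch.vS) hx) (inv_mem hx)) ha) e2)
  have zv : z * v = v * z := by rw [h.ch.iv' h.ch.zc, inv_eq h.ch.zz]
  have f : FH S H (zpowers v) := ⟨q, zpowers_le.2 ⟨h.ch.vS, hn h.ch.vS⟩, by rwa [zpowers_le], fun x hx a ha => by
      rw [centralizer_zpowers]
      rcases (mem_zpowers_two h.ch.vv).1 ha with rfl | rfl
      · simp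
      · rcases a2 x hx with e | e <;> rw [← commutatorElement_def, e]
        exacts [one_mem _, mem_C1.2 zv],
    le_trans (le_two fun x hx y hy h1 h2 => ⟨H.mul_mem hx hy, by
      rw [centralizer_zpowers] at h1 h2 ⊢
      have k : ∀ x ∈ H, x ∉ H ⊓ C1[v] → ⁅v, x⁆ = z := fun x hx h1 => (a2 x hx).resolve_left fun e =>
        h1 ⟨hx, mem_C1.2 (commutatorElement_eq_one_iff_mul_comm.1 e).symm⟩
      refine mem_C1.2 (commutatorElement_eq_one_iff_mul_comm.1 ?_).symm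
      calc _ = ⁅v, x⁆ * (x * ⁅v, y⁆) * x⁻¹ := by simp only [commutatorElement_def]; group
        _ = 1 := by
          rw [show x * ⁅v, y⁆ = ⁅v, y⁆ * x from q.cm hx (mul_mem (cN (hn h.ch.vS) hy) (inv_mem hy)), k x hx h1,
            k y hy h2, ← mul_assoc, h.ch.zz]; group⟩) (two_le (by rwa [zpowers_le]))⟩
  obtain ⟨x, hx, e1⟩ := h.ch.all c (mem_zpowers c)
  obtain ⟨w, hw, a, ha, rfl⟩ := (mem_sup_of_le_normalizer_right (f.AR.trans inf_le_right)).1 (f.o1 ⟨hx, hn hx⟩)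
  have e2 : c = w * ⁅v, a⁆ * w⁻¹ := by
    rw [← a0, ← mul_assoc w, zcm hw (mem_zpowers v), ← cl h.ch.vv c, ← e1]; group
  refine h.cc ?_
  rw [e2]
  rcases a2 a ha with e | e <;> rw [e]
  · simp
  · exact sq_conj h.ch.zz w

theorem NS {n : G} (hn : n ∈ N[S]) : ∃ s ∈ S, ∃ m ∈ N[S] ⊓ N[K], s * m = n := by
  refine (mem_sup_of_le_normalizer_left inf_le_left).1 (FT.IsSylowIn.mem_of_sq_mem h.ess.syl le_sup_left hn ?_)
  have key : ∀ x ∈ S, ∀ n ∈ N[S], (x * n) •ᶜ K = K → n ∈ S ⊔ N[S] ⊓ N[K] := fun x hx n hn e =>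
    (mul_mem_cancel_left (mem_sup_left hx)).1 (mem_sup_right
      ⟨mul_mem (le_normalizer hx) hn, conj_eq_iff_mem_normalizer.1 e⟩)
  have h2 := pow_mem hn 2
  have h' := h.ch.conj' hn hn
  have h'' := h.ch.conj' h2 h2
  rcases h.ch.bb' h' with ⟨x, hx, e⟩ | ⟨a1, a2⟩
  · exact pow_mem (key x hx n hn (by rwa [← conj_conj])) 2
  rcases h.ch.bb' h'' with ⟨x, hx, e⟩ | ⟨-, b2⟩
  · exact key x hx _ h2 (by rwa [← conj_conj])
  rcases h'.bb' h'' with ⟨x, hx, e⟩ | ⟨-, d2⟩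
  · refine pow_mem (key _ (cN' hn hx) n hn ?_) 2
    rw [← conj_inj (g := n), ← e, conj_conj, conj_conj]; congr 2; simp only [sq]; group
  exact (h.ch.three h' h'' a2 b2 (d2.trans a1)).elim

theorem fix' {m : G} (hm : m ∈ N[S]) : (∃ r ∈ S, m * v * m⁻¹ = r * v * r⁻¹) := by
  obtain ⟨s, hs, n, hn, rfl⟩ := h.NS hm
  rename' n => m
  obtain ⟨r, hr, e⟩ : ∃ r ∈ S, m * v * m⁻¹ = r * v * r⁻¹ := (h.fix _ hn).elim (fun e => ⟨1, one_mem _, by simpa⟩)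
    fun e => (h.ch.all z h.ch.zc).imp fun r hr => ⟨hr.1, e.trans hr.2.symm⟩
  exact ⟨s * r, mul_mem hs hr, by
    calc _ = s * (m * v * m⁻¹) * s⁻¹ := by group
      _ = _ := by rw [e]; group⟩

theorem Nc : N[S] ≤ N[zpowers c] := fun m hm => mN fun d hd => by
  obtain ⟨x, hx, e⟩ := h.ch.all d hd
  obtain ⟨r, hr, e1⟩ := h.fix' hm
  refine mem_of_mem_of_eq (mul_mem (inv_mem (h.ch.cls r hr)) (h.ch.cls _ (mul_mem (cN hm hx) hr))) ?_
  calc _ = (r * v * r⁻¹)⁻¹ * (m * x * m⁻¹ * (r * v * r⁻¹) * (m * x * m⁻¹)⁻¹) := by group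
    _ = m * (v⁻¹ * (x * v * x⁻¹)) * m⁻¹ := by rw [← e1]; group
    _ = _ := by rw [e]; group

theorem idx (x : G) (hx : x ∈ S) (y : G) (hy : y ∈ S) (h1 : x ∉ M) (h2 : y ∉ M) : x * y ∈ M :=
  ⟨S.mul_mem hx hy, h.ch.m0_idx hx hy (fun e => h1 ⟨hx, e⟩) fun e => h2 ⟨hy, e⟩⟩

theorem SM : S ≤ N[M] := fun s hs => mN fun x hx => by
  by_cases e : s ∈ M
  · exact cI e hx
  · exact h.idx _ (mul_mem hs hx.1) _ (inv_mem hs) (by rwa [mul_mem_cancel_right hx]) (by rwa [inv_mem_iff])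

theorem NM : N[S] ≤ N[M] := fun m hm => mN fun x hx => by
  obtain ⟨r, hr, e⟩ := h.fix' (inv_mem hm)
  obtain ⟨d, hd, e1⟩ := mem_sq.1 (cN (h.ch.Nsq hr) ((h.ch.m0 (cN' (le_normalizer hr) hx.1)).1 (cN' (h.SM hr) hx).2))
  refine ⟨cN hm hx.1, (h.ch.m0 (cN hm hx.1)).2 (mem_sq.2 ⟨_, cN (h.Nc hm) hd, ?_⟩)⟩
  calc _ = m * (m⁻¹ * v * m⁻¹⁻¹ * (x * (m⁻¹ * v * m⁻¹⁻¹) * x⁻¹)) * m⁻¹ := by group
    _ = m * (d * d) * m⁻¹ := by rw [← e1, e]; group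
    _ = _ := by group

theorem KM : K ≤ M := le_inf h.ch.KS h.ch.K_m0

theorem second (hG : ∀ N : Subgroup G, N.index ≠ 2) : ∃ H u y e, Q2 S H u y e ∧ zpowers e = zpowers c ∧
    zpowers (v * u * (v * u)) = zpowers c := by
  by_contra h1
  obtain ⟨a, ha, e⟩ := h.ch.all c (mem_zpowers c)
  refine not_scl_two hG h.ess.syl inf_le_left (h.ess.ai.scl h.ess.syl inf_le_left h.NM fun H q n hn x hx _ =>
    (?_ : H ≤ M) (cN hn hx)) ha (fun e1 => nsq h.ch.pc h.ch.c1 rfl ?_) h.idx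
  · obtain ⟨u, y, e, q2⟩ := q.exists_q2 hG (h.no_normal q)
    obtain ⟨x, hx, e1⟩ := (h.ch.bb' q2.ch).resolve_right fun e1 => h1 ⟨H, u, y, e, q2, e1⟩
    exact le_of_conj_le (e1.le.trans h.KM) (h.SM hx)
  · simpa only [e, cl h.ch.vv] using (h.ch.m0 ha).1 e1.2

theorem odd_le {m : G} (hm : m ∈ N[S]) (ho : Odd (orderOf m)) : ⁅S, zpowers m⁆ ≤ Y := by
  obtain ⟨k, hk, e⟩ := (cop ho h.ch.pS hm).glauberman (H := N[K]) fun a ha => by
    obtain ⟨s, hs, n, hn, rfl⟩ := h.NS (zpowers_le.2 hm ha)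
    exact ⟨s, hs, by simpa using hn.2⟩
  replace e := e m (mem_zpowers m)
  have h1 : k⁻¹ * m * k ∈ N[S] := mul_mem (mul_mem (inv_mem (le_normalizer hk)) hm) (le_normalizer hk)
  have h2 : Odd (orderOf (k⁻¹ * m * k)) := by rwa [← DD.ord_conj k⁻¹ m, inv_inv] at ho
  have h3 : ⁅S, zpowers m⁆ = ⁅S, zpowers (k⁻¹ * m * k)⁆ := by
    rw [← conj_eq_iff_mem_normalizer.2 (le_normalizer_commutator_left S (zpowers (k⁻¹ * m * k)) hk),
      conj_commutator, conj_zpowers, conj_eq_iff_mem_normalizer.2 (le_normalizer hk)]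
    congr 2; group
  rw [h3]
  generalize k⁻¹ * m * k = n at e h1 h2
  have h4 : zpowers n ≤ C[zpowers c] :=
    ci_le_centralizer inferInstance h.ch.pc (odd_zp h2) (zpowers_le.2 (h.Nc h1))
  have h5 : n ∈ C1[v] := ci_mem_of_odd h2 (i := 1) (mem_C1.2 (by
    rcases h.fix n ⟨h1, e⟩ with e1 | e1
    · exact ((Commute.pow_left (mul_inv_eq_iff_eq_mul.1 e1) _).eq)
    · have e2 := cC (h4 (mem_zpowers n)) h.ch.zc
      calc _ = n * (n * v * n⁻¹) * n := by rw [pow_one, sq]; group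
        _ = n * v * n⁻¹ * (n * z) * n := by nth_rewrite 1 [e1]; group
        _ = _ := by rw [e1, ← e2, mul_assoc v, cl h.ch.zz, pow_one, sq, mul_assoc]))
  have h6 : zpowers v ⊔ zpowers z ≤ C[zpowers n] := sup_le (zpowers_le.2 (le_centralizer_iff.1 (by
    rw [centralizer_zpowers]; exact zpowers_le.2 h5) (mem_zpowers v)))
    ((zpowers_le.2 h.ch.zc).trans (le_centralizer_iff.1 h4))
  have h7 : zpowers v ⊔ zpowers z ≤ K :=
    sup_le (zpowers_le.2 h.ch.vK) (zpowers_le.2 (h.ch.memK (h.ch.cX h.ch.zc) (by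
      rw [h.ch.iv' h.ch.zc, inv_eq h.ch.zz])))
  rw [← (cop h2 h.ch.pS h1).commutator_commutator]
  refine (commutator_mono (?_ : _ ≤ M) le_rfl).trans (commutator_le.2 fun x hx a ha => ?_)
  · refine commutator_le.2 fun s hs a ha => ?_
    have a1 := zpowers_le.2 h1 ha
    rw [show ⁅s, a⁆ = s * (a * s⁻¹ * a⁻¹) by rw [commutatorElement_def]; group]
    by_cases e1 : s ∈ M
    · exact mul_mem e1 (cN (h.NM a1) (inv_mem e1))
    · exact h.idx _ hs _ (cN a1 (inv_mem hs)) e1 fun e2 => e1 (by simpa [mul_assoc] using cN' (h.NM a1) e2)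
  obtain ⟨d, hd, h8⟩ := h.ch.dec hx.1 ((h.ch.m0 hx.1).1 hx.2)
  obtain ⟨w, hw, h9⟩ := h.dec _ h8
  have e1 : x = w * (d * x) * (w⁻¹ * (x⁻¹ * d⁻¹ * x)) := by
    rw [h.ess.cm (h7 hw) h8]; group
  rw [e1]
  refine commutator_mul_centralizer_mem (mul_mem (inv_mem (h6 hw))
    (le_centralizer_iff.1 h4 (cN' (h.ch.Nc hx.1) (inv_mem hd)))) ha ?_
  exact mem_of_mem_of_eq (mul_mem h9 (cN (h.ess.N_Y (zpowers_le.2 e ha)) (inv_mem h9))) (by
    rw [commutatorElement_def]; group)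

theorem fK {F : Subgroup G} (h1 : v ∈ F) (h2 : z ∈ F) (h3 : N[S] ≤ commInto F S) {n x : G} (hn : n ∈ N[K])
    (hx : x ∈ K) : x⁻¹ * (n * x * n⁻¹) ∈ F := by
  obtain ⟨w, hw, hy⟩ := h.dec x hx
  obtain ⟨m, hm, e⟩ := h.ess.fY hn
  have h4 : zpowers v ⊔ zpowers z ≤ F := sup_le (zpowers_le.2 h1) (zpowers_le.2 h2)
  have h5 := (h3 hm).2 _ (h.ess.le hy.1)
  have h6 := (mul_mem_cancel_right hx).1 hy.1
  refine mem_of_mem_of_eq (mul_mem (mul_mem (h4 hw) (h4 (cN (h.nW hn) (inv_mem hw)))) h5) ?_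
  rw [commutatorElement_def, ← e _ hy, ← mul_assoc, ← h.ess.cm (inv_mem hy.1)
    (mul_mem (mul_mem h6 (cN hn (inv_mem h6))) (cN hn hy.1))]; group

theorem NA {m a : G} (hm : m ∈ N[S]) (ha : a ∈ oz S) (h1 : a ∈ Y) : m * a * m⁻¹ ∈ Y := by
  obtain ⟨s, hs, n, hn, rfl⟩ := h.NS hm
  refine mem_of_mem_of_eq (cN (h.ess.N_Y hn.2) h1) ?_
  calc _ = s * (n * a * n⁻¹) * s⁻¹ := by rw [oz_comm (cN (N_le_oz S hn.1) ha) hs]; group
    _ = _ := by group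

variable {H : Subgroup G} {u y e : G} (h' : Q2 S H u y e) (a1 : zpowers e = zpowers c)
  (a2 : zpowers (v * u * (v * u)) = zpowers c)
include h' a1 a2

omit a1 in
theorem gen_le {X : Subgroup G} (h1 : zpowers c ≤ X) (h2 : K ≤ X) (h3 : u ∈ X) : S ≤ X := by
  have key : M ≤ X := fun x hx => by
    obtain ⟨d, hd, h4⟩ := h.ch.dec hx.1 ((h.ch.m0 hx.1).1 hx.2)
    exact (mul_mem_cancel_left (h1 hd)).1 (h2 h4)
  intro s hs
  by_cases e : s ∈ M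
  · exact key e
  · exact (mul_mem_cancel_right h3).1 (key (h.idx s hs u h'.ch.vS e fun e => h.ch.not_m0 h'.ch.vS h'.ch.vv a2 e.2))

theorem comm : S ≤ commInto (zpowers c) S := by
  have b1 : ∀ t ∈ S, ⁅u, t⁆ ∈ zpowers c := fun t ht => mem_of_mem_of_eq (a1 ▸ h'.ch.cls t ht) (by
    rw [commutatorElement_def, inv_eq h'.ch.vv]; group)
  have b2 : ∀ d ∈ zpowers c, ∀ t ∈ S, ⁅d, t⁆ ∈ zpowers c := fun d hd t ht =>
    mem_of_mem_of_eq (mul_mem hd (cN (h.ch.Nc ht) (inv_mem hd))) (by rw [commutatorElement_def]; group)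
  refine h.gen_le h' a2 (fun d hd => ⟨le_normalizer hd, b2 d hd⟩) (fun k hk => ⟨h.ch.Nc (h.ch.KS hk), fun t ht => ?_⟩)
    ⟨h.ch.Nc h'.ch.vS, b1⟩
  have b3 : S ≤ commInto (zpowers c) {k} := h.gen_le h' a2
    (fun d hd => ⟨le_normalizer hd, fun _ e => e ▸ b2 d hd k (h.ch.KS hk)⟩)
    (fun l hl => ⟨h.ch.Nc (h.ch.KS hl), fun _ e => by
      rw [e, commutatorElement_eq_one_iff_mul_comm.2 (h.ess.cm hl hk)]; exact one_mem _⟩)
    ⟨h.ch.Nc h'.ch.vS, fun _ e => e ▸ b1 k (h.ch.KS hk)⟩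
  simpa using inv_mem ((b3 ht).2 k rfl)

theorem ess_conj (hG : ∀ N : Subgroup G, N.index ≠ 2) {J : Subgroup G} (q : Ess S J) :
    ∃ x ∈ S, x •ᶜ J = K ∨ x •ᶜ J = H := by
  obtain ⟨w, y', e', q2⟩ := q.exists_q2 hG (h.no_normal q)
  rcases h.ch.bb' q2.ch with ⟨x, hx, e⟩ | ⟨-, b2⟩
  · exact ⟨x, hx, Or.inl e⟩
  rcases h'.ch.bb' q2.ch with ⟨x, hx, e⟩ | ⟨-, d2⟩
  · exact ⟨x, hx, Or.inr e⟩
  exact (h.ch.three h'.ch q2.ch a2 b2 (d2.trans a1)).elim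

theorem NF {F : Subgroup G} (cF : zpowers c ≤ F) (YF : C[S] ⊓ (Y ⊓ (H ⊓ C[o2 N[H]])) ≤ F) (FS : F ≤ S) :
    N[S] ≤ commInto F S := fun n hn => by
  have key : ∀ m, (∀ x ∈ S, ⁅m, x⁆ ∈ F) → m ∈ commInto F S := fun m hm =>
    ⟨mN fun x hx => by simpa [commutatorElement_def] using mul_mem (hm x (FS hx)) hx, hm⟩
  have SF : S ≤ commInto F S := fun s hs => key s fun x hx => cF ((h.comm h' a1 a2 hs).2 x hx)
  obtain ⟨k, hk, s, hs, rfl⟩ := DD.exists_rs_mul (h.ess.syl.mono le_normalizer le_top) hn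
  refine mul_mem (DD.rs_le_of (fun m hm ho => key m fun x hx => ?_) hk) (SF hs)
  have b1 := h.odd_le hm ho
  have b0 : ⁅m, x⁆ ∈ ⁅S, zpowers m⁆ := by
    rw [commutator_comm]; exact commutator_mem_commutator (mem_zpowers m) hx
  refine YF ((le_inf (fun w hw => mC fun s hs => ?_) (le_inf b1 (h'.odd_le hm ho))) b0)
  have b2 : ⁅s, w⁆ ∈ Y := b1 (mul_mem (cN (le_normalizer_commutator_left _ _ hs) hw) (inv_mem hw))
  have b3 := (h.comm h' a1 a2 hs).2 w (h.ch.KS (b1 hw).1)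
  exact commutatorElement_eq_one_iff_mul_comm.1 ((h.ch.eq_z b3 (h.ch.sq_one b2.1 (mul_mem b3 b3))).resolve_right
    fun e => h.zY (e ▸ b2))

theorem focal' (hG : ∀ N : Subgroup G, N.index ≠ 2) {F : Subgroup G} (cF : zpowers c ≤ F) (vF : v ∈ F) (uF : u ∈ F)
    (NF : N[S] ≤ commInto F S) : S ≤ F := by
  obtain ⟨P, rfl⟩ := h.ess.syl.exists_sylow_top
  refine sylow_le_of_fusion (pResidual_two_eq_top_iff.2 hG) P F fun x hx g hg => h.ess.ai.fusion h.ess.syl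
    (fun a b => a⁻¹ * b ∈ F) (fun _ => by simp) (fun _ _ _ e1 e2 => by simpa using mul_mem e1 e2)
    (fun n hn x hx => ?_) (fun J q n hn x hx => ?_) hx hg
  · exact mem_of_mem_of_eq (inv_mem ((NF hn).2 _ (inv_mem hx))) (by rw [commutatorElement_def]; group)
  obtain ⟨s, hs, e⟩ := h.ess_conj h' a1 a2 hG q
  have b1 : s * n * s⁻¹ ∈ N[s •ᶜ J] := by rw [← conj_normalizer]; exact conj_mem_conj hn s
  have b2 := conj_mem_conj hx s
  refine mem_of_mem_of_eq (cN' (NF (le_normalizer hs)).1 (?_ : (s * x * s⁻¹)⁻¹ * (s * n * s⁻¹ * (s * x * s⁻¹) *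
    (s * n * s⁻¹)⁻¹) ∈ F)) (by group)
  rcases e with e | e <;> rw [e] at b1 b2
  exacts [h.fK vF (cF h.ch.zc) NF b1 b2, h'.fK uF (cF (a1.le h'.ch.zc)) NF b1 b2]

theorem focal (hG : ∀ N : Subgroup G, N.index ≠ 2) :
    S ≤ (zpowers (v * u) ⊔ zpowers v) ⊔ C[S] ⊓ (Y ⊓ (H ⊓ C[o2 N[H]])) := by
  have cF := (a2.ge.trans (sq_le _)).trans (le_sup_left.trans
    (le_sup_left (a := zpowers (v * u) ⊔ zpowers v) (b := C[S] ⊓ (Y ⊓ (H ⊓ C[o2 N[H]])))))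
  have vF := mem_sup_left (T := C[S] ⊓ (Y ⊓ (H ⊓ C[o2 N[H]]))) (mem_sup_right (S := zpowers (v * u)) (mem_zpowers v))
  exact h.focal' h' a1 a2 hG cF vF ((mul_mem_cancel_left vF).1 (mem_sup_left (mem_sup_left (mem_zpowers _))))
    (h.NF h' a1 a2 cF le_sup_right (sup_le (sup_le (zpowers_le.2 (mul_mem h.ch.vS h'.ch.vS)) (zpowers_le.2 h.ch.vS))
    (inf_le_right.trans (inf_le_left.trans (inf_le_left.trans h.ch.KS)))))

theorem scl (hG : ∀ N : Subgroup G, N.index ≠ 2) : SCl (oz S ⊓ (Y ⊓ (H ⊓ C[o2 N[H]]))) := by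
  have hN : N[S] ≤ N[oz S ⊓ (Y ⊓ (H ⊓ C[o2 N[H]]))] := fun m hm => mN fun a ha =>
    ⟨cN (N_le_oz S hm) ha.1, h.NA hm ha.1 ha.2.1, h'.NA hm ha.1 ha.2.2⟩
  refine h.ess.ai.scl h.ess.syl (fun x hx => hx.1.1.1) hN fun J q n hn a _ ha => ?_
  obtain ⟨s, hs, e⟩ := h.ess_conj h' a1 a2 hG q
  have b1 : s * n * s⁻¹ ∈ N[s •ᶜ J] := conj_normalizer s J ▸ conj_mem_conj hn s
  obtain ⟨m, hm, e1⟩ : ∃ m ∈ N[S], s * n * s⁻¹ * a * (s * n * s⁻¹)⁻¹ = m * a * m⁻¹ := by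
    rcases e with e | e <;> rw [e] at b1
    exacts [(h.ess.fY b1).imp fun m hm => ⟨hm.1, hm.2 a ha.2.1⟩, (h'.ess.fY b1).imp fun m hm => ⟨hm.1, hm.2 a ha.2.2⟩]
  refine mem_of_mem_of_eq (cN' (hN (le_normalizer hs)) (e1 ▸ cN (hN hm) ha)) ?_
  calc _ = n * (s⁻¹ * a) * s * n⁻¹ := by group
    _ = _ := by rw [oz_comm ha.1 (inv_mem hs)]; group

omit h' a1 a2 in
theorem types (hG : ∀ N : Subgroup G, N.index ≠ 2) : (∃ m, 2 ≤ m ∧ Nonempty (S ≃* DihedralGroup m)) ∨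
    ∃ A ≤ S, SCl A ∧ IsElementaryAbelian 2 A ∧ A ≠ ⊥ := by
  obtain ⟨H, u, y, e, h', a1, a2⟩ := h.second hG
  refine or_iff_not_imp_right.2 fun h1 => ?_
  have h2 : C[S] ⊓ (Y ⊓ (H ⊓ C[o2 N[H]])) = ⊥ := by
    by_contra e
    obtain ⟨t, ht, t2⟩ := exists_invol (h.ess.pK.to_le (inf_le_right.trans (inf_le_left.trans inf_le_left))) e
    exact h1 ⟨_, inf_le_left.trans (show oz S ≤ S from fun x hx => hx.1.1), h.scl h' a1 a2 hG, elemAb_mono (elemAb_oz S) inf_le_left, fun e =>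
      ne1 t2 (e.le (mem_inf.2 ⟨⟨mem_inf.2 ⟨h.ch.KS ht.2.1.1, ht.1⟩, sq2 t2⟩, ht.2⟩))⟩
  have h3 := h.focal h' a1 a2 hG
  rw [h2, sup_bot_eq] at h3
  have h4 : zpowers c ≤ zpowers (v * u) := a2.ge.trans (sq_le _)
  rw [le_antisymm h3 (sup_le (zpowers_le.2 (mul_mem h.ch.vS h'.ch.vS)) (zpowers_le.2 h.ch.vS))]
  refine DD.Dh.isDih (z := z) ⟨DD.dihGen_sup h.ch.vv ?_, ci_orderOf h.ch.z1 h.ch.zz, h4 h.ch.zc,
    mem_sup_right (mem_zpowers v), fun e => h.cc ?_⟩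
  · rw [cl h.ch.vv, mul_inv_rev, inv_eq h'.ch.vv]
  · have := h.ch.inv
    rw [zcm e (h4 (mem_zpowers c)), mul_assoc, h.ch.vv, mul_one] at this
    nth_rewrite 1 [this]; simp

end Q2

theorem AI.types (h : AI G) (hG : ∀ N : Subgroup G, N.index ≠ 2) {S : Subgroup G} (hS : Syl S) (h0 : S ≠ ⊥) :
    (∃ m, 2 ≤ m ∧ Nonempty (S ≃* DihedralGroup m)) ∨ ⁅S, S⁆ ≤ C[S] ∨
      ∃ A ≤ S, SCl A ∧ IsElementaryAbelian 2 A ∧ A ≠ ⊥ := by
  by_cases h1 : ∃ K, Ess S K ∧ ¬ S ≤ N[K]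
  · obtain ⟨K, q, hn⟩ := h1
    obtain ⟨v, z, c, q2⟩ := q.exists_q2 hG hn
    exact (q2.types hG).imp_right Or.inr
  push Not at h1
  right
  by_cases h2 : ∃ H K, Ess S H ∧ Ess S K ∧ H ≠ K
  · obtain ⟨H, K, q, q', hne⟩ := h2
    wlog hc : Nat.card H ≤ Nat.card K generalizing H K
    · exact this K H q' q hne.symm (by omega)
    have e1 : H ⊓ C[K] = H ⊓ K :=
      le_antisymm (le_inf inf_le_left ((inf_le_inf_right _ q.le).trans q'.cen)) (inf_le_inf_left _ q'.comm)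
    have f : FH S H K := ⟨q, le_inf q'.le (q'.le.trans (h1 H q)), fun e => hne (eq_of_le_of_card_ge e hc).symm,
      fun x hx a ha => q'.comm (mem_of_mem_of_eq (mul_mem ha (cN (h1 K q' (q.le hx)) (inv_mem ha))) (by group)), by
      have c1 := relIndex_mul_card_inf H K
      have c2 := relIndex_mul_card (inf_le_left : H ⊓ K ≤ H)
      rw [e1]
      exact Nat.le_of_mul_le_mul_right (by rw [c1, c2]; exact hc) (Nat.card_pos (α := ↥(H ⊓ K)))⟩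
    have e2 : S ≤ K ⊔ H := (le_inf le_rfl (h1 H q)).trans f.o1
    have e3 : H ⊓ K ≤ C[S] := le_centralizer_iff.1 (e2.trans (sup_le
      (q'.comm.trans (centralizer_mono inf_le_right)) (q.comm.trans (centralizer_mono inf_le_left))))
    have k : ∀ {X Z : Subgroup G}, Ess S X → Ess S Z → S ≤ X ⊔ Z → ⁅S, S⁆ ≤ Z := fun {X Z} a b e => by
      have c1 : X ≤ N[Z] := a.le.trans (h1 Z b)
      have c2 : ∀ w ∈ Z, ∀ s ∈ S, ⁅w, s⁆ ∈ Z := fun w hw s hs =>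
        mem_of_mem_of_eq (mul_mem hw (cN (h1 Z b hs) (inv_mem hw))) (by rw [commutatorElement_def]; group)
      have c3 : Z ≤ commInto Z S := fun w hw => ⟨le_normalizer hw, c2 w hw⟩
      refine commutator_le.2 fun s hs t ht => ((e.trans (sup_le (?_ : X ≤ commInto Z S) c3)) hs).2 t ht
      refine fun x hx => ⟨c1 hx, fun t ht => ?_⟩
      have c4 : S ≤ commInto Z {x} := e.trans (sup_le (fun y hy => ⟨c1 hy, fun _ e => by
        rw [e, commutatorElement_eq_one_iff_mul_comm.2 (a.cm hy hx)]; exact one_mem _⟩)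
        fun w hw => ⟨le_normalizer hw, fun _ e => e ▸ c2 w hw x (a.le hx)⟩)
      simpa using inv_mem ((c4 ht).2 x rfl)
    exact Or.inl (le_trans (le_inf (k q' q e2) (k q q' (e2.trans (sup_comm K H).le))) e3)
  push Not at h2
  right
  by_cases h3 : ∃ H, Ess S H
  · obtain ⟨H, q⟩ := h3
    obtain ⟨z, hz, z1⟩ := exists_oz q.pK fun e => q.nc (by
      rw [show C[H] = ⊤ from eq_top_iff.2 fun x _ => mC fun w hw => by rw [mem_bot.1 (e.le hw)]; simp, sup_top_eq,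
        normalizer_eq_top ⊤]; exact le_top)
    refine ⟨oz H, fun x hx => q.le hx.1.1, h.scl hS (fun x hx => q.le hx.1.1) (le_trans (fun n hn =>
      conj_eq_iff_mem_normalizer.1 (h2 _ _ (q.conj' hn) q)) (N_le_oz H)) fun K q' g hg x _ hx =>
      cN (N_le_oz H (h2 _ _ q' q ▸ hg)) hx, elemAb_oz H, fun e => z1 (e.le hz)⟩
  · obtain ⟨z, hz, z1⟩ := exists_oz hS.isPGroup h0
    exact ⟨oz S, fun x hx => hx.1.1, h.scl hS (fun x hx => hx.1.1) (N_le_oz S) fun K q => (h3 ⟨K, q⟩).elim,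
      elemAb_oz S, fun e => z1 (e.le hz)⟩

end Cfsg.Lib.AbInt
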