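import Cfsg.Agent.Lib.AbInt.Tri
import Cfsg.Agent.Lib.AbInt.Types

/-!
# The case of a central strongly closed subgroup
-/

set_option autoImplicit false
set_option linter.unusedSectionVars false

namespace Cfsg.Lib.AbInt
open Subgroup Cfsg Cfsg.Lib Cfsg.Lib.FT Cfsg.Lib.R1 Cfsg.Lib.Wal Cfsg.Lib.GW
open scoped commutatorElement

universe u

variable {G : Type u} [Group G] [Finite G] {A X P J S R L : Subgroup G} {h : G}

theorem exists_sq_mem {x : G} (hx : x ∉ P) (h2 : IsPGroup 2 (zpowers x)) : ∃ y ∈ zpowers x, y ∉ P ∧ y * y ∈ P := by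
  classical
  obtain ⟨k, hk⟩ := h2 ⟨x, mem_zpowers x⟩
  have ex : ∃ k, x ^ 2 ^ k ∈ P := ⟨k, by rw [show x ^ 2 ^ k = 1 from congrArg Subtype.val hk]; exact one_mem _⟩
  obtain ⟨j, hj⟩ := Nat.exists_eq_succ_of_ne_zero (n := Nat.find ex) fun e => hx (by simpa [e] using Nat.find_spec ex)
  refine ⟨x ^ 2 ^ j, pow_mem (mem_zpowers x) _, Nat.find_min ex (by omega), ?_⟩
  have := Nat.find_spec ex
  rwa [hj, pow_succ, pow_mul, sq] at this

/-- `P = A × R` is abelian and the centralizer in `S` of every involution of `P ∖ A` -/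
structure C4 (A S P R L : Subgroup G) (h : G) : Prop extends Cx A where
  card : Nat.card A ≤ 4
  good : ∀ a ∈ A, a ≠ 1 → Sol A A C1[a]
  syl : Syl S
  le : P ≤ S
  SA : S ≤ C[A]
  ab : P ≤ C[P]
  pr : Pr A P A R L h
  k1 : ∀ r ∈ R, r * r = 1 → r ≠ 1 → S ⊓ C1[r] ≤ P
  Rne : R ≠ ⊥

namespace C4
variable (c : C4 A S P R L h)
include c

theorem AP : A ≤ P := c.pr.tor.VS
theorem cm {x y : G} (hx : x ∈ P) (hy : y ∈ P) : x * y = y * x := cC (c.ab hy) hx
theorem ca {x y : G} (hx : x ∈ A) (hy : y ∈ S) : x * y = y * x := cC (c.SA hy) hx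
theorem dec {x : G} (hx : x ∈ P) : ∃ v ∈ A, ∃ r ∈ R, v * r = x :=
  c.pr.tor.exists_mul (isMulCommutative_of_forall fun _ a _ b => c.cm a b) hx

theorem k2 {s x : G} (hs : s ∈ S) (h1 : s ∉ P) (hx : x ∈ P) (e : s * x = x * s) : x ∈ A := by
  obtain ⟨v, hv, r, hr, rfl⟩ := c.dec hx
  by_cases r1 : r = 1
  · simpa [r1] using hv
  obtain ⟨u, hu, u2⟩ := exists_invol (isPGroup_zpowers c.syl.isPGroup (c.le (c.pr.tor.RS hr))) (by simpa using r1)
  rw [← mul_assoc, ← c.ca hv hs, mul_assoc, mul_assoc, mul_right_inj] at e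
  exact (h1 (c.k1 u (zpowers_le.2 hr hu) (sq2 u2) (ne1 u2) ⟨hs, mem_C1_comm.1
    (zpowers_le.2 (mem_C1.2 e.symm) hu)⟩)).elim

theorem nrm {s x : G} (hs : s ∈ S ⊓ N[P]) (h1 : s ∉ P) (h2 : s * s ∈ P) (hx : x ∈ P) : x * (s * x * s⁻¹) ∈ A :=
  c.k2 hs.1 h1 (mul_mem hx (cN hs.2 hx)) (by
    calc _ = s * x * s⁻¹ * (s * s * x) * s⁻¹ := by group
      _ = s * x * s⁻¹ * x * s := by rw [c.cm h2 hx]; group
      _ = _ := by rw [c.cm (cN hs.2 hx) hx])

theorem nrm1 {s x : G} (hs : s ∈ S) (h1 : s ∉ P) (hx : x ∈ P) (h2 : x ∉ A) (h3 : x * x = 1) :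
    x * (s * x * s⁻¹) ≠ 1 := fun e =>
  h2 (c.k2 hs h1 hx (by rw [← mul_inv_eq_iff_eq_mul, ← inv_eq_of_mul_eq_one_right e, inv_eq h3]))

theorem four' {a b x : G} (ha : a ∈ A) (hb : b ∈ A) (a1 : a ≠ 1) (b1 : b ≠ 1) (e : b ≠ a) (hx : x ∈ A) :
    x = 1 ∨ x = a ∨ x = b ∨ x = a * b := by
  have f : Four a b := ⟨ord2 a1 (esq c.el ha), ord2 b1 (esq c.el hb), e, c.ca hb (c.le (c.AP ha))⟩
  exact f.mem_four.1 (eq_of_four f ha hb c.card ▸ hx)

theorem beta {s r : G} (hs : s ∈ S ⊓ N[P]) (h1 : s ∉ P) (hr : r ∈ P) (r1 : r ∉ A) (r2 : r * r = 1)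
    (h2 : s * s = 1 ∨ s * s = r * (s * r * s⁻¹)) : False := by
  have := c.simple
  have h3 : s * s ∈ P := h2.elim (fun e => e ▸ one_mem _) fun e => e ▸ mul_mem hr (cN hs.2 hr)
  have ha := c.nrm hs h1 h3 hr
  have a1 := c.nrm1 hs.1 h1 hr r1 r2
  obtain ⟨a, ea⟩ : ∃ a, a = r * (s * r * s⁻¹) := ⟨_, rfl⟩
  rw [← ea] at ha a1 h2
  have hY : S ≤ N[O[C1[a]]] := (le_c1_iff.2 (le_centralizer_symm c.SA ha)).trans (le_n_oc _)
  have f4 : ∀ b ∈ A, b ≠ 1 → ∀ x ∈ S, x ∉ A → x * x = 1 → Four b x := fun b hb b1 x hx x1 x2 =>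
    ⟨ord2 b1 (esq c.el hb), ord2 (fun e => x1 (e ▸ one_mem _)) x2, fun e => x1 (e ▸ hb), (c.ca hb hx).symm⟩
  have k : ∀ b ∈ A, b ≠ 1 → ∀ d ∈ P, d ∉ A → d * d = 1 → d * (s * d * s⁻¹) = a → O[C1[a]] ⊓ C1[d] ≤ C1[b] := by
    intro b hb b1 d hd d1 d2 e
    obtain ⟨u, hu, u1, u2, e⟩ : ∃ u ∈ S, u ∉ P ∧ u * u = 1 ∧ d * (u * d * u⁻¹) = a := by
      rcases h2 with h2 | h2
      · exact ⟨s, hs.1, h1, h2, e⟩
      refine ⟨s * d, mul_mem hs.1 (c.le hd), by rwa [mul_mem_cancel_right hd], ?_, by rw [← e]; group⟩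
      calc _ = s * d * s⁻¹ * (s * s * d) := by group
        _ = d * (s * d * s⁻¹) * a := by rw [h2, c.cm (c.AP ha) hd, ← mul_assoc, c.cm (cN hs.2 hd) hd]
        _ = 1 := by rw [e, esq c.el ha]
    have f := f4 b hb b1 u hu (fun e => u1 (c.AP e)) u2
    have hS : four b u ≤ S := four_le_iff.2 ⟨c.le (c.AP hb), hu⟩
    refine le_of_c1 (D := four b u) (fun x hx => by
      rcases f.mem_four.1 hx with rfl | rfl | rfl | rfl
      exacts [one_mul 1, f.tt, f.vv, f.ww]) f.card.ge (odd_of_le (odd_oc _) inf_le_left)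
      (four_le_iff.2 ⟨mN fun y hy => ⟨cN (hY (c.le (c.AP hb))) hy.1, ?_⟩,
        mN fun y hy => ⟨cN (hY hu) hy.1, ?_⟩⟩) fun x hx x1 y hy => ?_
    · have := conj_mem_conj hy.2 b
      rwa [← c1_conj, c.ca hb (c.le hd), mul_inv_cancel_right] at this
    · have h4 := conj_mem_conj hy.2 u
      rw [← c1_conj, eq_inv_mul_of_mul_eq e, mem_C1_comm] at h4
      simpa using mem_C1_comm.1 (mul_mem h4 (inv_mem (mem_C1_comm.1 (oc_le _ (cN (hY hu) hy.1))))) |> fun e =>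
        mem_C1_comm.1 (inv_mem (mem_C1_comm.1 e))
    have k1 : x ∉ P → y ∈ C1[b] := fun x2 => le_c1_iff.2 (le_centralizer_symm (zpowers_le.2 (c.ai.kk c.syl (odd_oc _) hY
      (hS hx) (c.le hd) (fun e => d1 (c.k2 (hS hx) x2 hd e)) hy.1.1 (mem_C1.1 hy.2) (mem_C1.1 hy.1.2)))
        (c.le (c.AP hb))) (mem_zpowers y)
    rcases f.mem_four.1 hx with rfl | rfl | rfl | rfl
    exacts [(x1 rfl).elim, hy.2, k1 u1, k1 (by rwa [mul_mem_cancel_left (c.AP hb)])]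
  have k2 : O[C1[a]] ≤ C[A] := le_centralizer_symm fun b hb => le_c1_iff.1 (by
    by_cases b1 : b = 1
    · exact fun y _ => mem_C1.2 (by simp [b1])
    have f := f4 b hb b1 r (c.le hr) r1 r2
    refine le_of_c1 (D := four b r) (fun x hx => by
      rcases f.mem_four.1 hx with rfl | rfl | rfl | rfl
      exacts [one_mul 1, f.tt, f.vv, f.ww]) f.card.ge (odd_oc _)
      ((four_le_iff.2 ⟨c.le (c.AP hb), c.le hr⟩).trans hY) fun x hx x1 => ?_
    rcases f.mem_four.1 hx with rfl | rfl | rfl | rfl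
    exacts [(x1 rfl).elim, inf_le_right, k b hb b1 _ hr r1 r2 ea.symm, k b hb b1 _ (mul_mem (c.AP hb) hr)
      (by rwa [mul_mem_cancel_left hb]) f.ww (by
        calc _ = b * (r * (s * b)) * r * s⁻¹ := by group
          _ = b * (r * b) * (s * r * s⁻¹) := by rw [← c.ca hb hs.1]; group
          _ = _ := by rw [← c.ca hb (c.le hr), cl f.tt, ea])])
  refine c.nse _ (se_of c.scl c.el c.ne (c.ne_top c.pA c.ne) le_rfl fun b hb b1 =>
    ((c.good b hb b1).good c.pA (le_c1_iff.2 (le_C_of_comm c.el.1 le_rfl hb))).trans (sup_le ?_ inf_le_right))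
  obtain ⟨l, hl, rfl⟩ := c.pr.tor.trans a ha b hb a1 b1
  rw [c1_conj, oc_conj]
  exact map_conj_le_of_mem_normalizer (k2.trans (centralizer_le_normalizer _))
    (le_normalizer (zpowers_le.2 c.pr.tor.hV hl))

theorem false : False := by
  have pS := c.syl.isPGroup
  have hlt : P < S ⊓ N[P] := by
    obtain ⟨x, hx, h1, h2⟩ := exists_mem_normalizer_not_mem_of_lt_pgroup pS
      (lt_of_le_of_ne c.le fun e => c.nab2 S c.syl (e ▸ c.ab))
    exact lt_of_le_of_ne (le_inf c.le le_normalizer) fun e => h2 (e.ge ⟨hx, h1⟩)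
  obtain ⟨s, hs, s1, s2⟩ : ∃ s ∈ S ⊓ N[P], s ∉ P ∧ s * s ∈ P := by
    obtain ⟨x, hx, h1⟩ := SetLike.exists_of_lt hlt
    obtain ⟨s, hs, h2⟩ := exists_sq_mem h1 (isPGroup_zpowers pS hx.1)
    exact ⟨s, zpowers_le.2 hx hs, h2⟩
  have AR : ∀ r ∈ R, r ∈ A → r = 1 := fun r hr ha => c.pr.tor.eq_one ha hr
  obtain ⟨t, ht, t2⟩ := exists_invol (pS.to_le (c.pr.tor.RS.trans c.le)) c.Rne
  have tP := c.pr.tor.RS ht
  have tA : t ∉ A := fun e => ne1 t2 (AR t ht e)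
  have om : ∀ r ∈ P, r ∉ A → r * r = 1 → r * t ∈ A := fun r hr r1 r2 => by
    by_contra e
    have e1 : r * t * (r * t) = 1 := by rw [mul_assoc, ← mul_assoc t, c.cm tP hr, mul_assoc, sq2 t2, mul_one, r2]
    have e2 : r * t * (s * (r * t) * s⁻¹) = r * (s * r * s⁻¹) * (t * (s * t * s⁻¹)) := by
      calc _ = r * (t * (s * r * s⁻¹)) * (s * t * s⁻¹) := by group
        _ = _ := by rw [c.cm tP (cN hs.2 hr)]; group
    rcases c.four' (c.nrm hs s1 s2 hr) (c.nrm hs s1 s2 tP) (c.nrm1 hs.1 s1 hr r1 r2) (c.nrm1 hs.1 s1 tP tA (sq2 t2))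
      (fun e3 => c.nrm1 hs.1 s1 (mul_mem hr tP) e e1 (by rw [e2, ← e3, esq c.el (c.nrm hs s1 s2 tP)]))
      (c.k2 hs.1 s1 s2 (mul_assoc ..).symm) with e3 | e3 | e3 | e3
    exacts [c.beta hs s1 hr r1 r2 (.inl e3), c.beta hs s1 hr r1 r2 (.inr e3), c.beta hs s1 tP tA (sq2 t2) (.inr e3),
      c.beta hs s1 (mul_mem hr tP) e e1 (.inr (e3.trans e2.symm))]
  have inv : ∀ x ∈ S ⊓ N[P], x * x = 1 → x ∈ P := fun x hx e => by
    by_contra h1; exact c.beta hx h1 tP tA (sq2 t2) (.inl e)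
  have k3 : ∀ u ∈ S, u * t * u⁻¹ ∈ P → ∀ x ∈ S, x * (u * t * u⁻¹) = u * t * u⁻¹ * x → x ∈ P := fun u hu e x hx e1 => by
    by_contra h1
    exact tA (c.scl S pS (c.AP.trans c.le) t (c.le tP) u (c.k2 hx h1 e e1))
  have hN : S ≤ N[P] := by
    by_contra e
    obtain ⟨u, hu, h1, h2⟩ := exists_mem_normalizer_not_mem_of_lt_pgroup pS
      (lt_of_le_of_ne (inf_le_left : S ⊓ N[P] ≤ S) fun e' => e (e'.ge.trans inf_le_right))
    have h3 := inv _ (cN h1 (hlt.le tP)) (sq_conj (sq2 t2) u)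
    exact h2 ⟨hu, mN fun x hx => k3 u hu h3 _ (cI hu (c.le hx)) (conj_comm_iff.2 (c.cm hx tP))⟩
  have el : ∀ y ∈ P, y * y = 1 := fun y hy => by
    obtain ⟨v, hv, r, hr, rfl⟩ := c.dec hy
    have hR := c.pr.tor.RS
    rw [mul_assoc, ← mul_assoc r, c.cm (hR hr) (c.AP hv), mul_assoc, cl (esq c.el hv)]
    by_contra e
    obtain ⟨x, hx, x1, x2⟩ := exists_order_four pS (c.le (hR hr)) e
    replace hx := zpowers_le.2 hr hx
    have h1 := esq c.el (c.nrm hs s1 s2 (hR hx))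
    refine x1 (AR _ (mul_mem hx hx) (c.k2 hs.1 s1 (hR (mul_mem hx hx)) ?_))
    rw [← mul_inv_eq_iff_eq_mul, ← mul_right_inj (x * x), x2, ← h1]
    calc _ = x * (x * (s * x * s⁻¹)) * (s * x * s⁻¹) := by group
      _ = x * (s * x * s⁻¹ * x) * (s * x * s⁻¹) := by rw [c.cm (hR hx) (cN hs.2 (hR hx))]
      _ = _ := by group
  have sq : ∀ x ∈ S, x * x ∈ A := fun x hx => by
    by_cases e : x ∈ P
    · rw [el x e]; exact one_mem _
    have h1 := cN (hN hx) tP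
    have h2 := om _ h1 (fun e => tA (c.scl S pS (c.AP.trans c.le) t (c.le tP) x e)) (el _ h1)
    refine c.k2 hx e (c.k1 t ht (sq2 t2) (ne1 t2) ⟨mul_mem hx hx, mem_C1.2 ?_⟩) (mul_assoc ..).symm
    have h3 := c.ca h2 hx
    have h4 := c.cm h1 tP
    calc x * x * t = x * (x * t * x⁻¹ * t) * (t * t)⁻¹ * t * x := by group
      _ = x * t * x⁻¹ * (t * (x * t * x⁻¹)) * x * x := by rw [← h3, sq2 t2]; group
      _ = _ := by rw [← h4, ← mul_assoc, el _ h1, one_mul, mul_assoc]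
  obtain ⟨M, ⟨m1, m2, m3⟩, hm⟩ := Set.Finite.exists_maximal (Set.toFinite {M : Subgroup G | A ≤ M ∧ M ≤ S ∧ t ∉ M})
    ⟨A, le_rfl, c.AP.trans c.le, tA⟩
  have k4 : ∀ x ∈ S, x ∉ M → x⁻¹ * t ∈ M := fun x hx e => by
    have h1 : zpowers x ≤ N[M] := zpowers_le.2 (mN fun m h => mem_of_mem_of_eq (mul_mem (mul_mem
      (m1 (sq _ (mul_mem hx (m2 h)))) (inv_mem h)) (m1 (sq _ (inv_mem hx)))) (by group))
    have h2 : t ∈ zpowers x ⊔ M := by
      by_contra h2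
      exact e (hm (show _ ∧ _ from ⟨le_sup_of_le_right m1, sup_le (zpowers_le.2 hx) m2, h2⟩) le_sup_right
        (mem_sup_left (mem_zpowers x)))
    obtain ⟨y, hy, m, h3, rfl⟩ := (mem_sup_of_le_normalizer' h1).1 h2
    have h4 : zpowers (x * x) ≤ M := zpowers_le.2 (m1 (sq x hx))
    rcases par hy with e1 | e1
    · exact (m3 (mul_mem (h4 e1) h3)).elim
    · exact mul_assoc x⁻¹ y m ▸ mul_mem (h4 e1) h3
  obtain ⟨S', rfl⟩ := c.syl.exists_sylow_top
  obtain ⟨g, hg⟩ := thompson_transfer' c.not_idx S' (DD.relIndex_two (c.le tP) m3 fun x hx y hy h1 h2 =>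
    mem_of_mem_of_eq (mul_mem (mul_mem (m1 (sq x hx)) (k4 x hx h1)) (inv_mem (k4 y hy h2))) (by group)) (t := t) (by rw [pow_two, sq2 t2])
  have h1 := sq_conj (sq2 t2) g
  by_cases e : g * t * g⁻¹ ∈ A
  · exact tA (c.scl _ pS (c.AP.trans c.le) t (c.le tP) g e)
  · exact m3 ((mul_mem_cancel_left hg).1 (m1 (om _ (inv _ ⟨m2 hg, hN (m2 hg)⟩ h1) e h1)))

end C4

theorem Ab.abel (a : Ab A X P J) (h : P ≤ C[A]) : P ≤ C[P] := by
  have h1 : J ⊓ P ≤ C[P] := a.VA.trans (le_centralizer_symm h)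
  have h2 : P ≤ J ⊓ P ⊔ P ⊓ cz X J := fun y hy => by
    obtain ⟨v, hv, e⟩ := a.dec y hy (le_centralizer_symm h1 hy)
    exact mem_of_mem_of_eq (mul_mem (mem_sup_left hv) (mem_sup_right ⟨P.mul_mem (P.inv_mem hv.2) hy, e⟩)) (by group)
  exact h2.trans (sup_le h1 (le_centralizer_symm (h2.trans (sup_le (h1.trans (centralizer_mono inf_le_left)) a.cm))))

namespace Cx
variable (c : Cx A) (hc : ∀ P : Subgroup G, IsPGroup 2 P → A ≤ P → P ≤ C[A])
include c hc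

theorem good1 {a : G} (ha : a ∈ A) (a1 : a ≠ 1) : Sol A A C1[a] := by
  obtain ⟨S, hS, h1⟩ := exists_isSylowIn_ge c.pA le_top
  have h2 := hc S hS.isPGroup h1
  rcases c.tri (c.c1_ne a1 (esq c.el ha)) (hS.mono (le_c1_iff.2 (le_centralizer_symm h2 ha)) le_top) h1 le_rfl with
    h | ⟨J, h, -⟩ | h
  · exact h
  · exact (c.nab2 S hS (h.abel h2)).elim
  obtain ⟨⟨x, hx, x1⟩, h3⟩ := h.n1 h2
  refine (a1 (h3 a (((c.irr _ inf_le_left (((hS.mono h2 le_top).le_sup_normalizer (centralizer_le_normalizer _)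
    (normalizer_le_normalizer_centralizer _)).trans (sup_le ((centralizer_mono inf_le_left).trans
      (centralizer_le_normalizer _)) (le_normalizer_inf inf_le_left (le_normalizer_commutator inf_le_right
        inf_le_right))))).resolve_left fun e => x1 (e.le hx)).ge ha).2 le_rfl)).elim

theorem end_t {t : G} (t2 : t * t = 1) (tA : t ∉ A) (ht : t ∈ C[A]) (hP : P ≤ C[A ⊔ zpowers t])
    (h : ∀ f ∈ A ⊔ zpowers t, f ≠ 1 → ¬ Sol A A C1[f] → ∀ W ≤ C1[f], Odd (Nat.card W) → P ≤ N[W] → W ≤ O[C1[f]]) :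
    False := by
  have := c.simple
  have hE := elemAb_sup c.el (elemAb_zpowers (x := t) (by rw [sq, t2])) (le_centralizer_symm (zpowers_le.2 ht))
  have h1 : ∀ f ∈ A ⊔ zpowers t, A ≤ C1[f] := fun f hf =>
    le_sup_left.trans (le_c1_iff.2 (le_C_of_comm hE.1 le_rfl hf))
  have h2 : ∀ f ∈ A ⊔ zpowers t, P ≤ C1[f] := fun f hf => le_c1_iff.2 (le_centralizer_symm hP hf)
  obtain ⟨M, hM⟩ := endgame c.nab c.scl c.four hE le_sup_left (by
    have a := card_dvd_of_le (le_sup_left : A ≤ A ⊔ zpowers t)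
    have b := pg_card_lt_of_lt (left_lt_sup.2 (mt zpowers_le.1 tA) : A < A ⊔ zpowers t)
    obtain ⟨k, e⟩ := a
    have := c.four
    rcases k with _ | _ | k <;> nlinarith)
    (fun a ha a1 => (c.good1 hc ha a1).good c.pA (h1 a (mem_sup_left ha))) (fun e he f hf f1 => by
      have a := le_normalizer_inf ((h1 e he).trans (le_n_oc _)) ((h1 f hf).trans le_normalizer)
      have o := odd_of_le (odd_oc C1[e]) (inf_le_left (b := C1[f]))
      by_cases g : Sol A A C1[f]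
      · exact (g.good c.pA (h1 f hf)).h1 c.pA (h1 f hf) inf_le_right o a
      · exact (comm_le_left le_rfl a).trans (h f hf f1 g _ inf_le_right o
          (le_normalizer_inf ((h2 e he).trans (le_n_oc _)) ((h2 f hf).trans le_normalizer))))
    fun f hf f1 => by
      by_cases g : Sol A A C1[f]
      · exact (g.good c.pA (h1 f hf)).h2
      · exact h f hf f1 g _ inf_le_right (odd_of_le (odd_oc _) inf_le_left) (le_normalizer_inf
          ((hP.trans (centralizer_mono le_sup_left)).trans (le_n_oc _)) ((h2 f hf).trans le_normalizer))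
  exact c.nse M hM

theorem case1 : False := by
  have := c.simple
  have h4 : Nat.card A ≤ 4 := by
    by_contra h
    obtain ⟨k, e⟩ := c.pA.exists_card_eq
    refine c.not_good (e ▸ Nat.pow_le_pow_right two_pos ?_) fun a => c.good1 hc
    by_contra h3
    exact h (e ▸ Nat.pow_le_pow_right two_pos (show k ≤ 2 by omega))
  by_cases h0 : ∃ p : G × Subgroup G, p.1 * p.1 = 1 ∧ p.1 ≠ 1 ∧ IsSylowIn 2 p.2 C1[p.1] ∧ A ≤ p.2 ∧ ¬ Sol A A C1[p.1]
  swap
  · obtain ⟨S, hS⟩ := c.pA.exists_le_sylow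
    have h1 := hc S S.isPGroup' hS
    by_cases h2 : ∃ t ∈ (S : Subgroup G), t * t = 1 ∧ t ∉ A
    · obtain ⟨t, ht, t2, tA⟩ := h2
      have hE := elemAb_sup c.el (elemAb_zpowers (x := t) (by rw [sq, t2]))
        (le_centralizer_symm (zpowers_le.2 (h1 ht)))
      refine c.end_t hc t2 tA (h1 ht) bot_le fun f hf f1 g => ?_
      obtain ⟨P, h3, h4⟩ := exists_isSylowIn_ge c.pA
        (le_sup_left.trans (le_c1_iff.2 (le_C_of_comm hE.1 le_rfl hf)) : A ≤ C1[f])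
      exact (h0 ⟨(f, P), esq hE hf, f1, h3, h4, g⟩).elim
    push Not at h2
    rcases se_two c.nab S (fun e => not_isCyclic_of_four (fun a ha => esq c.el ha) c.four (FT.isCyclic_of_le
      ((((center S).equivMapOfInjective _ (S : Subgroup G).subtype_injective).isCyclic).1 e)
      (by rw [map_subtype_center]; exact le_inf hS (le_centralizer_symm h1)))) (fun E a b => by
        obtain ⟨g, -, e⟩ := (IsSylowIn.of_sylow_top S).exists_conj_le (elemAb_isPGroup ⟨a, b⟩) le_top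
        rw [← card_conj g]
        refine (card_le_of_le ?_).trans h4
        rintro _ ⟨x, hx, rfl⟩
        exact h2 _ (e ⟨x, hx, rfl⟩) (sq_conj (esq ⟨a, b⟩ hx) g)) with e | ⟨M, hM⟩
    · exact c.nab2 S (.of_sylow_top S) ((eq_of_le_of_card_ge hS (e ▸ c.four)) ▸ h1)
    · exact c.nse M hM
  obtain ⟨⟨t, P⟩, ⟨t2, t1, hP, hA, bad⟩, hm⟩ := Set.exists_max_image _ (fun p : G × Subgroup G => Nat.card p.2)
    (Set.toFinite _) h0
  dsimp only at *
  have mx : ∀ f, f * f = 1 → f ≠ 1 → P ≤ C1[f] → ¬ Sol A A C1[f] → IsSylowIn 2 P C1[f] := fun f f2 f1 h1 g => by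
    obtain ⟨Q, h2, h3⟩ := exists_isSylowIn_ge hP.isPGroup h1
    exact h2.of_card_ge hP.isPGroup h1 (hm (f, Q) ⟨f2, f1, h2, hA.trans h3, g⟩)
  have hPA := hc P hP.isPGroup hA
  have tA : t ∉ A := fun e => bad (c.good1 hc e t1)
  rcases c.tri (c.c1_ne t1 t2) hP hA le_rfl with h | ⟨J, h, h1⟩ | h
  · exact bad h
  · obtain ⟨S, hS, h2⟩ := exists_isSylowIn_ge hP.isPGroup le_top
    obtain ⟨k, p⟩ := h.pr c.el inf_le_right le_rfl (hPA.trans (centralizer_mono h.VA))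
    rw [eq_of_le_of_card_ge h.VA (h4.trans h.four)] at p
    have tP : t ∈ P := hP.le_of_normalizes (isPGroup_sq t2) (zpowers_le.2 (mem_C1_self t))
      (hP.le.trans ((centralizer_zpowers t).ge.trans (centralizer_le_normalizer _))) (mem_zpowers t)
    refine C4.false ⟨c, h4, fun a => c.good1 hc, hS, h2, hc S hS.isPGroup (hA.trans h2), h.abel hPA, p,
      fun r hr r2 r1 => ?_, fun e => t1 (e.le ⟨tP, le_cz_of_c h.cmp.le (centralizer_zpowers t).ge
        (zpowers_le.2 (mem_C1_self t)) (mem_zpowers t)⟩)⟩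
    have h3 : P ≤ C1[r] := le_c1_iff.2 (h.abel hPA hr.1)
    exact ((mx r r2 r1 h3 (p.not_sol c.pA (hA.trans h3) (le_c1_iff.2 (le_centralizer_symm p.LR hr)))).maximal _
      hS.isPGroup.to_inf_left inf_le_right (le_inf h2 h3)).le
  have h1 : P ≤ C[A ⊔ zpowers t] := by
    rw [centralizer_sup, centralizer_zpowers]; exact le_inf hPA hP.le
  have hE := elemAb_sup c.el (elemAb_zpowers (x := t) (by rw [sq, t2]))
    (by rw [centralizer_zpowers]; exact hA.trans hP.le)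
  refine c.end_t hc t2 tA (le_c1_iff.1 (hA.trans hP.le)) h1 fun f hf f1 g => ?_
  rcases c.tri (c.c1_ne f1 (esq hE hf)) (mx f (esq hE hf) f1 (le_c1_iff.2 (le_centralizer_symm h1 hf)) g) hA le_rfl
    with e | ⟨J, e, -⟩ | e
  exacts [(g e).elim, (h.nc (e.abel hPA)).elim, e.odd hPA]

end Cx

end Cfsg.Lib.AbInt
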