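import Cfsg.Agent.Lib.AbInt.NA
import Cfsg.Agent.Lib.Walter.W4a

/-!
# The structure of proper overgroups of the strongly closed subgroup
-/

set_option autoImplicit false
set_option linter.unusedSectionVars false

namespace Cfsg.Lib.AbInt
open Subgroup Cfsg Cfsg.Lib Cfsg.Lib.FT Cfsg.Lib.R1 Cfsg.Lib.Wal Cfsg.Lib.GW
open scoped commutatorElement

universe u

variable {G : Type u} [Group G] [Finite G] {A X P J D H V R L : Subgroup G} {h : G}

/-- a minimal counterexample -/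
structure Cx (A : Subgroup G) : Prop where
  simple : IsSimpleGroup G
  nab : ¬ IsMulCommutative G
  ai : AI G
  ih : IH.{u} (Nat.card G)
  scl : SCl A
  el : IsElementaryAbelian 2 A
  ne : A ≠ ⊥
  irr : ∀ D ≤ A, N[A] ≤ N[D] → D = ⊥ ∨ D = A
  nse : ∀ M : Subgroup G, ¬ IsStronglyEmbedded M
  nab2 : ∀ S : Subgroup G, Syl S → ¬ S ≤ C[S]

/-- the conjugates of `D` in `X` lie in `O(X) A` -/
def Sol (A D X : Subgroup G) : Prop := ∀ x ∈ X, ∀ d ∈ D, x * d * x⁻¹ ∈ O[X] ⊔ A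

/-- a component with abelian Sylow 2-subgroups -/
structure Ab (A X P J : Subgroup G) : Prop where
  cmp : Cmp X J
  pg : IsPGroup 2 P
  le : P ≤ X
  VA : J ⊓ P ≤ A
  syl : IsSylowIn 2 (J ⊓ P) J
  dec : ∀ y ∈ P, y ∈ C[J ⊓ P] → ∃ v ∈ J ⊓ P, v⁻¹ * y ∈ cz X J
  cm : P ⊓ cz X J ≤ C[P ⊓ cz X J]
  four : 4 ≤ Nat.card ↥(J ⊓ P)
  tor : ∀ L ≤ J, J ≤ O[X] ⊔ L → J ⊓ P ≤ L → ∃ h ∈ L ⊓ N[J ⊓ P], Trans h (J ⊓ P)

/-- a component with non-abelian Sylow 2-subgroups -/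
structure NA (A X P : Subgroup G) : Prop where
  nc : ¬ P ≤ C[P]
  n1 : P ≤ C[A] → (∃ x ∈ A ⊓ ⁅P, P⁆, x ≠ 1) ∧ ∀ z ∈ ⁅P, P⁆, X ≤ C1[z] → z = 1
  odd : P ≤ C[A] → ∀ W ≤ X, Odd (Nat.card W) → P ≤ N[W] → W ≤ O[X]
  n2 : P ⊓ C[A] ≤ C[P ⊓ C[A]] → N2 (P ⊓ C[A]) P

/-- the data attached to a component with abelian Sylow 2-subgroups -/
structure Pr (A H V R L : Subgroup G) (h : G) : Prop where
  tor : Tor H V R h
  VA : V ≤ A
  hL : h ∈ L
  LR : L ≤ C[R]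
  syl : IsSylowIn 2 V L
  gen : o2 L = L
  ns : ¬ Group.IsSolvable L

theorem four_le_card (el : IsElementaryAbelian 2 A) {a b : G} (ha : a ∈ A) (hb : b ∈ A) (a1 : a ≠ 1) (b1 : b ≠ 1)
    (e : b ≠ a) : 4 ≤ Nat.card A :=
  (Four.card ⟨ord2 a1 (esq el ha), ord2 b1 (esq el hb), e, comm_of_isMulCommutative el.1 hb ha⟩).ge.trans
    (card_le_of_le (four_le_iff.2 ⟨ha, hb⟩))

theorem Sol.good (s : Sol A A X) (h2 : IsPGroup 2 A) (hA : A ≤ X) : Good A X := by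
  have hn := hA.trans (le_n_oc X)
  have := (isSylowIn_sup_of_odd h2 (not_two_dvd (odd_oc X)) hn).le_sup_normalizer (sup_le hA (oc_le X))
    fun x hx => mN fun y hy => by
      obtain ⟨a, ha, o, ho, rfl⟩ := (mem_sup_of_le_normalizer' hn).1 hy
      rw [← conj_mul]
      exact mul_mem (sup_comm O[X] A ▸ s x hx a ha) (mem_sup_right (cN (le_n_oc X hx) ho))
  exact this.trans (sup_le (sup_le (le_sup_of_le_right (le_inf hA le_normalizer)) le_sup_left) le_sup_right)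

theorem Pr.not_sol (p : Pr A H V R L h) (h2 : IsPGroup 2 A) (hA : A ≤ X) (hL : L ≤ X) : ¬ Sol A V X := fun s =>
  p.ns (isSolvable_of_le (p.gen.ge.trans (o2_le_of_forall p.syl fun g hg v hv => by
    rw [mem_map_conj]; simpa using s _ (inv_mem (hL hg)) v hv)) (by
      rw [sup_comm]
      exact isSolvable_sup_of_le_normalizer (hA.trans (le_n_oc X)) (isSolvable_of_isPGroup h2) (odd_solv (odd_oc X))))

theorem Pr.conj (p : Pr A H V R L h) {g : G} (h1 : g ∈ N[A]) (h2 : g ∈ N[H]) :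
    Pr A H (g •ᶜ V) (g •ᶜ R) (g •ᶜ L) (g * h * g⁻¹) :=
  ⟨conj_eq_iff_mem_normalizer.2 h2 ▸ p.tor.conj g, map_conj_le_of_mem_normalizer p.VA h1, conj_mem_conj p.hL g,
    conj_centralizer g R ▸ map_mono p.LR, p.syl.map_conj g, by rw [o2_conj, p.gen],
    fun e => p.ns (isSolvable_conj_iff.1 e)⟩

theorem Ab.eq_one (a : Ab A X P J) {x : G} (h1 : x ∈ J ⊓ P) (h2 : x ∈ cz X J) : x = 1 :=
  mem_bot.1 (inf_eq_bot_of_odd a.pg (odd_oc X) ▸ mem_inf.2 ⟨h1.2, a.cmp.inf_cz ▸ mem_inf.2 ⟨h1.1, h2⟩⟩)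

theorem Ab.pr (a : Ab A X P J) (el : IsElementaryAbelian 2 A) (h1 : J ⊓ P ≤ H) (h2 : H ≤ P) (h3 : H ≤ C[J ⊓ P]) :
    ∃ h, Pr A H (J ⊓ P) (H ⊓ cz X J) (o2 (J ⊓ C[H ⊓ cz X J])) h := by
  have hc := a.cmp
  have h4 : o2 (J ⊓ C[H ⊓ cz X J]) ≤ J := (pGen_le _).trans inf_le_left
  have h5 : J ⊓ P ≤ o2 (J ⊓ C[H ⊓ cz X J]) := le_pGen_of_isPGroup a.pg.to_inf_right
    (le_inf inf_le_left (le_centralizer_symm (inf_le_left.trans h3)))
  have h6 : J ≤ O[X] ⊔ o2 (J ⊓ C[H ⊓ cz X J]) := by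
    obtain ⟨Y, _, _, f, q⟩ := exists_qh X
    have b1 : H ⊓ cz X J ≤ X := inf_le_right.trans (cz_le X J)
    have b2 : H ⊓ cz X J ≤ N[J] := inf_le_right.trans hc.cz_le_n
    obtain ⟨b3, b4⟩ := hc.simple_im hc.le (q.inf_ker hc)
    rw [sup_comm, ← q.ker, ← im_le_iff hc.le (h4.trans hc.le), im_o2 (inf_le_left.trans hc.le),
      ← im_inf_centralizer b1 hc.le b2 (copAct (a.pg.to_le (inf_le_left.trans h2)) (q.odd' J)
        (le_normalizer_inf b2 (b1.trans le_normalizer_kr))),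
      inf_eq_left.2 (le_centralizer_symm ((q.le_cz hc.le b1).1 inf_le_right)), o2_of_simple b3 b4]
  obtain ⟨h, hh, ht⟩ := a.tor _ h4 h6 h5
  refine ⟨h, ⟨h1, inf_le_left, fun v hv => esq el (a.VA hv), a.four, (eq_bot_iff_forall _).2 fun x hx =>
    a.eq_one hx.1 hx.2.2, le_antisymm (sup_le h1 inf_le_left) fun y hy => ?_, hh.2,
    le_c1_iff.2 (pGen_le _ hh.1).2, ht⟩, a.VA, hh.1, (pGen_le _).trans inf_le_right, a.syl.mono h5 h4,
    pGen_pGen _, hc.not_solv h6 (h4.trans hc.le)⟩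
  obtain ⟨v, hv, e⟩ := a.dec y (h2 hy) (h3 hy)
  exact mem_of_mem_of_eq (mul_mem (mem_sup_left hv) (mem_sup_right ⟨H.mul_mem (H.inv_mem (h1 hv)) hy, e⟩)) (by group)

section
variable {Y : Type u} [Group Y] [Finite Y] {f : X →* Y} (q : QH X f) (hP : IsSylowIn 2 P X)
include q hP

theorem inj {x : G} (hx : x ∈ P) (e : bar f x = 1) : x = 1 :=
  mem_bot.1 (inf_eq_bot_of_odd hP.isPGroup q.odd ▸ mem_inf.2 ⟨hx, (bar_eq_one_iff (hP.le hx)).1 e⟩)

theorem mem_C_of {U : Subgroup G} (hU : U ≤ P) {x : G} (hx : x ∈ P) (e : bar f x ∈ C[im f U]) : x ∈ C[U] :=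
  mC fun y hy => by
    have a := hP.le hx
    have b := hP.le (hU hy)
    refine commutatorElement_eq_one_iff_mul_comm.1 (inj q hP (mul_mem (cI (hU hy) hx) (inv_mem hx)) ?_)
    rw [commutatorElement_def, bar_mul (cI b a) (inv_mem a), bar_conj b a, bar_inv a, cC e (bar_mem_im hy b)]; group

theorem im_C {U : Subgroup G} (hU : U ≤ P) : im f (P ⊓ C[U]) = im f P ⊓ C[im f U] :=
  le_antisymm (le_inf (im_mono inf_le_left) (im_le_centralizer inf_le_right)) fun y hy => by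
    obtain ⟨x, hx, a, rfl⟩ := mem_im.1 hy.1
    exact bar_mem_im ⟨hx, mem_C_of q hP hU hx hy.2⟩ a

theorem mem_of_im {U : Subgroup G} (hU : U ≤ P) {x : G} (hx : x ∈ P) (e : bar f x ∈ im f U) : x ∈ U := by
  obtain ⟨y, hy, a, e⟩ := mem_im.1 e
  rwa [← mul_inv_eq_one.1 (inj q hP (mul_mem (hU hy) (inv_mem hx)) (by
    rw [bar_mul a (inv_mem (hP.le hx)), bar_inv (hP.le hx), e, mul_inv_cancel]))]

theorem card_im' {U : Subgroup G} (hU : U ≤ P) : Nat.card (im f U) = Nat.card U :=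
  card_im_of_inf_eq_bot (hU.trans hP.le) (inf_eq_bot_of_odd (hP.isPGroup.to_le hU) q.odd)

theorem im_pb {U : Subgroup Y} (hU : U ≤ im f P) : im f (P ⊓ pre f U) = U :=
  le_antisymm ((le_pre_iff (inf_le_left.trans hP.le)).1 inf_le_right) fun y hy => by
    obtain ⟨x, hx, a, rfl⟩ := mem_im.1 (hU hy)
    exact bar_mem_im ⟨hx, mem_pre.2 ⟨a, hy⟩⟩ a

theorem N2.pull (hH : H ≤ P) (n : N2 (im f H) (im f P)) : N2 H P := by
  obtain ⟨U', h1, h2, h3, h4, b, hb', h5, h6, h7⟩ := n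
  obtain ⟨U, hU, rfl⟩ : ∃ U ≤ P, im f U = U' := ⟨_, inf_le_left, im_pb q hP h2⟩
  have a1 : H ≤ U := fun x hx => mem_of_im q hP hU (hH hx) (h1 (bar_mem_im hx (hP.le (hH hx))))
  obtain ⟨b, hb, a2, rfl⟩ := mem_im.1 hb'
  rw [← bar_mul a2 a2] at h6 h7
  refine ⟨U, a1, hU, fun x hx a ha => ?_, ?_, b, hb, fun e => h5 (bar_mem_im e a2),
    mem_of_im q hP hH (hU (mul_mem hb hb)) h6, fun e => h7 (im_le_centralizer le_rfl (bar_mem_im e (mul_mem a2 a2)))⟩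
  · have c1 := hP.le (hH hx)
    have c2 := hP.le (hU ha)
    refine mem_C_of q hP hU (mul_mem (cI (hU ha) (hH hx)) (inv_mem (hH hx))) ?_
    rw [bar_mul (cI c2 c1) (inv_mem c1), bar_conj c2 c1, bar_inv c1]
    exact h3 _ (bar_mem_im hx c1) _ (bar_mem_im ha c2)
  · rw [card_im' q hP hH, card_im' q hP hU] at h4
    refine h4.trans (Nat.mul_le_mul_left _ ?_)
    rw [← card_im' q hP (inf_le_left.trans hH : H ⊓ C[U] ≤ P)]
    refine card_le_of_le fun y hy => ?_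
    obtain ⟨x, hx, a, rfl⟩ := mem_im.1 hy.1
    exact bar_mem_im ⟨hx, mem_C_of q hP hU (hH hx) hy.2⟩ a

theorem im_inf_pre (K : Subgroup Y) : im f (pre f K ⊓ P) = K ⊓ im f P :=
  le_antisymm (le_inf ((le_pre_iff (inf_le_right.trans hP.le)).1 inf_le_left) (im_mono inf_le_right)) fun y hy => by
    obtain ⟨x, hx, a, rfl⟩ := mem_im.1 hy.2
    exact bar_mem_im ⟨mem_pre.2 ⟨a, hy.1⟩, hx⟩ a

variable (c : Cx A) (hA : A ≤ P)
include c hA

theorem Cx.cr : Cr (im f P) (im f A) :=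
  ⟨(c.ai.subgroup X).of_surjective q.surj, by rw [← oc_top, ← im_self q.surj, ← im_oc le_rfl q.odd, ← q.ker, im_kr],
    im_syl q.surj hP, im_mono hA, (c.scl.subgroupOf (hA.trans hP.le)).map (elemAb_isPGroup c.el).comap_subtype f q.surj
      (card_kr (f := f) ▸ not_two_dvd q.odd), elem_im c.el⟩

theorem Cx.ab {K : Subgroup Y} (hK : IsComponent K) (hB : ¬ im f A ⊓ K ≤ C[K])
    (h : K ⊓ im f P ≤ C[K ⊓ im f P]) : Ab A X P (pre f K) := by
  have r := c.cr q hP hA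
  have hJ := pre_le (f := f) K
  have e0 := im_pre q.surj K
  have e1 := im_inf_pre q hP K
  have h0 : O[X] ≤ pre f K := (le_pre_iff (oc_le X)).2 (by rw [← q.ker, im_kr]; exact bot_le)
  have hc : Cmp X (pre f K) := by
    refine ⟨hJ, h0, ?_, fun h => hK.2.not_isSolvable (e0 ▸ isSolvable_im h hJ), fun N h1 h2 h3 => ?_⟩
    · rw [pre, subgroupOf_map_subtype_eq]; exact hK.1.comap f
    · have h4 := h2.trans hJ
      have h5 : pre f (im f N) = N := by rw [GW.pre_im h4, q.ker, sup_eq_left.2 h1]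
      refine (eq_or_of_simple (r.simple hK hB h) ((le_pre_iff h4).1 h2)
        (e0 ▸ im_le_normalizer h4 h3)).imp (fun e => le_antisymm ?_ h1) fun e => by rw [← h5, e]
      rwa [im_eq_bot_iff h4, q.ker] at e
  have hV : pre f K ⊓ P ≤ X := inf_le_left.trans hJ
  obtain ⟨-, h2, k, hk, h3⟩ := (r.wl hK hB h).tor_sub (r.sylK hK)
  refine ⟨hc, hP.isPGroup, hP.le, fun x hx => mem_of_im q hP hA hx.2 (r.ab_le hK hB h (e1.le (bar_mem_im hx (hV hx)))),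
    isPiHallOf_singleton_iff.1 ((isPiHallOf_subgroupOf_iff hV hJ).1
      (isPiHallOf_singleton_iff.2 (sylow_inf_sub (sylow_sub hP) hc.sub))), fun y hy h1 => ?_, fun x hx => ?_,
    by rwa [← e1, card_im' q hP inf_le_right] at h2, fun L h4 h5 h6 => ?_⟩
  · obtain ⟨v', hv', e⟩ := r.dec hK hB h (bar_mem_im hy (hP.le hy))
      (e1 ▸ im_le_centralizer le_rfl (bar_mem_im h1 (hP.le hy)))
    obtain ⟨v, hv, a, rfl⟩ := mem_im.1 (e1.ge hv')
    exact ⟨v, hv, by rwa [q.mem_cz hJ (mul_mem (inv_mem a) (hP.le hy)), e0, bar_mul (inv_mem a) (hP.le hy), bar_inv a]⟩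
  · refine mem_C_of q hP inf_le_left hx.1 (mC fun y hy' => ?_)
    obtain ⟨y, hy, a, rfl⟩ := mem_im.1 hy'
    exact r.cm hK ⟨bar_mem_im hy.1 a, e0 ▸ (q.mem_cz hJ a).1 hy.2⟩
      ⟨bar_mem_im hx.1 (hP.le hx.1), e0 ▸ (q.mem_cz hJ (hP.le hx.1)).1 hx.2⟩
  · rw [← e1] at hk h3
    obtain ⟨l, hl, rfl⟩ := exists_lift_n hP.isPGroup.to_inf_right h6 (h4.trans hJ) (q.odd' _)
      ((q.im_eq hc h4 h5).trans e0 ▸ hk.1) hk.2
    exact ⟨l, hl, trans_of_im hV (inf_eq_bot_of_odd hP.isPGroup.to_inf_right q.odd) (hJ (h4 hl.1)) hl.2 h3⟩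

theorem Cx.na (hX : X ≠ ⊤) {K : Subgroup Y} (hK : IsComponent K) (hB : ¬ im f A ⊓ K ≤ C[K])
    (h : ¬ K ⊓ im f P ≤ C[K ⊓ im f P]) : NA A X P := by
  have r := c.cr q hP hA
  have hn : Nat.card Y < Nat.card G := (Nat.card_le_card_of_surjective f q.surj).trans_lt (pg_card_subgroup_lt hX)
  have h6 := commutator_le_self P
  refine ⟨fun e => h (inf_le_right.trans ((im_le_centralizer e).trans (centralizer_mono inf_le_right))),
    fun e => ?_, fun e W h1 h2 h3 => ?_, fun e => N2.pull q hP inf_le_left ?_⟩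
  · obtain ⟨⟨x, hx, x1⟩, h2⟩ := r.n1 hK hB c.ih hn h (im_le_centralizer e)
    rw [← im_commutator hP.le hP.le] at hx h2
    obtain ⟨y, hy, a, rfl⟩ := mem_im.1 hx.2
    exact ⟨⟨y, ⟨mem_of_im q hP hA (h6 hy) hx.1, hy⟩, fun e => x1 (by rw [e, bar_one])⟩, fun z hz h3 =>
      inj q hP (h6 hz) (h2 _ (bar_mem_im hz (hP.le (h6 hz))) (le_c1_iff.1 (le_top.trans
        ((im_self q.surj).ge.trans (im_le_c1 (hP.le (h6 hz)) h3)))))⟩
  · rw [← q.ker, ← im_eq_bot_iff h1]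
    exact r.odd_bot hK hB c.ih hn h (im_le_centralizer e) (odd_im h2) (im_le_normalizer h1 h3)
  · have := im_le_centralizer (f := f) e
    rw [im_C q hP hA] at this ⊢
    exact r.n2 hK hB c.ih hn h this

end

namespace Cx
variable (c : Cx A)
include c

theorem pA : IsPGroup 2 A := elemAb_isPGroup c.el

theorem tri (hX : X ≠ ⊤) (hP : IsSylowIn 2 P X) (hA : A ≤ P) (hD : D ≤ A) :
    Sol A D X ∨ (∃ J, Ab A X P J ∧ ¬ D ≤ cz X J) ∨ NA A X P := by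
  obtain ⟨Y, _, _, f, q⟩ := exists_qh X
  have r := c.cr q hP hA
  have hAX := hA.trans hP.le
  by_cases h1 : ∀ K, IsComponent K → im f D ≤ C[K]
  · refine Or.inl fun x hx d hd => ?_
    have h2 := bar_mem_im (f := f) (hD hd) (hAX (hD hd))
    rw [sup_comm, ← q.ker, ← bar_mem_im_iff (cI hx (hAX (hD hd))) hAX, bar_conj hx (hAX (hD hd))]
    exact scl_mem r.scl r.pT r.le h2 (r.syl.le_of_normalizes isPGroup_pCore le_top le_normalizer_of_normal
      (Normal.conj_mem inferInstance _ (r.core ⟨h2, le_centralizer_symm (sSup_le fun K hK =>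
        le_centralizer_symm (h1 K hK)) (bar_mem_im hd (hAX (hD hd)))⟩) _))
  push Not at h1
  obtain ⟨K, hK, h1⟩ := h1
  have hB : ¬ im f A ⊓ K ≤ C[K] := fun e => h1 ((im_mono hD).trans (r.cen hK e))
  by_cases h2 : K ⊓ im f P ≤ C[K ⊓ im f P]
  · exact .inr (.inl ⟨_, c.ab q hP hA hK hB h2, fun e => h1 (im_pre q.surj K ▸
      (q.le_cz (pre_le K) (hD.trans hAX)).1 e)⟩)
  · exact .inr (.inr (c.na q hP hA hX hK hB h2))

theorem le_n (hA : A ≤ X) (hc : Cmp X J) : A ≤ N[J] := by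
  obtain ⟨Y, _, _, f, q⟩ := exists_qh X
  obtain ⟨P, hP, h1⟩ := exists_isSylowIn_ge c.pA hA
  exact q.le_n hc hA ((c.cr q hP h1).nK (q.comp hc))

theorem ne_top (h2 : IsPGroup 2 D) (h0 : D ≠ ⊥) : N[D] ≠ ⊤ :=
  have := c.simple
  not_normal c.nab (isSolvable_of_isPGroup h2) h0

theorem c1_ne {t : G} (h1 : t ≠ 1) (h2 : t * t = 1) : C1[t] ≠ ⊤ := fun e =>
  c.ne_top (isPGroup_sq h2) (by simpa using h1) (top_le_iff.1 (e.ge.trans
    ((centralizer_zpowers t).ge.trans (centralizer_le_normalizer _))))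

theorem not_idx (N : Subgroup G) : N.index ≠ 2 :=
  have := c.simple
  Big.index_ne_two_of_simple c.nab N

theorem four : 4 ≤ Nat.card A := by
  have := c.simple
  by_contra h4
  obtain ⟨S, hS⟩ := c.pA.exists_le_sylow
  obtain ⟨a, ha, a1⟩ := (bot_or_exists_ne_one A).resolve_left c.ne
  refine c.c1_ne a1 (esq c.el ha) (eq_top_iff.2 fun g _ => mem_C1.2 (mem_center_iff.1 (zstar_center
    (Big.oddCore_eq_bot_of_simple c.nab) (c.el.2 a ha) (isIsolated_of_sylow S (hS ha) fun g hg => ?_)) g))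
  by_contra e
  have hb := scl_mem c.scl S.isPGroup' hS ha hg
  exact h4 (four_le_card c.el ha hb a1 (conj_ne_one a1) e)

/-- all centralizers are good: the endgame -/
theorem not_good (h8 : 2 ^ 3 ≤ Nat.card A) (hg : ∀ a ∈ A, a ≠ 1 → Sol A A C1[a]) : False := by
  have := c.simple
  have h1 : ∀ a ∈ A, A ≤ C1[a] := fun a ha => le_c1_iff.2 (le_C_of_comm c.el.1 le_rfl ha)
  have h2 : ∀ a ∈ A, a ≠ 1 → Good A C1[a] := fun a ha a1 => (hg a ha a1).good c.pA (h1 a ha)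
  obtain ⟨M, hM⟩ := endgame c.nab c.scl c.four c.el le_rfl h8 h2 (fun e he f hf f1 => (h2 f hf f1).h1 c.pA (h1 f hf)
    inf_le_right (odd_of_le (odd_oc _) inf_le_left) (le_normalizer_inf ((h1 e he).trans (le_n_oc _))
      ((h1 f hf).trans le_normalizer))) fun f hf f1 => (h2 f hf f1).h2
  exact c.nse M hM

end Cx

end Cfsg.Lib.AbInt
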