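import Cfsg.Agent.Lib.AbInt.One

/-!
# The case of a non-central strongly closed subgroup: the essential subgroup `C_S(A)`
-/

set_option autoImplicit false
set_option linter.unusedSectionVars false

namespace Cfsg.Lib.AbInt
open Subgroup Cfsg Cfsg.Lib Cfsg.Lib.FT Cfsg.Lib.R1 Cfsg.Lib.Wal Cfsg.Lib.GW
open scoped commutatorElement

universe u

variable {G : Type u} [Group G] [Finite G] {A S H X P D : Subgroup G}

/-- `A` is not central in a Sylow 2-subgroup; `H = C_S(A)` -/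
structure C2 (A S H : Subgroup G) : Prop extends Cx A where
  nc : ∀ S', Syl S' → A ≤ S' → ¬ S' ≤ C[A]
  syl : Syl S
  le : A ≤ S
  eq : S ⊓ C[A] = H

namespace C2
variable (c : C2 A S H)
include c

theorem pS : IsPGroup 2 S := c.syl.isPGroup
theorem SA : S ≤ N[A] := c.scl.le_normalizer c.pS c.le
theorem HS : H ≤ S := c.eq ▸ inf_le_left
theorem HC : H ≤ C[A] := c.eq ▸ inf_le_right
theorem AH : A ≤ H := c.eq ▸ le_inf c.le (le_C_of_comm c.el.1 le_rfl)
theorem pH : IsPGroup 2 H := c.pS.to_le c.HS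
theorem NS : N[S] ≤ N[A] := NB c.scl c.pS c.le
theorem NH : N[H] ≤ N[A] := NB c.scl c.pH c.AH
theorem NSH : N[S] ≤ N[H] := c.eq ▸ le_normalizer_inf le_rfl (c.NS.trans (normalizer_le_normalizer_centralizer _))
theorem SH : S ≤ N[H] := le_normalizer.trans c.NSH
theorem nle : ¬ S ≤ H := fun e => c.nc S c.syl c.le (e.trans c.HC)

theorem sylC : IsSylowIn 2 H C[A] :=
  c.eq ▸ (c.syl.mono c.SA le_top).inf_of_le_normalizer (centralizer_le_normalizer _)
    (normalizer_le_normalizer_centralizer _)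

theorem irr' (hD : D ≤ A) (h : N[H] ≤ N[D]) : D = ⊥ ∨ D = A :=
  c.irr D hD ((c.sylC.le_sup_normalizer (centralizer_le_normalizer _) (normalizer_le_normalizer_centralizer _)).trans
    (sup_le ((centralizer_mono hD).trans (centralizer_le_normalizer _)) (inf_le_right.trans h)))

theorem exists_z : ∃ z ∈ A, orderOf z = 2 ∧ z ∈ C[S] := pg_exists_fixed_of_order_p c.pA c.pS c.SA c.ne

theorem key : ¬ N[H] ≤ C[A] ⊔ N[S] := fun e => by
  obtain ⟨z, hz, z2, h⟩ := c.exists_z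
  rcases c.irr' (inf_le_left : A ⊓ C[S] ≤ A) (e.trans (sup_le ((centralizer_mono inf_le_left).trans
    (centralizer_le_normalizer _)) (le_normalizer_inf c.NS (normalizer_le_normalizer_centralizer _)))) with h1 | h1
  · exact ne1 z2 (h1.le ⟨hz, h⟩)
  · exact c.nc S c.syl c.le (le_centralizer_symm (h1.ge.trans inf_le_right))

theorem ab : H ≤ C[H] := by
  by_contra e
  exact c.key (le_sup_of_le_right (c.ai.N_le c.syl c.HS e))

theorem cm {x y : G} (hx : x ∈ H) (hy : y ∈ H) : x * y = y * x := cC (c.ab hy) hx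
theorem comm : IsMulCommutative H := isMulCommutative_iff_le_centralizer.2 c.ab
theorem cen {x : G} (hx : x ∈ S) (h : x ∈ C[H]) : x ∈ H := c.eq.le ⟨hx, centralizer_mono c.AH h⟩
theorem R_eq : S ⊓ N[H] = S := inf_eq_left.2 c.SH

theorem ess : Ess S H := by
  refine ⟨c.ai, c.syl, c.HS, c.ab, c.R_eq.symm ▸ c.syl.mono c.SH le_top, fun x hx => c.cen hx.1 hx.2,
    fun e => c.key fun n hn => ?_⟩
  rw [c.R_eq] at e
  obtain ⟨k, hk, h⟩ := (c.syl.mono le_sup_left le_top).exists_mul_mem_normalizer (e hn)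
  exact (mul_mem_cancel_left (inv_mem (sup_le (le_sup_of_le_right le_normalizer)
    (le_sup_of_le_left (centralizer_mono c.AH)) hk))).1 (mem_sup_right h)

theorem ti {x g : G} (hx : x ∈ S) (h1 : x ∉ H) (hg : g ∈ N[H]) (h2 : g * x * g⁻¹ ∈ S ⊔ C[H]) : g ∈ N[S ⊔ C[H]] := by
  have := c.ess.ti ⟨hx, c.SH hx⟩ h1 hg
  rw [c.R_eq] at this
  exact this h2

theorem ess_eq {K : Subgroup G} (e : Ess S K) : K = H := by
  have h1 : A ≤ K := by
    by_contra h
    obtain ⟨x, hx, h1, h2⟩ := exists_mem_normalizer_not_mem_of_lt_pgroup (c.pS.to_le (sup_le c.le e.le))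
      (right_lt_sup.2 h)
    obtain ⟨a, ha, k, hk, rfl⟩ := (mem_sup_of_le_normalizer_left (e.le.trans c.SA)).1 hx
    rw [mul_mem_cancel_right (le_normalizer hk)] at h1
    rw [mul_mem_cancel_right hk] at h2
    refine e.nrm (inf_le_right : A ⊓ K ≤ K) le_rfl (fun _ h _ => h) (fun g hg => mN fun y hy => ?_) le_rfl
      ⟨c.le ha, h1⟩ h2 (le_C_of_comm c.el.1 inf_le_left ha) fun y hy => ⟨?_, K.mul_mem (cN h1 hy) (K.inv_mem hy)⟩
    · exact ⟨scl_mem c.scl c.pS c.le hy.1 (e.le (cN hg hy.2)), cN hg hy.2⟩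
    · exact mem_of_mem_of_eq (A.mul_mem ha (cN (c.SA (e.le hy)) (A.inv_mem ha))) (by group)
  have h2 : K ≤ H := c.eq ▸ le_inf e.le (e.comm.trans (centralizer_mono h1))
  exact le_antisymm h2 ((le_inf c.HS (c.ab.trans (centralizer_mono h2))).trans e.cen)

theorem not2 {s : G} (hs : s ∈ S) (h1 : s ∉ H) : ∃ t ∈ S, t ∉ H ∧ t * s ∉ H := by
  by_contra h
  push Not at h
  refine not_scl_two c.not_idx c.syl c.HS (c.ai.scl c.syl c.HS c.NSH fun K e g hg x hx _ => ?_) hs h1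
    fun x hx y hy x1 y1 => mem_of_mem_of_eq (mul_mem (mul_mem (h x hx x1) (cN' (c.SH hs) (h y hy y1)))
      (inv_mem (h s hs h1))) (by group)
  rw [c.ess_eq e] at hg hx
  exact cN hg hx

theorem eight : 2 ^ 3 ≤ Nat.card A := by
  by_contra h
  have h4 : Nat.card A ≤ 4 := by
    obtain ⟨k, e⟩ := c.pA.exists_card_eq
    rw [e, Nat.pow_le_pow_iff_right one_lt_two] at h
    exact e ▸ Nat.pow_le_pow_right two_pos (show k ≤ 2 by omega)
  obtain ⟨z, hz, z2, h1⟩ := c.exists_z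
  obtain ⟨a, ha, h2⟩ : ∃ a ∈ A, a ∉ zpowers z := SetLike.not_le_iff_exists.1 fun e => by
    have := c.four.trans (card_le_of_le e)
    rw [Nat.card_zpowers, z2] at this
    omega
  have f : Four z a := ⟨z2, ord2 (fun e => h2 (e ▸ one_mem _)) (esq c.el ha), fun e => h2 (e ▸ mem_zpowers _),
    comm_of_isMulCommutative c.el.1 ha hz⟩
  have e := eq_of_four f hz ha h4
  have k0 : ∀ x ∈ S, x * a * x⁻¹ = a → x ∈ H := fun x hx e1 => c.eq.le ⟨hx, by
    rw [e]; exact le_centralizer_symm (four_le_iff.2 ⟨mem_centralizer_iff.2 fun y hy => by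
      obtain ⟨n, rfl⟩ := hy; exact (Commute.zpow_left (cC h1 hx) n).eq, mem_centralizer_iff.2 fun y hy => by
      obtain ⟨n, rfl⟩ := hy; exact (Commute.zpow_left (mul_inv_eq_iff_eq_mul.1 e1) n).eq⟩) (mem_zpowers x)⟩
  have k : ∀ x ∈ S, x ∉ H → x * a * x⁻¹ = z * a := fun x hx x1 => by
    rcases f.mem_four.1 (e ▸ cN (c.SA hx) ha) with e1 | e1 | e1 | e1
    · exact (conj_ne_one (ne1 f.2) e1).elim
    · refine (f.3 ?_).elim
      calc a = x⁻¹ * (x * a * x⁻¹) * x := by group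
        _ = _ := by rw [e1, mul_assoc, ← cC h1 hx]; group
    exacts [(x1 (k0 x hx e1)).elim, e1]
  obtain ⟨s, hs, s1⟩ := SetLike.not_le_iff_exists.1 c.nle
  obtain ⟨t, ht, t1, t2⟩ := c.not2 hs s1
  refine t2 (k0 _ (mul_mem ht hs) ?_)
  calc _ = t * (s * a * s⁻¹) * t⁻¹ := by group
    _ = t * z * t⁻¹ * (t * a * t⁻¹) := by rw [k s hs s1]; group
    _ = _ := by rw [k t ht t1, cC h1 ht, mul_inv_cancel_right, cl f.tt]

theorem swap {S' : Subgroup G} (hS : Syl S') (h : H ≤ S') : C2 A S' H :=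
  ⟨c.toCx, c.nc, hS, c.AH.trans h, c.sylC.maximal _ hS.isPGroup.to_inf_left inf_le_right (le_inf h c.HC)⟩

theorem no_NA (hP : IsPGroup 2 P) (h : H ≤ P) : ¬ NA A X P := fun n => by
  obtain ⟨S', hS, h1⟩ := exists_isSylowIn_ge hP le_top
  have c' := c.swap hS (h.trans h1)
  have e : P ⊓ C[A] = H := c.sylC.maximal _ hP.to_inf_left inf_le_right (le_inf h c.HC)
  have n2 := n.n2
  rw [e] at n2
  obtain ⟨U, h2, h3, h4, h5, b, hb, h6, h7, h8⟩ := n2 c.ab
  have h9 : U ≤ S' ⊓ N[H] := le_inf (h3.trans h1) ((h3.trans h1).trans c'.SH)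
  have f : FH S' H U := ⟨c'.ess, h9, fun e => h6 (e hb), h4, by
    rw [← relIndex_mul_card h2, mul_right_comm, Nat.mul_le_mul_right_iff Nat.card_pos] at h5
    rwa [← relIndex_mul_card (inf_le_left : H ⊓ C[U] ≤ H), Nat.mul_le_mul_right_iff Nat.card_pos] at h5⟩
  exact f.o3 h7 (fun e => h8 e.2) (h9 hb) h6 (mem_of_mem_of_eq (one_mem _) (by group))

end C2

end Cfsg.Lib.AbInt
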