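import Cfsg.Agent.Lib.AbInt.TwoA

/-!
# Maximal components in the non-central case
-/

set_option autoImplicit false
set_option linter.unusedSectionVars false

namespace Cfsg.Lib.AbInt
open Subgroup Cfsg Cfsg.Lib Cfsg.Lib.FT Cfsg.Lib.R1 Cfsg.Lib.Wal Cfsg.Lib.GW
open scoped commutatorElement

universe u

theorem exists_inv {Y : Type*} [Group Y] [Finite Y] {K V : Subgroup Y} [K.Normal] (hV : IsSylowIn 2 V K)
    (el : ∀ v ∈ V, v * v = 1) {h y : Y} (h1 : h ∈ K) (h2 : h ∈ N[V]) (ht : Trans h V) (hy : y ∈ N[V])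
    (y2 : y * y ∈ V) (y1 : y ∉ C[V]) : ∃ w ∈ V, w * y * (w * y) = 1 := by
  have cm : ∀ {a b}, a ∈ V → b ∈ V → a * b = b * a := fun ha hb => comm_of_isMulCommutative (comm_of_sq el) ha hb
  by_cases e : y * y = 1
  · exact ⟨1, one_mem _, by simpa using e⟩
  obtain ⟨a, ha, h3⟩ : ∃ a ∈ V, a * y ≠ y * a := by
    by_contra h; push Not at h; exact y1 (mC h)
  obtain ⟨v, ev⟩ : ∃ v, v = a * (y * a * y⁻¹) := ⟨_, rfl⟩
  have hv : v ∈ V := ev ▸ mul_mem ha (cN hy ha)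
  obtain ⟨k, hk, e1⟩ := ht _ y2 v hv e fun e => h3 (by
    rw [eq_comm, ← mul_inv_eq_iff_eq_mul, ← inv_eq_of_mul_eq_one_right (ev.symm.trans e), inv_eq (el a ha)])
  have kK := zpowers_le.2 h1 hk
  have n : ∀ {g x : Y}, x ∈ K → g * x * g⁻¹ ∈ K := fun hx => Normal.conj_mem inferInstance _ hx _
  have h4 : K ≤ commInto K {y} := fun x hx => ⟨le_normalizer hx, fun c hc =>
    mem_of_mem_of_eq (K.mul_mem hx (n (g := c) (K.inv_mem hx))) (by group)⟩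
  have h5 : y ∈ commInto K {y} := ⟨le_normalizer_of_normal (mem_top y), fun c hc => by
    rw [Set.mem_singleton_iff.1 hc, commutatorElement_self]; exact one_mem _⟩
  have h6 : k * y * k⁻¹ * y⁻¹ ∈ K := mem_of_mem_of_eq (K.mul_mem kK (n (g := y) (K.inv_mem kK))) (by group)
  have e2 : k * y * k⁻¹ * (k * y * k⁻¹) = v := by rw [← e1]; group
  have p2 : ∀ x : Y, x * x ∈ V → IsPGroup 2 (zpowers x) := fun x hx => isPGroup_zpowers_of_pow_eq_one (k := 2) (by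
    rw [show 2 ^ 2 = 2 * 2 from rfl, pow_mul, sq, sq, el _ hx])
  obtain ⟨Q, hQ, h7⟩ := exists_isSylowIn_ge ((p2 y y2).to_sup_of_normal_right' hV.isPGroup (zpowers_le.2 hy))
    (show _ ≤ commInto K {y} ⊓ N[V] ⊓ C1[v] from sup_le (zpowers_le.2 ⟨⟨h5, hy⟩, mem_C1.2 (by
      calc y * v = y * a * y⁻¹ * (y * y * a) * y⁻¹ := by rw [ev]; group
        _ = y * a * y⁻¹ * a * y := by rw [cm y2 ha]; group
        _ = _ := by rw [cm (cN hy ha) ha, ev])⟩)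
      fun x hx => ⟨⟨h4 (hV.le hx), le_normalizer hx⟩, mem_C1.2 (cm hx hv)⟩)
  obtain ⟨m, hm, h8⟩ := hQ.exists_conj_le (p2 (k * y * k⁻¹) (e2 ▸ hv)) (zpowers_le.2 ⟨⟨mem_of_mem_of_eq
    (mul_mem (h4 h6) h5) (by group), cI (zpowers_le.2 h2 hk) hy⟩, mem_C1.2 (by rw [← e2]; group)⟩)
  have h9 : m * (k * y * k⁻¹) * m⁻¹ * y⁻¹ ∈ V := (hV.maximal _ hQ.isPGroup.to_inf_left inf_le_right
    (le_inf (le_sup_right.trans h7) hV.le)).le ⟨Q.mul_mem (h8 (conj_mem_conj (mem_zpowers _) m))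
      (Q.inv_mem (h7 (mem_sup_left (mem_zpowers y)))), mem_of_mem_of_eq (K.mul_mem (n (g := m) h6) (hm.1.1.2 y rfl))
        (by group)⟩
  have e3 : m * (k * y * k⁻¹) * m⁻¹ * (m * (k * y * k⁻¹) * m⁻¹) = v := by
    rw [conj_mul, e2, mem_C1.1 hm.2, mul_inv_cancel_right]
  generalize m * (k * y * k⁻¹) * m⁻¹ = x at h9 e3
  refine ⟨a * (x * y⁻¹), mul_mem ha h9, ?_⟩
  calc _ = a * (x * y⁻¹ * (y * a * y⁻¹)) * (y * x) := by group
    _ = v * (x * x) := by rw [cm h9 (cN hy ha), ev]; group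
    _ = 1 := by rw [e3, el v hv]

variable {G : Type u} [Group G] [Finite G] {A S H X P D J V R L V' R' L' : Subgroup G} {h h' : G}

/-- a maximal component -/
structure MP (A H V R L : Subgroup G) (h : G) : Prop extends Pr A H V R L h where
  E : R ⊓ A ≠ ⊥
  max : ∀ V' R' L' h', Pr A H V' R' L' h' → R' ⊓ A ≠ ⊥ → Nat.card V' ≤ Nat.card V

namespace C2
variable (c : C2 A S H)
include c

theorem pr (a : Ab A X P J) (h : H ≤ P) : ∃ h, Pr A H (J ⊓ P) (H ⊓ cz X J) (o2 (J ⊓ C[H ⊓ cz X J])) h :=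
  a.pr c.el (a.VA.trans c.AH) h (c.HC.trans (centralizer_mono a.VA))

theorem exists_mp : ∃ V R L h, MP A H V R L h := by
  obtain ⟨a, ha, a1, bad⟩ : ∃ a ∈ A, a ≠ 1 ∧ ¬ Sol A A C1[a] := by
    by_contra e; push Not at e; exact c.not_good c.eight e
  have h1 : H ≤ C1[a] := le_c1_iff.2 (le_centralizer_symm c.HC ha)
  obtain ⟨P, hP, h2⟩ := exists_isSylowIn_ge c.pH h1
  rcases c.tri (c.c1_ne a1 (esq c.el ha)) hP (c.AH.trans h2) le_rfl with e | ⟨J, e, -⟩ | e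
  · exact (bad e).elim
  swap
  · exact (c.no_NA hP.isPGroup h2 e).elim
  obtain ⟨k, p⟩ := c.pr e h2
  obtain ⟨⟨V, R, L, h⟩, ⟨p, E⟩, hm⟩ := Set.exists_max_image
    {q : Subgroup G × Subgroup G × Subgroup G × G | Pr A H q.1 q.2.1 q.2.2.1 q.2.2.2 ∧ q.2.1 ⊓ A ≠ ⊥}
    (fun q => Nat.card q.1) (Set.toFinite _) ⟨(_, _, _, k), p, fun e' => a1 (e'.le ⟨⟨c.AH ha, le_cz_of_c e.cmp.le
      (centralizer_zpowers a).ge (zpowers_le.2 (mem_C1_self a)) (mem_zpowers a)⟩, ha⟩)⟩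
  exact ⟨V, R, L, h, p, E, fun V' R' L' h' p' E' => hm (V', R', L', h') ⟨p', E'⟩⟩

theorem conj (m : MP A H V R L h) {g : G} (hg : g ∈ N[H]) : MP A H (g •ᶜ V) (g •ᶜ R) (g •ᶜ L) (g * h * g⁻¹) :=
  ⟨m.toPr.conj (c.NH hg) hg, fun e => m.E (by
    rwa [← conj_eq_iff_mem_normalizer.2 (c.NH hg), ← conj_inf, conj_eq_bot_iff] at e),
    fun V' R' L' h' p E => (m.max V' R' L' h' p E).trans (card_conj g V).ge⟩

variable (m : MP A H V R L h)
include m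

theorem pump (hX : X ≠ ⊤) (hP : IsSylowIn 2 P X) (h1 : H ≤ P) (hL : L ≤ X) (D0 : D ≠ ⊥) (hD : D ≤ A)
    (hn : X ≤ N[D]) : ∃ J, Ab A X P J ∧ J ⊓ P = V ∧ H ⊓ cz X J = R ∧ L ≤ J := by
  have hA := (c.AH.trans h1).trans hP.le
  rcases c.tri hX hP (c.AH.trans h1) m.VA with e | ⟨J, e, h2⟩ | e
  · exact (m.not_sol c.pA hA hL e).elim
  swap
  · exact (c.no_NA hP.isPGroup h1 e).elim
  obtain ⟨k, p⟩ := c.pr e h1
  have h3 : L ≤ N[J] := m.gen.ge.trans (o2_le_of_forall m.syl fun g hg => by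
    rw [conj_normalizer]; exact m.VA.trans (c.le_n hA (e.cmp.conj' (le_normalizer (hL hg)))))
  have h4 : H ⊓ cz X J ≤ R := (m.tor.le_or_le c.comm inf_le_left (le_normalizer_inf m.tor.zS
    (n_cz (((zpowers_le.2 m.hL).trans hL).trans le_normalizer) ((zpowers_le.2 m.hL).trans h3)) (mem_zpowers h))
      ).resolve_left fun e => h2 (e.trans inf_le_right)
  have h5 : J ⊓ P = J ⊓ H := le_antisymm (le_inf inf_le_left p.tor.VS) (inf_le_inf_left _ h1)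
  have h6 : V ≤ J ⊓ P := (m.tor.le_or_le c.comm p.tor.VS (h5 ▸ le_normalizer_inf ((zpowers_le.2 m.hL).trans h3)
    m.tor.zS (mem_zpowers h))).resolve_right fun e => m.tor.not_le (m.tor.VS.trans (p.tor.sup.ge.trans (sup_le e h4)))
  have h7 : V = J ⊓ P := eq_of_le_of_card_ge h6 (m.max _ _ _ _ p fun e' => D0 (le_bot_iff.1 (e'.le.trans'
    (le_inf (le_inf (hD.trans c.AH) (e.cmp.le_cz_of_solv (hD.trans hA) (isSolvable_of_isPGroup (c.pA.to_le hD))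
      (e.cmp.le.trans hn) le_rfl le_sup_right)) hD))))
  exact ⟨J, e, h7.symm, m.tor.eq_of_le c.comm h4 (h7 ▸ p.tor.sup),
    m.gen.ge.trans (o2_le_of_sylow m.syl (h6.trans inf_le_left) h3)⟩

theorem tri (m' : MP A H V' R' L' h') (h0 : R ⊓ R' ⊓ A ≠ ⊥) : (V' = V ∧ R' = R) ∨ (V' ≤ R ∧ V ≤ R') := by
  have hX : C[R ⊓ R' ⊓ A] ≠ ⊤ := fun e =>
    c.ne_top c.pA.to_inf_right h0 (top_le_iff.1 (e.ge.trans (centralizer_le_normalizer _)))
  obtain ⟨P, hP, h1⟩ := exists_isSylowIn_ge c.pH (c.HC.trans (centralizer_mono (inf_le_right (a := R ⊓ R'))))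
  obtain ⟨J, a, e1, e2, -⟩ := c.pump m hX hP h1 (m.LR.trans (centralizer_mono (inf_le_left.trans inf_le_left))) h0
    inf_le_right (centralizer_le_normalizer _)
  obtain ⟨J', a', e3, e4, -⟩ := c.pump m' hX hP h1 (m'.LR.trans (centralizer_mono (inf_le_left.trans inf_le_right))) h0
    inf_le_right (centralizer_le_normalizer _)
  by_cases e : J = J'
  · subst e; exact .inl ⟨e3.symm.trans e1, e4.symm.trans e2⟩
  exact .inr ⟨e2 ▸ le_inf m'.tor.VS (e3 ▸ inf_le_left.trans ((a.cmp.eq_or a'.cmp).resolve_left e)),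
    e4 ▸ le_inf m.tor.VS (e1 ▸ inf_le_left.trans ((a'.cmp.eq_or a.cmp).resolve_left (Ne.symm e)))⟩

/-- the component in `N(R ∩ A)` -/
theorem pump' : ∃ P J, Ab A N[R ⊓ A] P J ∧ S ⊓ N[R ⊓ A] ≤ P ∧ H ≤ P ∧ J ⊓ P = V ∧ H ⊓ cz N[R ⊓ A] J = R ∧ L ≤ J ∧
    ∀ y ∈ N[R ⊓ A], y ∈ N[V] → y ∈ N[J] := by
  obtain ⟨P, hP, h1⟩ := exists_isSylowIn_ge c.pS.to_inf_left (inf_le_right : S ⊓ N[R ⊓ A] ≤ _)
  have h2 := (le_inf c.HS ((c.HC.trans (centralizer_mono inf_le_right)).trans (centralizer_le_normalizer _))).trans h1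
  obtain ⟨J, a, e1, e2, h3⟩ := c.pump m (c.ne_top c.pA.to_inf_right m.E) hP h2 ((m.LR.trans (centralizer_mono
    inf_le_left)).trans (centralizer_le_normalizer _)) m.E inf_le_right le_rfl
  refine ⟨P, J, a, h1, h2, e1, e2, h3, fun y hy h4 => conj_eq_iff_mem_normalizer.1 ((a.cmp.eq_or (a.cmp.conj'
    (le_normalizer hy))).resolve_right fun e => m.tor.not_le (e2 ▸ le_inf m.tor.VS (e.trans' ?_))).symm⟩
  rw [← conj_eq_iff_mem_normalizer.2 h4]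
  exact map_mono (e1 ▸ inf_le_left)

theorem p3 {y : G} (hy : y ∈ S) (h1 : y ∈ N[R]) (h2 : y ∈ C[V]) : y ∈ H := by
  obtain ⟨P, J, a, h3, h4, e1, e2, -⟩ := c.pump' m
  have h5 := h3 ⟨hy, le_normalizer_inf (zpowers_le.2 h1) (zpowers_le.2 (c.SA hy)) (mem_zpowers y)⟩
  obtain ⟨v, hv, h6⟩ := a.dec y h5 (e1.symm ▸ h2)
  refine c.cen hy ?_
  rw [← m.tor.sup, centralizer_sup]
  refine ⟨h2, (mul_mem_cancel_left (inv_mem (centralizer_mono m.tor.RS (c.ab (m.tor.VS (e1 ▸ hv)))))).1 ?_⟩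
  exact centralizer_mono (e2.ge.trans (inf_le_inf_right _ h4)) (a.cm ⟨P.mul_mem (P.inv_mem hv.2) h5, h6⟩)

theorem p4 {y : G} (hy : y ∈ S) (y1 : y ∉ H) (y2 : y * y ∈ H) (h1 : y ∈ N[V]) (h2 : y ∈ N[R]) : y ∈ C[R] := by
  by_contra y3
  obtain ⟨P, J, a, h3, h4, e1, e2, hL, h5⟩ := c.pump' m
  have hc := a.cmp
  obtain ⟨Y, _, _, f, hf, hk, _, -⟩ := Loc.exists_q2 hc
  have hJ : J ≤ N[R ⊓ A] ⊓ N[J] := le_inf hc.le le_normalizer
  have VJ : V ≤ J := e1 ▸ inf_le_left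
  have Rk : R ≤ kr f := e2.ge.trans (inf_le_right.trans hk.ge)
  have hH : H ≤ N[R ⊓ A] ⊓ N[J] := m.tor.sup.ge.trans (sup_le (VJ.trans hJ) (Rk.trans kr_le))
  have h6 : y ∈ N[R ⊓ A] := le_normalizer_inf (zpowers_le.2 h2) (zpowers_le.2 (c.SA hy)) (mem_zpowers y)
  have h7 : y ∈ N[R ⊓ A] ⊓ N[J] := ⟨h6, h5 y h6 h1⟩
  obtain ⟨T, hT, h8⟩ := exists_isSylowIn_ge (c.pS.to_le (sup_le c.HS (zpowers_le.2 hy))) (sup_le hH (zpowers_le.2 h7))
  have HT := le_sup_left.trans h8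
  have yT := h8 (mem_sup_right (mem_zpowers y))
  obtain ⟨k, hk', e⟩ := c.ess.exists_nc hy y1
  have TS := c.ai.le c.syl (c.HS hk') hy e hT.isPGroup (HT hk') yT
  have sT := im_syl hf hT
  have uq : ∀ x ∈ T, x ∉ C[R] → UniqSyl (bar f x) := fun x hx x1 => by
    suffices k : ∀ Q, Syl Q → bar f x ∈ Q → Q = im f T from fun Q Q' a b d e => (k Q a d).trans (k Q' b e).symm
    intro Q hQ d
    obtain ⟨r, hr, e⟩ : ∃ r ∈ R, r * x ≠ x * r := by
      by_contra e; push Not at e; exact x1 (mC e)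
    obtain ⟨T', h9, h10⟩ := exists_isSylowIn_ge (hT.isPGroup.to_le (sup_le (m.tor.RS.trans HT) (zpowers_le.2 hx)))
      (sup_le ((le_pre_iff (Rk.trans kr_le)).2 (((im_eq_bot_iff (Rk.trans kr_le)).2 Rk).le.trans bot_le))
        (zpowers_le.2 (mem_pre.2 ⟨hT.le hx, d⟩)) : _ ≤ pre f Q)
    have h11 := c.ai.le c.syl (c.HS (m.tor.RS hr)) (TS hx) e h9.isPGroup (h10 (mem_sup_left hr))
      (h10 (mem_sup_right (mem_zpowers x)))
    have h12 := im_sylow (f := f) h9 (pre_le _)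
    rw [im_pre hf] at h12
    refine (hQ.maximal _ sT.isPGroup le_top ((h12.maximal _ hQ.isPGroup le_rfl h12.le).le.trans (im_mono ?_))).symm
    exact (le_inf h11 (h9.le.trans (pre_le _))).trans (hT.maximal _ c.pS.to_inf_left inf_le_right (le_inf TS hT.le)).le
  have VX := VJ.trans hJ
  have V0 : ∀ v ∈ V, bar f v = 1 → v = 1 := fun v hv e =>
    m.tor.eq_one hv (e2.le ⟨m.tor.VS hv, hk.le ((bar_eq_one_iff (VX hv)).1 e)⟩)
  have sV : IsSylowIn 2 (im f V) (im f J) := im_sylow (e1 ▸ a.syl) hJ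
  have hh := hJ (hL m.hL)
  have el : ∀ v ∈ im f V, v * v = 1 := fun v hv' => by
    obtain ⟨v, hv, b, rfl⟩ := mem_im.1 hv'
    rw [← bar_mul b b, m.tor.elem v hv, bar_one]
  obtain ⟨w, hw', e3⟩ := exists_inv sV el (bar_mem_im (hL m.hL) hh) (im_le_normalizer VX (zpowers_le.2 m.tor.hV)
    (bar_mem_im (mem_zpowers h) hh)) (fun v hv' w hw' v1 w1 => by
      obtain ⟨v, hv, b, rfl⟩ := mem_im.1 hv'
      obtain ⟨w, hw, b', rfl⟩ := mem_im.1 hw'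
      obtain ⟨k, hk, rfl⟩ := m.tor.trans v hv w hw (fun e => v1 (e ▸ bar_one)) fun e => w1 (e ▸ bar_one)
      exact ⟨bar f k, im_zpowers (f := f) hh ▸ bar_mem_im hk (zpowers_le.2 hh hk), (bar_conj (zpowers_le.2 hh hk) b).symm⟩)
    (im_le_normalizer VX (zpowers_le.2 h1) (bar_mem_im (mem_zpowers y) h7)) (by
      rw [← bar_mul h7 h7, bar_mem_im_iff (mul_mem h7 h7) VX]
      exact (m.tor.sup.ge.trans (sup_le_sup_left Rk _)) y2) fun e => y1 (c.p3 m hy h2 (mC fun v hv => by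
        refine (mul_inv_eq_iff_eq_mul.1 (mul_inv_eq_one.1 (V0 _ (mul_mem (cN h1 hv) (inv_mem hv)) ?_))).symm
        rw [bar_mul (cI h7 (VX hv)) (inv_mem (VX hv)), bar_conj h7 (VX hv), bar_inv (VX hv),
          ← cC e (bar_mem_im hv (VX hv))]; group))
  obtain ⟨w, hw, b, rfl⟩ := mem_im.1 hw'
  have VC : V ≤ C[R] := m.tor.VS.trans (c.ab.trans (centralizer_mono m.tor.RS))
  have VT := m.tor.VS.trans HT
  obtain ⟨v, hv, v1⟩ := (bot_or_exists_ne_one V).resolve_left m.tor.ne_bot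
  obtain ⟨b1, b2⟩ := hc.simple_im hJ (hk ▸ hc.inf_cz)
  rw [← bar_mul b h7] at e3
  have h9 := CI2.mem_pCore_of_uniq sT (bar_mem_im (mul_mem (VT hw) yT) (mul_mem b h7)) e3
    (uq _ (mul_mem (VT hw) yT) (by rwa [mul_mem_cancel_left (VC hw)])) (el _ (bar_mem_im hv (VX hv))) fun g hg => by
      obtain ⟨v', hv', b', e⟩ := mem_im.1 ((sV.maximal _ sT.isPGroup.to_inf_left inf_le_right (le_inf (im_mono VT)
        sV.le)).le ⟨hg, Normal.conj_mem inferInstance _ (sV.le (bar_mem_im hv (VX hv))) g⟩)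
      rw [← e, ← bar_mul (mul_mem b h7) b']
      exact uq _ (mul_mem (mul_mem (VT hw) yT) (VT hv'))
        (by rwa [mul_mem_cancel_right (VC hv'), mul_mem_cancel_left (VC hw)])
  rcases eq_or_of_simple b1 (inf_le_right : pCore 2 Y ⊓ im f J ≤ _) le_normalizer_of_normal with e4 | e4
  · exact v1 (V0 v hv (e4.le ⟨h9, sV.le (bar_mem_im hv (VX hv))⟩))
  · exact b2 ((sV.maximal _ (isPGroup_pCore.to_le (e4.ge.trans inf_le_left)) le_rfl sV.le).symm ▸ comm_of_sq el)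

end C2

end Cfsg.Lib.AbInt
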