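import Cfsg.Agent.Lib.AbInt.TwoB

/-!
# The non-central case is impossible
-/

set_option autoImplicit false
set_option linter.unusedSectionVars false

namespace Cfsg.Lib.AbInt
open Subgroup Cfsg Cfsg.Lib Cfsg.Lib.FT Cfsg.Lib.R1 Cfsg.Lib.Wal Cfsg.Lib.GW
open scoped commutatorElement

universe u

variable {G : Type u} [Group G] [Finite G] {A S H V R L V' R' L' : Subgroup G} {h h' : G}

/-- the elements of `A` outside all the subgroups `R` -/
def Sg (A H : Subgroup G) (x : G) : Prop := x ∈ A ∧ ∀ V R L h, MP A H V R L h → x ∉ R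

namespace C2
variable (c : C2 A S H)
include c

theorem pa {v k s : G} (hv : v ∈ H) (h1 : v ∈ C[S]) (hk : k ∈ N[H]) (hs : s ∈ S) (s1 : s ∉ H)
    (e : s * (k * v * k⁻¹) = k * v * k⁻¹ * s) : k * v * k⁻¹ ∈ C[S] := by
  have h2 : k •ᶜ S ≤ C1[k * v * k⁻¹] := by rw [c1_conj]; exact map_mono (le_c1_iff.2 h1)
  obtain ⟨d, hd, h3⟩ := ((c.syl.conj k).mono h2 le_top).exists_conj_le (c.pS.to_le (sup_le c.HS (zpowers_le.2 hs)))
    (sup_le (le_c1_iff.2 (c.ab (cN hk hv))) (zpowers_le.2 (mem_C1.2 e)))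
  obtain ⟨x, hx, h4⟩ := c.ess.exists_nc hs s1
  have k1 : ∀ y ∈ H ⊔ zpowers s, k⁻¹ * d * y * (k⁻¹ * d)⁻¹ ∈ S := fun y hy => by
    have := h3 (conj_mem_conj hy d)
    rw [mem_map_conj] at this
    exact mem_of_mem_of_eq this (by group)
  have h5 := c.ai.norm c.syl (c.HS hx) hs h4 (k1 x (mem_sup_left hx)) (k1 s (mem_sup_right (mem_zpowers s)))
  refine mem_of_mem_of_eq (cN' (normalizer_le_normalizer_centralizer _ h5) h1) ?_
  calc _ = d⁻¹ * (k * v * k⁻¹ * d) := by group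
    _ = _ := by rw [← mem_C1.1 hd]; group

theorem Sg_conj {x g : G} (hx : Sg A H x) (hg : g ∈ N[H]) : Sg A H (g * x * g⁻¹) :=
  ⟨cN (c.NH hg) hx.1, fun _ _ _ _ m e => hx.2 _ _ _ _ (c.conj m (inv_mem hg)) (by
    rw [mem_map_conj]; simpa using e)⟩

variable (m : MP A H V R L h)
include m

theorem p5 : ¬ S ≤ N[V] ⊓ N[R] := fun hn => by
  have hV := hn.trans inf_le_left
  have hR := hn.trans inf_le_right
  have pV := c.pH.to_le m.tor.VS
  obtain ⟨v, hv, v2, h1⟩ := pg_exists_fixed_of_order_p pV c.pS hV m.tor.ne_bot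
  have nC : ¬ V ≤ C[S] := fun e => c.nle fun y hy => c.p3 m hy (hR hy) (le_centralizer_symm e hy)
  have sq : ∀ t ∈ S, t * t ∈ H := fun t ht => by
    by_contra t2
    obtain ⟨w, hw, w1, -, h2⟩ := pg_exists_fixed_mod pV c.pS hV (inf_lt_left.2 nC) ((m.tor.VS.trans c.ab).trans
      ((centralizer_mono (inf_le_left.trans m.tor.VS)).trans (centralizer_le_normalizer _)))
      (le_normalizer_inf hV (le_normalizer.trans (normalizer_le_normalizer_centralizer _)))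
    obtain ⟨k, hk, rfl⟩ := m.tor.trans v hv w hw (ne1 v2) fun e => w1 (e ▸ one_mem _)
    refine w1 ⟨hw, c.pa (m.tor.VS hv) h1 (m.tor.zS hk) (mul_mem ht ht) t2 ?_⟩
    generalize k * v * k⁻¹ = w at *
    obtain ⟨z, ez⟩ : ∃ z, z = ⁅w, t⁆ := ⟨_, rfl⟩
    have h3 := h2 t ht
    rw [← ez] at h3
    have e1 : t * w = z * w * t := by
      rw [← inv_eq (m.tor.elem z h3.1), ez]; group
    calc t * t * w = t * z * w * t := by rw [mul_assoc, e1]; group
      _ = z * (t * w) * t := by rw [cC h3.2 ht]; group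
      _ = _ := by rw [e1, ← mul_assoc, ← mul_assoc, m.tor.elem z h3.1]; group
  obtain ⟨P, J, a, -, -, e1, -, hL, h2⟩ := c.pump' m
  have SJ : S ≤ N[J] := fun y hy => h2 y (le_normalizer_inf hR c.SA hy) (hV hy)
  obtain ⟨Y, _, _, f, -, hk⟩ := exists_quot (centralizer_le_normalizer (H : Set G))
    (normalizer_le_normalizer_centralizer H)
  have one : ∀ s ∈ S, bar f s = 1 ↔ s ∈ H := fun s hs => by
    rw [bar_eq_one_iff (c.SH hs), hk]; exact ⟨c.cen hs, fun e => c.ab e⟩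
  have el : ∀ d ∈ im f S, d * d = 1 := fun d hd => by
    obtain ⟨s, hs, b, rfl⟩ := mem_im.1 hd
    rw [← bar_mul b b, one _ (mul_mem hs hs)]; exact sq s hs
  obtain ⟨s, hs, s1⟩ := SetLike.not_le_iff_exists.1 c.nle
  obtain ⟨t, ht, t1, t2⟩ := c.not2 hs s1
  have h3 : V ≤ J ⊓ N[H] := le_inf (e1.ge.trans inf_le_left) (m.tor.VS.trans le_normalizer)
  have h4 := (im_sylow (f := f) ((e1 ▸ a.syl).mono h3 inf_le_left) inf_le_right).not_dvd_relIndex
  rw [(im_eq_bot_iff (h3.trans inf_le_right)).2 (hk.ge.trans' (m.tor.VS.trans c.ab)), relIndex_bot_left] at h4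
  have h5 : S ⊔ C[H] ≤ N[H] := sup_le c.SH (centralizer_le_normalizer _)
  have h6 := le_of_c1 el (four_le_card ⟨comm_of_sq el, fun x hx => by rw [pow_two, el x hx]⟩
    (bar_mem_im hs (c.SH hs)) (bar_mem_im ht (c.SH ht)) (mt (one s hs).1 s1) (mt (one t ht).1 t1) fun e =>
      t2 ((one _ (mul_mem ht hs)).1 (by rw [bar_mul (c.SH ht) (c.SH hs), e, el _ (bar_mem_im hs (c.SH hs))])))
    (X := im f (N[H] ⊓ N[S ⊔ C[H]])) (Nat.odd_iff.2 (Nat.two_dvd_ne_zero.1 h4))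
    (im_le_normalizer inf_le_right (le_normalizer_inf SJ (c.SH.trans le_normalizer))) fun d hd d1 x hx => by
      obtain ⟨s, hs, b, rfl⟩ := mem_im.1 hd
      obtain ⟨y, -, b', rfl⟩ := mem_im.1 hx.1
      refine bar_mem_im ⟨b', c.ti hs (mt (one s hs).2 d1) b' ?_⟩ b'
      rw [← hk, ← bar_mem_im_iff (cI b' b) c.SH, bar_conj b' b, mem_C1.1 hx.2, mul_inv_cancel_right]
      exact bar_mem_im hs b
  rw [im_le_iff inf_le_right inf_le_left, hk] at h6
  have h7 : zpowers h ≤ N[C[S ⊔ C[H]]] := ((le_inf ((zpowers_le.2 m.hL).trans hL) m.tor.zS).trans h6).trans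
    ((sup_le inf_le_right (le_sup_right.trans le_normalizer)).trans (normalizer_le_normalizer_centralizer _))
  refine nC fun w hw => ?_
  by_cases w1 : w = 1
  · exact w1 ▸ one_mem _
  obtain ⟨k, hk', rfl⟩ := m.tor.trans v hv w hw (ne1 v2) w1
  refine centralizer_mono le_sup_left (cN (h7 hk') ?_)
  rw [centralizer_sup]
  exact ⟨h1, le_centralizer_symm le_rfl (m.tor.VS hv)⟩

theorem not_AV : ¬ A ≤ V := fun e => m.E (le_bot_iff.1 (m.tor.inf.le.trans' (le_inf (inf_le_right.trans e) inf_le_left)))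

theorem caseO (hO : ∀ g ∈ N[H], g ∈ N[V] ⊓ N[R] ∨ g •ᶜ V ≤ R) : False := by
  have o1 : ∀ g ∈ N[H], g ∈ N[V] → g ∈ N[R] := fun g hg e => ((hO g hg).resolve_right fun e' =>
    m.tor.not_le (conj_eq_iff_mem_normalizer.2 e ▸ e')).2
  have o2 : ∀ g ∈ N[H], g ∉ N[V] → g •ᶜ V ≤ R := fun g hg e => (hO g hg).resolve_left fun e' => e e'.1
  obtain ⟨g, hg, g1⟩ : ∃ g ∈ N[H], g ∉ N[V] := SetLike.not_le_iff_exists.1 fun e =>
    (c.irr' m.VA e).elim m.tor.ne_bot fun e => c.not_AV m e.ge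
  have o3 : ∀ y ∈ S, y ∈ N[V] → y ∈ H := fun y hy e => by
    by_contra y1
    obtain ⟨x, hx, x1, x2⟩ := exists_sq_mem y1 (isPGroup_zpowers c.pS hy)
    have h1 := zpowers_le.2 hy hx
    have h2 := zpowers_le.2 e hx
    have h3 := centralizer_mono (o2 g hg g1) (c.p4 m h1 x1 x2 h2 (o1 x (c.SH h1) h2))
    refine x1 (c.p3 (c.conj m hg) h1 ?_ h3)
    have h4 := centralizer_le_normalizer _ h3
    rw [← conj_normalizer, mem_map_conj] at h4 ⊢
    exact o1 _ (mul_mem (mul_mem (inv_mem hg) (c.SH h1)) hg) h4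
  have o4 : ∀ u ∈ S, u ∉ H → u * h * u⁻¹ ∈ C[V] := fun u hu u1 => by
    have h1 := o2 _ (c.SH (inv_mem hu)) fun e => u1 (inv_mem_iff.1 (o3 _ (inv_mem hu) e))
    rw [map_conj_le_iff, inv_inv] at h1
    refine centralizer_mono h1 ?_
    rw [← conj_centralizer]
    exact conj_mem_conj (m.LR m.hL) u
  obtain ⟨y, hy, y1⟩ := SetLike.not_le_iff_exists.1 c.nle
  obtain ⟨s, hs', s1, s2⟩ := exists_sq_mem y1 (isPGroup_zpowers c.pS hy)
  have hs := zpowers_le.2 hy hs'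
  obtain ⟨t, ht, t1, t2⟩ := c.not2 hs s1
  have h1 := o4 s hs s1
  have h2 := cI (c.SH hs) m.tor.hS
  have h3 := o1 _ h2 (centralizer_le_normalizer _ h1)
  have h4 : h * (s * h * s⁻¹) * h⁻¹ * (s * h * s⁻¹)⁻¹ ∈ C[H] := by
    rw [← m.tor.sup, centralizer_sup]
    exact mem_inf.2 ⟨mul_mem (cN (normalizer_le_normalizer_centralizer _ m.tor.hV) h1) (inv_mem h1),
      mem_of_mem_of_eq (mul_mem (m.LR m.hL) (cN (normalizer_le_normalizer_centralizer _ h3) (inv_mem (m.LR m.hL))))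
        (by group)⟩
  have h5 := c.ti hs s1 (mul_mem m.tor.hS h2) (mem_of_mem_of_eq (mul_mem (mul_mem (mem_sup_right h4)
    (mem_sup_left (c.HS (cN h2 (mul_mem (cN m.tor.hS s2) (inv_mem s2)))))) (mem_sup_left hs)) (by group))
  obtain ⟨u, hu, k, hk, e⟩ := (mem_sup_of_le_normalizer_right (c.SH.trans (normalizer_le_normalizer_centralizer _))).1
    (mul_mem (cN h5 (mem_sup_left ht)) (mem_sup_left (inv_mem ht)))
  have h6 : (s * h * s⁻¹) * (t * s * h * (t * s)⁻¹)⁻¹ * (t * h * t⁻¹)⁻¹ ∈ C[V] :=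
    mul_mem (mul_mem h1 (inv_mem (o4 _ (mul_mem ht hs) t2))) (inv_mem (o4 t ht t1))
  have e1 : u * k = h * ((s * h * s⁻¹) * (t * s * h * (t * s)⁻¹)⁻¹ * (t * h * t⁻¹)⁻¹) := by rw [e]; group
  have h7 := centralizer_mono m.tor.VS hk
  have h8 := o3 u hu ((mul_mem_cancel_right (centralizer_le_normalizer _ h7)).1
    (e1 ▸ mul_mem m.tor.hV (centralizer_le_normalizer _ h6)))
  have h9 := (mul_mem_cancel_right h6).1 (e1 ▸ mul_mem (centralizer_mono m.tor.VS (c.ab h8)) h7)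
  obtain ⟨v, hv, v1⟩ := (bot_or_exists_ne_one V).resolve_left m.tor.ne_bot
  obtain ⟨k, hk, e2⟩ := m.tor.exists_ne hv v1
  exact e2 (by rw [← cC (zpowers_le.2 h9 hk) hv, mul_inv_cancel_right])

theorem dec {a : G} (ha : a ∈ A) : ∃ v ∈ V, ∃ e ∈ R ⊓ A, v * e = a := by
  obtain ⟨v, hv, e, he, rfl⟩ := m.tor.exists_mul c.comm (c.AH ha)
  exact ⟨v, hv, e, ⟨he, (mul_mem_cancel_left (m.VA hv)).1 ha⟩, rfl⟩

omit m in
theorem card_mul {W D : Subgroup G} (h1 : W ≤ A) (h2 : D ≤ A) (h3 : W ⊓ D = ⊥) :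
    Nat.card ↥(W ⊔ D) = Nat.card W * Nat.card D := by
  rw [← card_sup_mul_card_inf ((h1.trans (le_C_of_comm c.el.1 h2)).trans (centralizer_le_normalizer _)), h3, card_bot,
    mul_one]

theorem card_A : Nat.card A = Nat.card V * Nat.card ↥(R ⊓ A) := by
  rw [← c.card_mul m.VA inf_le_right (by rw [← inf_assoc, m.tor.inf, bot_inf_eq]), le_antisymm
    (sup_le m.VA inf_le_right) fun a ha => ?_]
  obtain ⟨v, hv, e, he, rfl⟩ := c.dec m ha
  exact mul_mem (mem_sup_left hv) (mem_sup_right he)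

theorem card_V (m' : MP A H V' R' L' h') : Nat.card V' = Nat.card V :=
  le_antisymm (m.max _ _ _ _ m'.toPr m'.E) (m'.max _ _ _ _ m.toPr m.E)

theorem card_E (m' : MP A H V' R' L' h') : Nat.card ↥(R' ⊓ A) = Nat.card ↥(R ⊓ A) :=
  Nat.eq_of_mul_eq_mul_left Nat.card_pos ((c.card_V m m' ▸ c.card_A m').symm.trans (c.card_A m))

variable (hE : Nat.card ↥(R ⊓ A) ≤ Nat.card V)
include hE

theorem exists_e (m' : MP A H V' R' L' h') : ∃ e ∈ R' ⊓ A, e ≠ 1 ∧ ∀ w ∈ V', w ≠ 1 → Sg A H (w * e) := by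
  obtain ⟨z, hz, z2, h1⟩ := c.exists_z
  have h2 : Sg A H z := ⟨hz, fun V1 R1 L1 k m1 e => c.p5 m1 fun s hs => by
    have m2 := c.conj m1 (c.SH hs)
    have e1 : s * z * s⁻¹ = z := by rw [cC h1 hs, mul_inv_cancel_right]
    rcases c.tri m1 m2 (fun e' => ne1 z2 (e'.le ⟨⟨e, e1 ▸ conj_mem_conj e s⟩, hz⟩)) with ⟨a, b⟩ | ⟨a, -⟩
    · exact ⟨conj_eq_iff_mem_normalizer.1 a, conj_eq_iff_mem_normalizer.1 b⟩
    have := (eq_of_le_of_card_ge (le_inf a m2.VA) ((c.card_E m m1).trans_le (hE.trans (c.card_V m m2).ge))).ge ⟨e, hz⟩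
    rw [← e1, conj_mem_conj_iff] at this
    exact (ne1 z2 (m1.tor.eq_one this e)).elim⟩
  obtain ⟨x, hx, x1⟩ : ∃ x, Sg A H x ∧ x ∉ V' := by
    by_contra e
    push Not at e
    rcases c.irr' (D := closure {x | Sg A H x}) ((closure_le _).2 fun x hx => hx.1) (fun g hg => by
      refine conj_eq_iff_mem_normalizer.1 (eq_of_le_of_card_ge ?_ (card_conj g _).ge)
      rw [MonoidHom.map_closure, closure_le]
      rintro _ ⟨x, hx, rfl⟩
      exact subset_closure (c.Sg_conj hx hg)) with e1 | e1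
    · exact ne1 z2 (e1.le (subset_closure h2))
    · exact c.not_AV m' (e1.ge.trans ((closure_le _).2 e))
  obtain ⟨v, hv, e, he, rfl⟩ := c.dec m' hx.1
  refine ⟨e, he, fun e1 => x1 (by simpa [e1] using hv), fun w hw w1 => ?_⟩
  obtain ⟨k, hk, rfl⟩ := m'.tor.trans v hv w hw (fun e1 => hx.2 _ _ _ _ m' (by simpa [e1] using he.1)) w1
  have := c.Sg_conj hx (m'.tor.zS hk)
  rwa [← conj_mul, ← cC (m'.tor.zR hk) he.1, mul_inv_cancel_right] at this

theorem R_eq' (m' : MP A H V' R' L' h') {w : G} (h1 : w ∈ V) (h2 : w ∈ V') (w1 : w ≠ 1) : R' = R := by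
  obtain ⟨e, he, e1, h3⟩ := c.exists_e m hE m
  obtain ⟨v, hv, d, hd, rfl⟩ := c.dec m' he.2
  have h4 := h3 w h1 w1
  by_cases v1 : v = 1
  · rw [v1, one_mul] at he e1
    exact ((c.tri m m' fun e' => e1 (e'.le ⟨⟨he.1, hd.1⟩, hd.2⟩)).resolve_right
      fun e' => w1 (m.tor.eq_one h1 (e'.1 h2))).2
  obtain ⟨k, hk, e2⟩ := m'.tor.trans _ (mul_mem h2 hv) v hv (fun e2 => h4.2 _ _ _ _ m' (by
    rw [← mul_assoc, e2, one_mul]; exact hd.1)) v1
  have := c.Sg_conj h4 (m'.tor.zS hk)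
  rw [← mul_assoc w, ← conj_mul, ← cC (m'.tor.zR hk) hd.1, mul_inv_cancel_right, e2] at this
  exact (this.2 _ _ _ _ m he.1).elim

omit hE in
theorem caseN (m' : MP A H V' R' L' h') (h0 : R ⊓ R' ⊓ A = ⊥) : V' ≤ R := by
  have h1 : R ⊓ A ⊓ (R' ⊓ A) = ⊥ := (inf_inf_distrib_right R R' A).symm.trans h0
  have hE : Nat.card ↥(R ⊓ A) ≤ Nat.card V := by
    have := card_le_of_le (sup_le inf_le_right inf_le_right : R ⊓ A ⊔ R' ⊓ A ≤ A)
    rwa [c.card_mul inf_le_right inf_le_right h1, c.card_A m, c.card_E m m',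
      Nat.mul_le_mul_right_iff Nat.card_pos] at this
  by_cases h2 : V ⊓ R' = ⊥
  · obtain ⟨e, he, e1, h3⟩ := c.exists_e m hE m
    have h4 : V ⊔ R' ⊓ A = A := eq_of_le_of_card_ge (sup_le m.VA inf_le_right) (by
      rw [c.card_mul m.VA inf_le_right (by rw [← inf_assoc, h2, bot_inf_eq]), c.card_A m, c.card_E m m'])
    obtain ⟨v, hv, d, hd, rfl⟩ := (mem_sup_of_le_normalizer_right ((m.VA.trans (le_C_of_comm c.el.1 inf_le_right)).trans
      (centralizer_le_normalizer _))).1 (h4.ge he.2)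
    by_cases v1 : v = 1
    · rw [v1, one_mul] at he e1
      exact (e1 (h1.le ⟨he, hd⟩)).elim
    exact ((h3 v hv v1).2 _ _ _ _ m' (by rw [cl (m.tor.elem v hv)]; exact hd.1)).elim
  obtain ⟨v, hv, v1⟩ := (bot_or_exists_ne_one _).resolve_left h2
  have h3 := c.R_eq' m hE (c.conj m m'.tor.hS) hv.1 (by
    have := conj_mem_conj hv.1 h'
    rwa [← mem_C1.1 (m'.tor.hR hv.2), mul_inv_cancel_right] at this) v1
  exact (m'.tor.le_or_le c.comm m.tor.RS (conj_eq_iff_mem_normalizer.1 h3)).resolve_right fun e =>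
    m.E (by rw [← h0, inf_eq_left.2 e])

omit hE m in
theorem false : False := by
  obtain ⟨V, R, L, h, m⟩ := c.exists_mp
  refine c.caseO m fun g hg => ?_
  by_cases e : R ⊓ g •ᶜ R ⊓ A = ⊥
  · exact .inr (c.caseN m (c.conj m hg) e)
  · exact (c.tri m (c.conj m hg) e).imp
      (fun e => ⟨conj_eq_iff_mem_normalizer.1 e.1, conj_eq_iff_mem_normalizer.1 e.2⟩) And.left

end C2

theorem Cx.false (c : Cx A) : False := by
  by_cases h : ∃ S, Syl S ∧ A ≤ S ∧ S ≤ C[A]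
  · obtain ⟨S, hS, h1, h2⟩ := h
    refine c.case1 fun P hP hA => ?_
    obtain ⟨n, hn, h3⟩ := (hS.mono (c.scl.le_normalizer hS.isPGroup h1) le_top).exists_conj_le hP
      (c.scl.le_normalizer hP hA)
    have := h3.trans h2
    rwa [← conj_eq_iff_mem_normalizer.2 hn, ← conj_centralizer, conj_le_conj_iff] at this
  push Not at h
  obtain ⟨S, hS, h1⟩ := exists_isSylowIn_ge c.pA le_top
  exact C2.false ⟨c, h, hS, h1, rfl⟩

end Cfsg.Lib.AbInt
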